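import Cfsg.Agent.F24T.L3

/-! `form`: the quadratic form is the only nondegenerate one preserved by `N0`; `top`: the extensions `X0.2`. -/

set_option autoImplicit false

namespace Cfsg.Agent.F24T
open Cfsg.Agent.Comp Subgroup MulAction J4T

local notation "W" => zpowers wA

theorem form {u : GL'} (h : ∀ x ∈ N0, u * x * u⁻¹ ∈ OQ) : u ∈ OQ := by
  obtain ⟨c, hc⟩ := exists_code le_rfl u
  have orb : ∀ b < 4096, ∀ a, memL a (orbV LN 140 b) = true → bt (app c a) (app c a) = bt (app c b) (app c b) :=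
    fun b hb a ha => by
      obtain ⟨g, hg, rfl⟩ := orbV_reach codesN.toMR hb (memL_iff.1 ha)
      have := h g hg (u (XV.mk' 12 b))
      rw [show (u * g * u⁻¹) (u (XV.mk' 12 b)) = u (g (XV.mk' 12 b)) by simp, hc.2, hc.2, XV.mk'_val hb] at this
      exact this
  have o1 := orb 1 (by norm_num); have o5 := orb 5 (by norm_num)
  generalize bt (app c 1) (app c 1) = α at o1
  generalize bt (app c 5) (app c 5) = β at o5
  have pol : ∀ a b, memL a (orbV LN 140 1) = true → memL b (orbV LN 140 1) = true →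
      bf (app c a) (app c b) = bt (app c (a ^^^ b)) (app c (a ^^^ b)) := fun a b ha hb => by
    rw [app_xor, q_xor, o1 a ha, o1 b hb, Nat.xor_self, Nat.zero_xor]
  have h0 : β = 0 := by
    have e1 := (pol 1 4 (by decide +kernel) (by decide +kernel)).trans (o5 _ (by decide +kernel))
    have e2 := (pol 2 4 (by decide +kernel) (by decide +kernel)).trans (o5 _ (by decide +kernel))
    have e3 := (pol (1 ^^^ 2) 4 (by decide +kernel) (by decide +kernel)).trans (o5 _ (by decide +kernel))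
    rw [app_xor, bf_xor, e1, e2, Nat.xor_self] at e3; exact e3.symm
  have k : forceL (orbV LN 140 1) (fun l => forceL (orbV LN 140 5) fun l' => allLt 12 fun i => band (memL (2 ^ i) l)
      (allLt 12 fun j => bor (Nat.beq i j) (bor (band (memL (2 ^ i ^^^ 2 ^ j) l) (Nat.beq (bf (2 ^ i) (2 ^ j)) 1))
        (band (memL (2 ^ i ^^^ 2 ^ j) l') (Nat.beq (bf (2 ^ i) (2 ^ j)) 0))))) = true := by decide +kernel
  have k := allLt_iff.1 (unL (unL k :) :)
  simp only [band_eq, bor_eq, Bool.and_eq_true, Bool.or_eq_true, nbeq, allLt_iff] at k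
  have B : ∀ i < 12, ∀ j < 12, bf (app c (2 ^ i)) (app c (2 ^ j)) = α * bf (2 ^ i) (2 ^ j) := fun i hi j hj => by
    rcases (k i hi).2 j hj with rfl | e | e
    · simp [bf_self]
    · rw [pol _ _ (k i hi).1 (k j hj).1, o1 _ e.1, e.2, mul_one]
    · rw [pol _ _ (k i hi).1 (k j hj).1, o5 _ e.1, e.2, h0, mul_zero]
  have h1 : α = 1 := by
    have : α < 2 := o1 1 (by decide +kernel) ▸ bt_lt _ _
    by_contra h1
    obtain rfl : α = 0 := by omega
    have h2 := lin_ext (n := 12) (f := fun a => bf (app c (2 ^ 0)) (app c a)) (g := fun _ => 0)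
      (fun _ _ _ _ => by simp only [app_xor, bf_xor']) (fun _ _ _ _ => rfl) fun j hj => by simpa using B 0 (by norm_num) j hj
    have h3 : app c (2 ^ 0) = 0 := by
      rw [← pack_bf _ (app_lt c _)]
      refine (pack_congr (v' := fun _ => 0) fun i hi => ?_).trans (by decide +kernel)
      have hi' : 2 ^ (i ^^^ 1) < 2 ^ 12 := by interval_cases i <;> decide
      have := h2 _ (u⁻¹ ⟨_, hi'⟩).lt
      rw [← hc.2 (u⁻¹ _), ← MulAut.mul_apply, mul_inv_cancel] at this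
      exact this
    exact absurd (congrArg XV.val (u.map_eq_one_iff.1 (XV.ext ((hc.2 ⟨1, by norm_num⟩).trans h3)))) one_ne_zero
  refine (isoB_iff hc).1 ?_
  simp only [isoB, force_eq, allLt_iff, band_eq, Bool.and_eq_true, nbeq]
  refine fun i hi => ⟨by rw [← app_pow _ hi, o1 _ (k i hi).1, h1], fun j hj => ?_⟩
  rw [← app_pow _ hi, ← app_pow _ (hj.trans hi), B i hi j (hj.trans hi), h1, one_mul]; rfl

theorem nrm_S0 {g : GL'} (hg : g ∈ normalizer (T0 : Set GL')) : g ∈ normalizer (S0 : Set GL') :=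
  mem_normalizer_fintype fun x hx => scanS (conj_mem_of_norm hg (S0_T0 hx)) (by
    obtain ⟨b, hb, e⟩ : ∃ b ∈ T0, aS = g * b * g⁻¹ := ⟨_, conj_mem_of_norm (inv_mem hg) (S0_T0 aS_S0), by group⟩
    have h1 : x * b * x⁻¹ * b⁻¹ ∈ D0 := by
      simpa [mul_assoc] using mul_mem (S0_D0 hx) (conj_mem_of_norm (P0_D0 (T0_P0 hb)) (inv_mem (S0_D0 hx)))
    have h2 : x * (x * b * x⁻¹ * b⁻¹) * x⁻¹ * (x * b * x⁻¹ * b⁻¹)⁻¹ = 1 := by rw [D0_comm (S0_D0 hx) h1]; simp
    have h3 := congrArg (fun t => g * t * g⁻¹) h2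
    simp only [mul_one, mul_inv_cancel] at h3
    convert one_mem W using 1
    rw [← h3, e]; group)

theorem mono_X0 {g : GL'} (hw : g ∈ Cw) (hT : g ∈ normalizer (T0 : Set GL')) (hX : g ∈ normalizer (X0 : Set GL')) :
    ∃ n ∈ X0, g = n ∨ ∃ t, IR cτ t ∧ g = n * t := by
  obtain ⟨n, hn, k, rfl⟩ := M0_dec (mono hw (le_of_pc okS (by decide +kernel)) S0_D0 (nrm_S0 hT))
  have h6 : hH ^ (6 : ℤ) = 1 := by
    exact_mod_cast isCanon_IR.func (isGrp_IR.pow IR_hH 6) ((by decide +kernel : powC mulM one12 cH 6 = one12).symm ▸ isGrp_IR.one)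
  obtain ⟨j, hj, e⟩ : ∃ j < 6, hH ^ k = hH ^ j := ⟨(k % 6).toNat, by omega, by
    rw [zpow_eq_zpow_emod k h6, ← zpow_natCast]; congr 1; omega⟩
  rw [e] at hX ⊢
  have h1 : hH ^ j ∈ normalizer (X0 : Set GL') := by simpa using mul_mem (le_normalizer (inv_mem (N0_le hn))) hX
  obtain ⟨y, hy, ey⟩ := isGrp_IR.evalW_mem codesX0 [6, 4]
  have h2 := sgsX0.orb (conj_mem_of_norm h1 hy)
  have I := isGrp_IR.pow IR_hH j
  rw [(isGrp_IR.conj I ey).1.2, XV.mk'_val (by norm_num), ← memL_iff] at h2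
  have k : forceL (orbV sgX0 400 3584) (fun l => allLt 6 fun j => force (powC mulM one12 cH j) fun a => imp
      (memL (app (conjC mulM invM a (evalW mulM invM one12 LX0 [6, 4])) 3584) l) (bor (Nat.beq a one12) (Nat.beq a cτ))) = true := by
    decide +kernel
  have k2 := imp_iff.1 (unF (allLt_iff.1 (unL k :) j hj :) :) h2
  rw [bor_eq, Bool.or_eq_true, nbeq, nbeq] at k2
  exact ⟨n, N0_le hn, k2.imp (fun e => by rw [isCanon_IR.func I (e ▸ isGrp_IR.one), mul_one]) fun e => ⟨_, e ▸ I, rfl⟩⟩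

theorem top {R : Subgroup GL'} (hX : X0 ≤ R) (hi : X0.relIndex R = 2) (hW : ∀ g ∈ R, g * wA * g⁻¹ ∈ W) :
    ∃ c ∈ [cτ, cκ, cρ], R = Xc c := by
  have mm : ∀ {a b}, a ∈ R → b ∈ R → (a * b ∈ X0 ↔ (a ∈ X0 ↔ b ∈ X0)) := fun ha hb =>
    mul_mem_iff_of_index_two (H := X0.subgroupOf R) hi (a := ⟨_, ha⟩) (b := ⟨_, hb⟩)
  have nX : ∀ g ∈ R, g ∈ normalizer (X0 : Set GL') := fun g hg => mem_normalizer_fintype fun x hx => by
    rw [SetLike.mem_coe, mm (mul_mem hg (hX hx)) (inv_mem hg), mm hg (hX hx), inv_mem_iff]; simp [show x ∈ X0 from hx]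
  suffices ∃ c ∈ [cτ, cκ, cρ], ∃ t ∈ R, IR c t ∧ t ∉ X0 by
    obtain ⟨c, hc, t, ht, e, h⟩ := this
    refine ⟨c, hc, le_antisymm (fun r hr => ?_) (((codesX0.mono hX).append (CodesIn.cons ht e (CodesIn.nil _))).closure_le
      isCanon_IR.func)⟩
    by_cases h1 : r ∈ X0
    · exact X0_le_Xc c h1
    · simpa using mul_mem (X0_le_Xc c ((mm hr (inv_mem ht)).2 (by simp [h1, h])))
        (subset_closure (k := genSet IR (LXc c)) ⟨c, by simp [LXc], e⟩)
  obtain ⟨g0, hg0, h0⟩ : ∃ g ∈ R, g ∉ X0 := by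
    by_contra! h
    rw [relIndex_eq_one.2 h] at hi; omega
  have := Fact.mk Nat.prime_three
  obtain ⟨x, hx, h1⟩ := exists_conj_le_sylow (K := X0) (P := T0) (Q := T0.map (MulAut.conj g0).toMonoidHom) Nat.prime_three
    T0_X0 (by rintro _ ⟨t, ht, rfl⟩; exact conj_mem_of_norm (nX g0 hg0) (T0_X0 ht)) card_T0 card_X0 (by norm_num)
    ((IsPGroup.of_card card_T0).map _)
  have hg := mul_mem (hX hx) hg0
  have hn : x * g0 ∉ X0 := fun h => h0 ((mul_mem_cancel_left hx).1 h)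
  have hT : x * g0 ∈ normalizer (T0 : Set GL') := mem_normalizer_fintype fun t ht => by
    simpa [mul_assoc] using h1 _ ⟨t, ht, rfl⟩
  generalize x * g0 = g at hg hn hT
  have fin : ∀ {c n t}, c ∈ [cτ, cκ, cρ] → IR c t → n ∈ X0 → g = n * t → ∃ c ∈ [cτ, cκ, cρ], ∃ t ∈ R, IR c t ∧ t ∉ X0 :=
    fun hc ht hn' e => ⟨_, hc, _, (mul_mem_cancel_left (hX hn')).1 (e ▸ hg), ht, fun h => hn (e ▸ mul_mem hn' h)⟩
  rcases sq_Cw (hW g hg) with hw | hw
  · obtain ⟨n, hn', e | ⟨t, ht, e⟩⟩ := mono_X0 hw hT (nX g hg)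
    exacts [absurd (e ▸ hn') hn, fin (by simp) ht hn' e]
  · obtain ⟨k, hk⟩ := exists_of_okI (c := cκ) (by decide +kernel)
    have k1 : k * wA = wA * wA * k := isCanon_IR.func (isGrp_IR.mul hk IR_wA)
      ((by decide +kernel : mulM cκ cW = mulM (mulM cW cW) cκ).symm ▸ isGrp_IR.mul (isGrp_IR.mul IR_wA IR_wA) hk)
    have k2 : IR cκ k⁻¹ := (by decide +kernel : invM cκ = cκ) ▸ hk.inv
    obtain ⟨n, hn', e | ⟨t, ht, e⟩⟩ := mono_X0 (Nw.mul_mem_Cw hw k1)
      (mul_mem hT (norm_of_code (isGrp_IR.slpW [[5], [7], [9], [11], [13]] (pc3_spec okT).1) hk (by decide +kernel)))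
      (mul_mem (nX g hg) (norm_of_code (L := LX0) (isGrp_IR.slpW [[1], [7], [9]] codesX0) hk (by decide +kernel)))
    · exact fin (by simp) k2 hn' (eq_mul_inv_of_mul_eq e)
    · exact fin (c := cρ) (by simp) ((by decide +kernel : mulM cτ cκ = cρ) ▸ isGrp_IR.mul ht k2) hn'
        (by rw [← mul_assoc, ← e, mul_inv_cancel_right])

end Cfsg.Agent.F24T
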