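import Cfsg.Agent.F24T.N
import Cfsg.Agent.F24T.L4
import Cfsg.Agent.J4T.A1
import Cfsg.Agent.LES.Struct
import Cfsg.Prelude.Def_MonsterType

/-! Step A1: a group of large Fischer type at `z` has a frame with `St (Xc c) z p θ μ` (`exists_St`). -/

set_option autoImplicit false

namespace Cfsg.Agent.F24T
open Cfsg.Agent.Comp Subgroup J4T LES Known

theorem equiv_pi {V : Type*} [CommGroup V] [Finite V] (h : ∀ v : V, v ^ 2 = 1) (hc : Nat.card V = 2 ^ 12) :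
    Nonempty (Additive V ≃+ (Fin 12 → ZMod 2)) := by
  let inst : Module (ZMod 2) (Additive V) := AddCommGroup.zmodModule fun x => by
    apply Additive.toMul.injective
    rw [toMul_nsmul, h, toMul_zero]
  have := Module.natCard_eq_pow_finrank (K := ZMod 2) (V := Additive V)
  rw [Nat.card_zmod, show Nat.card (Additive V) = 2 ^ 12 from hc] at this
  exact ⟨(Module.finBasisOfFinrankEq _ _ (Nat.pow_right_injective le_rfl this).symm).equivFun.toAddEquiv⟩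

theorem W_fpf {g : GL'} (hg : g ∈ zpowers wA) (h1 : g ≠ 1) {v : XV 12} (h : g v = v) : v = 1 := by
  have k : ∀ v, wA v = v → v = 1 := fun v h => XV.ext (all4096 (f := fun v => imp (Nat.beq (app cW v) v) (Nat.beq v 0))
    (by decide +kernel) (P := fun v => app cW v = v → v = 0) (fun v h e => nbeq.1 (imp_iff.1 h (nbeq.2 e))) _ v.lt
    (by rw [← w_val, h]))
  rcases mem_W.1 hg with rfl | rfl | rfl
  exacts [absurd rfl h1, k v h, k v (by rw [← ww4, MulAut.mul_apply, h, h])]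

theorem exists_μ0 {H : Type*} [Group H] [Finite H] {Q : Subgroup H} [Q.Normal] {z : H} (hz : ∀ y, Commute y z)
    (hQ : ES Q z) (hc : Nat.card Q = 8192) (cQ : ∀ x, (∀ y ∈ Q, Commute x y) → x = 1 ∨ x = z) (hO : pCore 2 H ≤ Q) :
    ∃ μ : H →* GL', (∀ h, μ h = 1 ↔ h ∈ Q) ∧ ∀ h, (∀ v, μ h v = v → v = 1) → ∀ x ∈ Q, Commute h x → x = 1 ∨ x = z := by
  have : (zpowers z).Normal := ⟨by rintro _ ⟨k, rfl⟩ g; simp [((hz g).zpow_right k).eq]⟩
  let π := QuotientGroup.mk' (zpowers z)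
  have := ‹Q.Normal›.map π (QuotientGroup.mk'_surjective _)
  let ρ : H →* MulAut (Q.map π) := MulAut.conjNormal.comp π
  have hs {c x} (hx : x ∈ Q) : ρ c ⟨π x, x, hx, rfl⟩ = ⟨π x, x, hx, rfl⟩ ↔ c * x * c⁻¹ * x⁻¹ ∈ zpowers z := by
    rw [← QuotientGroup.eq_one_iff, Subtype.ext_iff, ← mul_inv_eq_one]; rfl
  have h1 : ∀ q ∈ Q, ρ q = 1 := fun q hq => MulEquiv.ext <| by
    rintro ⟨_, x, hx, rfl⟩
    refine (hs hx).2 ?_
    rcases hQ.comm q hq x hx with e | e <;> simp [e, (hz x).eq]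
  let inst : CommGroup (Q.map π) := { (inferInstance : Group _) with
    mul_comm := by
      rintro ⟨_, a, ha, rfl⟩ b
      exact Subtype.ext (mul_inv_eq_iff_eq_mul.1 (congrArg Subtype.val (DFunLike.congr_fun (h1 a ha) b))) }
  have h2 := Solv.card_map_mul_card_inf_ker π Q
  rw [QuotientGroup.ker_mk', inf_eq_left.2 (zpowers_le.2 hQ.zQ), Nat.card_zpowers, hQ.z2, hc] at h2
  obtain ⟨e1⟩ := equiv_pi (V := Q.map π) (by
    rintro ⟨_, a, ha, rfl⟩
    refine Subtype.ext ((QuotientGroup.eq_one_iff (a ^ 2)).2 ?_)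
    rcases hQ.sq a ha with e | e <;> simp [pow_two, e]) (by omega)
  obtain ⟨e2⟩ := equiv_pi (XV.sq (n := 12)) XV.card
  let e : Q.map π ≃* XV 12 := MulEquiv.toAdditive.symm (e1.trans e2.symm)
  refine ⟨(MulAut.congr e).toMonoidHom.comp ρ, fun h => ⟨fun hh => ?_, fun hh => (congrArg (MulAut.congr e) (h1 h hh)).trans (map_one _)⟩, fun h hf x hx hc => ?_⟩
  · refine hO (Solv.le_pCore (N := ρ.ker) (fun ⟨g, hg⟩ => ⟨2, Subtype.ext ?_⟩) ((MulAut.congr e).map_eq_one_iff.1 hh))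
    have h3 := cQ (g * g) fun y hy => by
      have h4 := (mem_zp hQ.z2).1 ((hs hy).1 (DFunLike.congr_fun (MonoidHom.mem_ker.1 hg) _))
      have h5 : g * y = (g * y * g⁻¹ * y⁻¹) * (y * g) := by group
      rcases h4 with e | e <;> rw [e] at h5
      · rw [one_mul] at h5; exact Commute.mul_left h5 h5
      · show g * g * y = y * (g * g)
        rw [mul_assoc, h5, ← mul_assoc, (hz g).eq, mul_assoc, ← mul_assoc g, h5, ← mul_assoc, ← mul_assoc, hQ.zz]; group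
    show g ^ 2 ^ 2 = 1
    rw [show g ^ 2 ^ 2 = g * g * (g * g) by simp only [show 2 ^ 2 = 4 from rfl, pow_succ, pow_zero, one_mul, mul_assoc]]
    rcases h3 with e | e <;> rw [e]
    exacts [mul_one 1, hQ.zz]
  · have := hf (e ⟨π x, x, hx, rfl⟩) (by simpa using (hs hx).2 (by simp [hc.eq]))
    exact (mem_zp hQ.z2).1 ((QuotientGroup.eq_one_iff x).1 (congrArg Subtype.val (e.map_eq_one_iff.1 this)))

theorem conj_X0 {H : Type*} [Group H] [Finite H] {Q N M : Subgroup H} [N.Normal] (μ : H →* GL') (ker : ∀ h, μ h = 1 ↔ h ∈ Q)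
    {p : H} (op : orderOf p = 3) (pQ : p ∉ Q) (hN : Q ⊔ zpowers p = N) (hNM : N ≤ M)
    (e : Nonempty (M ⧸ N.subgroupOf M ≃* U43P.G)) :
    ∃ u, (∀ y, y ∈ X0 ↔ u⁻¹ * y * u ∈ M.map μ) ∧ u * μ p * u⁻¹ ∈ zpowers wA := by
  obtain ⟨e⟩ := e
  obtain ⟨ψ, ψs, ψk⟩ := exψ
  let φ := e.toMonoidHom.comp (QuotientGroup.mk' _)
  have φs : Function.Surjective φ := e.surjective.comp (QuotientGroup.mk'_surjective _)
  have pN : p ∈ N := hN ▸ mem_sup_right (mem_zpowers p)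
  have φk : ∀ m : M, φ m = 1 ↔ μ m ∈ zpowers (μ p) := fun m => by
    rw [show φ m = 1 ↔ m.1 ∈ N by simp [φ, mem_subgroupOf]]
    refine ⟨fun hn => ?_, fun ⟨j, hj⟩ => ?_⟩
    · exact (hN ▸ sup_le (fun x hx => by simp [(ker x).2 hx]) (zpowers_le.2 (mem_zpowers _)) :
        N ≤ (zpowers (μ p)).comap μ) hn
    · have := (hN ▸ le_sup_left : Q ≤ N) ((ker (m * (p ^ j)⁻¹)).1 (by rw [map_mul, map_inv, map_zpow, ← hj]; simp))
      simpa using mul_mem this (zpow_mem pN j)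
  let Γ := ((φ.comp (MonoidHom.fst M X0)).eqLocus (ψ.comp (MonoidHom.snd M X0))).map
    ((μ.comp M.subtype).prodMap X0.subtype)
  have hΓ : ∀ {y x}, (y, x) ∈ Γ ↔ ∃ (m : M) (hx : x ∈ X0), μ m = y ∧ φ m = ψ ⟨x, hx⟩ :=
    ⟨by rintro ⟨⟨m, x⟩, h, e⟩; cases e; exact ⟨m, x.2, rfl, h⟩, by rintro ⟨m, hx, rfl, h⟩; exact ⟨(m, ⟨_, hx⟩), h, rfl⟩⟩
  have := Fact.mk Nat.prime_three
  obtain ⟨u, h1, h2⟩ := Cor.L1 (Γ := Γ) (π := μ p) ⟨fun x hx => let ⟨m, hm⟩ := φs (ψ ⟨x, hx⟩); ⟨_, hΓ.2 ⟨m, hx, rfl, hm⟩⟩,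
    fun h => let ⟨_, hx, _⟩ := hΓ.1 h; hx, fun h => by obtain ⟨m, hx, rfl, h'⟩ := hΓ.1 h; rw [← φk, h', ψk],
    hΓ.2 ⟨⟨p, hNM pN⟩, one_mem _, rfl, ((φk _).2 (mem_zpowers _)).trans (map_one ψ).symm⟩,
    hΓ.2 ⟨1, wA_X0, map_one μ, (map_one φ).trans ((ψk _).2 (mem_zpowers _)).symm⟩,
    orderOf_eq_prime (by rw [← map_pow, ← op, pow_orderOf_eq_one, map_one]) fun e => pQ ((ker p).1 e)⟩
  refine ⟨u, fun y => ?_, h2⟩
  rw [← (SetLike.ext_iff.1 h1 y), mem_lift_cj, mem_lift]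
  exact ⟨fun ⟨_, _, h⟩ => let ⟨m, _, e, _⟩ := hΓ.1 h; ⟨m, m.2, e⟩, fun ⟨m, hm, e⟩ =>
    let ⟨x, hx⟩ := ψs (φ ⟨m, hm⟩); ⟨x, x.2, hΓ.2 ⟨⟨m, hm⟩, x.2, e, hx.symm⟩⟩⟩

variable {G : Type*} [Group G] [Finite G] {z : G} {Q : Subgroup (centralizer ({z} : Set G))} [Q.Normal]

theorem exists_St (hF : IsOfLargeFischerTypeAt z Q) : Q.map (Subgroup.subtype _) = twoCoreOfCentralizer z ∧
    ∃ p θ μ, ∃ c ∈ [cτ, cκ, cρ], St (Xc c) z p θ μ := by
  obtain ⟨⟨hz, hF, hQ, hc, -⟩, N, M, _, _, QN, NM, cN, ⟨K, _, _, hK, ⟨e⟩⟩, iM⟩ := hF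
  have hi := (centralizer ({z} : Set G)).subtype_injective
  obtain ⟨L, hE⟩ := LE.of_fstar hz (Q := Q.map (Subgroup.subtype _)) (congrArg _ hF)
    (PGrp.ES_of_mulEquiv hQ (Q.equivMapOfInjective _ hi))
  replace hE : Q.map (Subgroup.subtype _) = twoCoreOfCentralizer z := hE
  refine ⟨hE, ?_⟩
  have mQ : ∀ h : centralizer ({z} : Set G), h.1 ∈ twoCoreOfCentralizer z ↔ h ∈ Q := fun h => by
    rw [← hE]; exact mem_map_iff_mem hi
  replace hc : Nat.card Q = 8192 := hc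
  have := Fact.mk Nat.prime_three
  obtain ⟨⟨p, pN⟩, op⟩ := exists_prime_orderOf_dvd_card' (G := N) 3 (Dvd.intro _ cN.symm)
  rw [orderOf_mk] at op
  have cP : Nat.card (zpowers p) = 3 := by rw [Nat.card_zpowers, op]
  have pQ : p ∉ Q := fun h => by simpa [cP, hc] using card_dvd_of_le (zpowers_le.2 h)
  have N_eq : Q ⊔ zpowers p = N := by
    refine eq_of_le_of_card_ge (sup_le QN (zpowers_le.2 pN)) (Nat.le_of_dvd Nat.card_pos ?_)
    rw [cN, hc]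
    exact Nat.Coprime.mul_dvd_of_dvd_of_dvd (by norm_num) (cP ▸ card_dvd_of_le le_sup_right)
      (hc ▸ card_dvd_of_le le_sup_left)
  have eU : Nonempty (M ⧸ N.subgroupOf M ≃* U43P.G) := (U43T.equiv hK).elim fun e' => ⟨e.trans e'⟩
  let z' : centralizer ({z} : Set G) := ⟨z, mem_centralizer_singleton_iff.2 rfl⟩
  have h1 (y) : Commute y z' := Subtype.ext (mem_centralizer_singleton_iff.1 y.2)
  obtain ⟨μ0, k0, f0⟩ := exists_μ0 h1 (ES.of_mem hQ ((mem_map_iff_mem hi).1 L.zQ) (fun e => L.z1 (congrArg Subtype.val e))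
    fun y _ => mem_centralizer_singleton_iff.2 (h1 y).eq) hc (fun x hx => (L.cQ x (by
      rintro _ ⟨y, hy, rfl⟩; exact congrArg Subtype.val (hx y hy).eq)).imp Subtype.ext Subtype.ext)
    fun x hx => (mQ x).1 ⟨x, hx, rfl⟩
  obtain ⟨u0, -, hu0⟩ := conj_X0 μ0 k0 op pQ N_eq NM eU
  have fp := f0 p fun v hv => u0.map_eq_one_iff.1 (W_fpf hu0 (by simpa using mt (k0 p).1 pQ) (by simp [hv]))
  rw [hE] at L
  have pz : Commute p.1 z := mem_centralizer_singleton_iff.1 p.2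
  have cE : Nat.card (twoCoreOfCentralizer z) = 8192 := by rw [← hE, card_map_of_injective hi, hc]
  obtain ⟨θ, F, core⟩ := exists_Fr L.toES ((orderOf_coe p).trans op) pz (fun x hx => L.conj_mem pz hx) (by
    rw [← hE]; rintro _ ⟨x, hx, rfl⟩ h
    exact (fp x hx (Subtype.ext h.eq)).imp (congrArg Subtype.val) (congrArg Subtype.val)) cE
  obtain ⟨μ, hμ⟩ := F.exists_μ fun g x hx =>
    (core _).1 (L.conj_mem (mem_centralizer_singleton_iff.1 g.2) ((core _).2 ⟨x, hx, rfl⟩))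
  obtain ⟨hO, ker, μp⟩ := F.μ_facts hμ core L
  replace μp : μ p = wA := μp
  obtain ⟨u, uO, uw, hu⟩ : ∃ u ∈ OQ, Commute u wA ∧ ∀ y, y ∈ X0 ↔ u * y * u⁻¹ ∈ M.map μ := by
    obtain ⟨u, h2, h3⟩ := conj_X0 μ (fun h => (ker h).trans (mQ h)) op pQ N_eq NM eU
    have h4 : u⁻¹ ∈ OQ := form fun x hx => by
      obtain ⟨m, -, e⟩ := (h2 x).1 (N0_le hx)
      rw [inv_inv, ← e]; exact hO m
    rcases sq_Cw (μp ▸ h3) with h | h
    · exact ⟨u⁻¹, h4, mem_Cw.1 (inv_mem h), by simpa using h2⟩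
    · obtain ⟨k, hk⟩ := exists_of_okI (c := cκ) (by decide +kernel)
      have k1 : k * wA = wA * wA * k := isCanon_IR.func (isGrp_IR.mul hk IR_wA)
        ((by decide +kernel : mulM cκ cW = mulM (mulM cW cW) cκ).symm ▸ isGrp_IR.mul (isGrp_IR.mul IR_wA IR_wA) hk)
      have k2 := norm_of_code (L := LX0) (isGrp_IR.slpW [[1], [7], [9]] codesX0) hk (by decide +kernel)
      refine ⟨(k * u)⁻¹, by simpa using mul_mem h4 (inv_mem hk.2), mem_Cw.1 (inv_mem (Nw.mul_mem_Cw k1 h)), fun y => ?_⟩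
      exact (mem_normalizer_iff.1 (inv_mem k2) y).trans ((h2 _).trans (by simp [mul_assoc]))
  obtain ⟨cu, hcu⟩ := exists_IR uO
  obtain ⟨θ', F', hθ', core'⟩ := F.change hcu uw
  let μ' := (MulAut.conj u⁻¹).toMonoidHom.comp μ
  have μ'_eq : ∀ x, μ' x = u⁻¹ * μ x * u := fun x => by simp [μ']
  have μ'p : μ' p = wA := by rw [μ'_eq, μp, mul_assoc, ← uw.eq]; simp
  have ker' : ∀ g, μ' g = 1 ↔ g.1 ∈ twoCoreOfCentralizer z := fun g => by
    rw [← ker, μ'_eq]; simp [mul_eq_one_iff_eq_inv, inv_mul_eq_iff_eq_mul]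
  have hN' : N ≤ (zpowers wA).comap μ' := N_eq ▸ sup_le (fun x hx => by simp [(ker' x).2 ((mQ x).2 hx)])
    (zpowers_le.2 (by simp [μ'p]))
  have hX : M.map μ' = X0 := Subgroup.ext fun y => Iff.trans
    ⟨by rintro ⟨m, hm, rfl⟩; exact ⟨m, hm, by simp [μ'_eq, mul_assoc]⟩,
      fun ⟨m, hm, e⟩ => ⟨m, hm, by simp [μ'_eq, e, mul_assoc]⟩⟩ (hu y).symm
  obtain ⟨c, hc', rng⟩ := top (R := μ'.range) (hX ▸ map_le_range _ _) (by
    rw [← index_comap, ← hX, comap_map_eq, sup_eq_left.2 fun x hx => NM (QN ((mQ x).1 ((ker' x).1 hx))), iM]) (by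
    rintro _ ⟨x, rfl⟩
    simpa [μ'p] using hN' (‹N.Normal›.conj_mem p pN x))
  refine ⟨p, θ', μ', c, hc', ⟨F', fun g => (core g).trans (core' g).symm, fun g hg => ?_, fun g c hc x hx => ?_, ker', rng,
    closure_le_OQ _, ?_, fun g hg => ?_⟩⟩
  · rcases L.cQ g fun y hy => (hg y hy).symm with rfl | rfl
    exacts [one_mem _, L.zQ]
  · have gz : Commute g.1 z := mem_centralizer_singleton_iff.1 g.2
    have hz : ∀ b y, g.1 * (y * z ^ b) * g.1⁻¹ = g.1 * y * g.1⁻¹ * z ^ b := fun b y => by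
      rw [mul_assoc (g.1 * y), ((gz.pow_right b).inv_left).eq]; group
    have key : ∀ v < 4096, ∃ b < 2, g.1 * θ' v * g.1⁻¹ = θ' (app c v) * z ^ b := fun v hv => by
      obtain ⟨b, hb, e⟩ := hμ g (u ⟨v, hv⟩)
      have e1 : (μ g (u ⟨v, hv⟩)).val = app cu (app c v) := by
        rw [← hc.2 ⟨v, hv⟩, ← hcu.1.2, μ'_eq]; simp
      rw [e1, hcu.1.2] at e
      refine ⟨_, xlt2 (xlt2 (ell_lt cu (app c v)) hb) (ell_lt cu v), ?_⟩
      rw [hθ' v hv, hθ' _ (app_lt _ _), hz, e, F.zxor (xlt2 (ell_lt _ _) hb) (ell_lt _ _), F.zxor (ell_lt _ _) hb]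
      simp only [mul_assoc]
      rw [← mul_assoc (z ^ ell _ _), F.zbb, one_mul]
    have key2 : ∃ b < 2, g.1 * θ' x * g.1⁻¹ = θ' (app c x) * z ^ b := by
      rcases split_z hx with h | ⟨v, h, rfl⟩
      · exact key x h
      · obtain ⟨b, hb, e⟩ := key v h
        refine ⟨_, xlt2 hb one_lt_two, ?_⟩
        have := hz 1 (θ' v)
        rw [pow_one] at this
        rw [F'.θz (by omega), this, e, app_xor, app_z, Nat.xor_zero, F.zxor hb one_lt_two, mul_assoc, pow_one]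
    obtain ⟨b, hb, e⟩ := key2
    interval_cases b
    · left; simpa using e
    · right; rw [F'.θz (app_lt' _ _)]; simpa using e
  · obtain ⟨e⟩ := eU
    rw [← M.index_mul_card, iM, card_eq_card_quotient_mul_card_subgroup (N.subgroupOf M), Nat.card_congr e.toEquiv,
      U43P.card, Nat.card_congr (subgroupOfEquivOfLe NM).toEquiv, cN, hc]
  · obtain ⟨x, rfl⟩ := rng ▸ hg
    obtain ⟨n, hn, e⟩ := exists_conj_le_sylow (K := N) (P := zpowers p) (Q := zpowers (x * p * x⁻¹)) (k := 1)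
      Nat.prime_three (zpowers_le.2 pN) (zpowers_le.2 (‹N.Normal›.conj_mem p pN x)) cP
      (cN.trans (by rw [hc])) (by norm_num) (isPGroup_zpowers (j := 1) (by rw [conj_pow, pow_one, ← op]; simp))
    obtain ⟨j, hj⟩ := hN' hn
    obtain ⟨i, hi⟩ := e _ (mem_zpowers _)
    refine ⟨(p ^ j)⁻¹ * (n * x), mul_mem (le_normalizer (inv_mem (zpow_mem (mem_zpowers p.1) j)))
      (mem_normalizer_zpowers ⟨i, by simpa [mul_assoc] using congrArg Subtype.val hi⟩), ?_⟩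
    rw [map_mul, map_mul, map_inv, map_zpow, μ'p, ← hj]; simp

end Cfsg.Agent.F24T
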