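import Cfsg.Agent.F24T.Vf

/-! Properties of `V = ν.range`: action of `E` (`Bt.VR_E`, code `actE e`), `Bt.memV`, `Bt.cent_V`, `Bt.norm_H`
(`N_H(V) = E·⟨x i⟩`), the final action code `cY`. -/

set_option autoImplicit false

namespace Cfsg.Agent.F24T
open Cfsg.Agent.Comp Subgroup J4T

/-- coordinates of an element of `U`. -/
def ucf (y : ℕ) : ℕ := force (ucoord y) fun a => Nat.xor a (Nat.shiftRight (Nat.xor (ut a) y) 6)
def comE (e j : ℕ) : ℕ := emul e (kact (nthL 0 LRg j) (einv e))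
/-- action of `θ e` on `V`. -/
def actE (e : ℕ) : ℕ := pack 12 11 fun i => Nat.xor (Nat.pow 2 i)
  (bif' (Nat.blt i 7) (Nat.shiftLeft (bf e (ut (Nat.pow 2 i))) 6) (ucf (comE e (Nat.sub i 7))))
theorem okE : ∀ e < 4096, ∀ j < 4, ucf (comE e j) < 128 ∧ ut (ucf (comE e j)) = comE e j :=
  all4096 (f := fun e => allLt 4 fun j => force (comE e j) fun y => force (ucf y) fun a =>
    band (Nat.blt a 128) (Nat.beq (ut a) y)) (by decide +kernel) fun e h => by
    simpa only [allLt_iff, force_eq, band_eq, Bool.and_eq_true, nblt, nbeq] using h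
theorem ut_z : ∀ a < 128, ∀ b < 2, ut (a ^^^ b <<< 6) = ut a ^^^ b <<< 12 := by decide +kernel

variable {G : Type*} [Group G] [Finite G] {z p : G} {θ : ℕ → G} {μ : centralizer ({z} : Set G) →* MulAut (XV 12)}
  {x : ℕ → G} {ν : XV 11 →* G} {f : ℕ}

namespace Bt
variable (B : Bt z p θ μ x ν f)
include B

omit [Finite G] in
theorem νU {a : ℕ} (ha : a < 128) : ν (XV.mk' 11 a) = θ (ut a) := F24T.νU B.toFr B.hν ha
omit [Finite G] in
theorem νz : ν (XV.mk' 11 64) = z := by rw [B.νU (by norm_num), show ut 64 = 4096 by decide +kernel, B.hz]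
omit [Finite G] in
theorem νs : ν (XV.mk' 11 1) = θ s0 := by rw [B.νU (by norm_num), show ut 1 = s0 by decide +kernel]
omit [Finite G] in
theorem νx : ν (XV.mk' 11 2) = θ x0 := by rw [B.νU (by norm_num), show ut 2 = x0 by decide +kernel]
omit [Finite G] in
theorem νrho {m : ℕ} (hm : m < 16) : ν (XV.mk' 11 (128 * m)) = rho x m := by
  simpa using νR B.toFr B.hν hm two_pos
omit [Finite G] in
theorem νH (a : XV 11) : ν a ∈ centralizer ({z} : Set G) := by
  rw [mem_centralizer_singleton_iff, ← B.νz, ← map_mul, ← map_mul, mul_comm]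
omit [Finite G] in
theorem card_V : Nat.card ν.range = 2048 := by
  rw [← Nat.card_congr (MonoidHom.ofInjective B.injν).toEquiv, XV.card]; rfl

theorem VR_E {e : ℕ} (he : e < 4096) : VR ν (actE e) (θ e) := by
  have F := B.toFr
  have l : ∀ i < 11, Nat.xor (Nat.pow 2 i) (bif' (Nat.blt i 7) (Nat.shiftLeft (bf e (ut (Nat.pow 2 i))) 6)
      (ucf (comE e (Nat.sub i 7)))) < 2048 := fun i hi => by
    refine Nat.xor_lt_two_pow (n := 11) (Nat.pow_lt_pow_right one_lt_two hi) ?_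
    rw [bif'_eq]; split_ifs with h
    · have := bf_lt e (ut (Nat.pow 2 i))
      generalize bf e _ = b at *
      interval_cases b <;> decide
    · have := (okE e he (Nat.sub i 7) (show i - 7 < 4 by omega)).1; omega
  refine VR.of_basis B.injν (pack_lt fun i hi => (l i hi).trans (by norm_num)) fun i hi => ?_
  rw [actE, col_pack (fun i hi => (l i hi).trans (by norm_num)) hi]
  refine ⟨l i hi, ?_⟩
  by_cases h : i < 7
  · have h2 : 2 ^ i < 128 := Nat.pow_lt_pow_right (n := 7) one_lt_two h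
    have h3 : bf e (ut (2 ^ i)) <<< 6 < 128 := by
      have := bf_lt e (ut (2 ^ i))
      generalize bf e _ = b at *
      interval_cases b <;> decide
    rw [nblt.2 h, bif'_true, B.νU h2, F.conjE (by omega) (ut_lt _), ← ut_z _ h2 _ (bf_lt _ _),
      ← B.νU (Nat.xor_lt_two_pow (n := 7) h2 h3)]; rfl
  · obtain ⟨j, rfl⟩ := Nat.exists_eq_add_of_le (not_lt.1 h)
    have hj : j < 4 := by omega
    have h1 : Nat.blt (7 + j) 7 = false := by rw [← Bool.not_eq_true, nblt]; exact h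
    have h2 := okE e he j hj
    have h3 := B.toSt.KR_act (B.hx (3 + j)) (einv_lt (show e < 8192 by omega))
    rw [show nthL one12 LB (3 + j) = nthL 0 LRg j by interval_cases j <;> rfl] at h3
    rw [h1, bif'_false, show Nat.sub (7 + j) 7 = j from Nat.add_sub_cancel_left .., show Nat.xor (Nat.pow 2 (7 + j))
      (ucf (comE e j)) = ucf (comE e j) ^^^ 2 ^ (7 + j) from Nat.xor_comm .., mk'_xor (by omega)
      (Nat.pow_lt_pow_right one_lt_two hi), map_mul, B.νU h2.1, h2.2, νr F B.hν hj, comE,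
      ← F.mul _ (by omega) _ (kact_lt _ _), ← h3, ← F.inv (by omega)]
    group

theorem VR_E' {e : ℕ} (he : e < 8192) : VR ν (actE (e % 4096)) (θ e) := by
  rcases split_z he with h | ⟨v, h, rfl⟩
  · rw [Nat.mod_eq_of_lt h]; exact B.VR_E h
  · obtain ⟨a, h1, h2⟩ := B.VR_E h
    rw [show 4096 = 2 ^ 12 from rfl, Nat.xor_mod_two_pow, Nat.mod_self, Nat.xor_zero, Nat.mod_eq_of_lt h]
    refine ⟨a, h1, fun w => ?_⟩
    rw [show 2 ^ 12 = 4096 from rfl, B.toFr.θz (by omega), ← h2, mul_assoc (θ v),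
      ← (mem_centralizer_singleton_iff.1 (B.νH w))]; group

theorem μν (a : XV 11) : IR (rcode (a.val / 128)) (μ ⟨ν a, B.νH a⟩) := by
  obtain ⟨h1, -, h2⟩ := KR_rho B.hx (a.val / 128)
  have : (⟨ν a, B.νH a⟩ : centralizer ({z} : Set G)) = ⟨_, B.toSt.θH (ut_lt (a.val % 128))⟩ * ⟨_, h1⟩ :=
    Subtype.ext (B.hν a)
  rw [this, map_mul, B.toSt.μθ (ut_lt _), one_mul]; exact h2

theorem μν_mem (a : XV 11) : μ ⟨ν a, B.νH a⟩ ∈ Rs :=
  let ⟨_, h1, h2⟩ := exists_rcode codesRg (a.val / 128); isCanon_IR.func (B.μν a) h2 ▸ h1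

theorem θ_mem {e : ℕ} (he : e < 8192) (h : ut (ucoord (e % 4096)) % 4096 = e % 4096) : θ e ∈ ν.range := by
  have l := ucoord_lt (e % 4096)
  have h1 : θ (ut (ucoord (e % 4096))) ∈ ν.range := ⟨_, B.νU (by omega)⟩
  have hz : z ∈ ν.range := ⟨_, B.νz⟩
  have k : ∀ y < 8192, θ y ∈ ν.range ↔ θ (y % 4096) ∈ ν.range := fun y hy => by
    rcases split_z hy with h | ⟨v, h, rfl⟩
    · rw [Nat.mod_eq_of_lt h]
    · rw [B.toFr.θz (by omega), mul_mem_cancel_right hz, show 4096 = 2 ^ 12 from rfl, Nat.xor_mod_two_pow,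
        Nat.mod_self, Nat.xor_zero, Nat.mod_eq_of_lt h]
  rwa [k e he, ← h, ← k _ (ut_lt _)]

theorem memV {g : centralizer ({z} : Set G)} (h1 : μ g ∈ Rs) (h2 : ∀ u < 128, Commute g.1 (θ (ut u))) :
    g.1 ∈ ν.range := by
  obtain ⟨c, hc, h3⟩ := listsR _ h1
  obtain ⟨m, hm, rfl⟩ := exists_nthL hc
  have hm' : m < 16 := hm
  rw [LR_eq m hm'] at h3
  have h4 := B.μν (XV.mk' 11 (128 * m))
  rw [XV.mk'_val (by omega), show 128 * m / 128 = m by omega] at h4
  obtain ⟨e, he, h5⟩ := (B.core _).1 ((B.ker (g * ⟨_, B.νH (XV.mk' 11 (128 * m))⟩⁻¹)).1 (by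
    rw [map_mul, map_inv, isCanon_IR.func h3 h4, mul_inv_cancel]))
  have h6 : θ e = g.1 * (ν (XV.mk' 11 (128 * m)))⁻¹ := h5
  rw [← mul_mem_cancel_right (ν.range.inv_mem ⟨XV.mk' 11 (128 * m), rfl⟩), ← h6]
  refine B.θ_mem he (ut_of_perp _ (Nat.mod_lt _ (by norm_num)) fun i hi => ?_)
  have h7 : 2 ^ i < 128 := Nat.pow_lt_pow_right (n := 7) one_lt_two (by omega)
  have h8 : Commute (θ e) (θ (ut (2 ^ i))) := by
    rw [h6]; refine (h2 _ h7).mul_left (Commute.inv_left ?_)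
    rw [← B.νU h7]; exact (Commute.all _ _).map ν
  rw [B.toFr.comm_iff he (ut_lt _)] at h8
  rcases split_z he with h | ⟨v, h, rfl⟩
  · rwa [Nat.mod_eq_of_lt h]
  · rw [show 4096 = 2 ^ 12 from rfl, Nat.xor_mod_two_pow, Nat.mod_self, Nat.xor_zero, Nat.mod_eq_of_lt h]
    simpa only [bf_eq, bt_xor, bt_xor', bt_z, bt_z', Nat.xor_zero] using h8

theorem μ_val (g : centralizer ({z} : Set G)) (v : XV 12) {y : ℕ} (hy : y < 8192)
    (e : g.1 * θ v.val * g.1⁻¹ = θ y) : (μ g v).val = y % 4096 := by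
  obtain ⟨c, hc⟩ := B.toSt.exists_IR g
  obtain ⟨b, hb, e'⟩ := B.toSt.act' g hc.1 (v.lt.trans (show 2 ^ 12 < 8192 by norm_num))
  have e2 : θ y = θ (app c v.val) * z ^ b := e.symm.trans e'
  rw [← B.toFr.θb (app_lt' _ _) hb] at e2
  rw [hc.1.2, B.inj _ hy _ (xlt (app_lt' _ _) (sh_lt hb)) e2, show 4096 = 2 ^ 12 from rfl, Nat.xor_mod_two_pow,
    Nat.mod_eq_of_lt (app_lt _ _)]
  interval_cases b <;> simp

theorem cent_V {g : G} (h : ∀ v, Commute g (ν v)) : g ∈ ν.range := by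
  have gH : g ∈ centralizer ({z} : Set G) := mem_centralizer_singleton_iff.2 (B.νz ▸ h _).eq
  have hU : ∀ u < 128, Commute g (θ (ut u)) := fun u hu => B.νU hu ▸ h _
  refine B.memV (g := ⟨g, gH⟩) (mem_Rs B.toSt.card_Xs (B.toSt.μ_mem _) fun v hv => XV.ext ?_) hU
  obtain ⟨w, e⟩ := B.θ_mem (e := v.val) (v.lt.trans (by norm_num)) (by
    rw [Nat.mod_eq_of_lt (show v.val < 4096 from v.lt)]; exact ut_of_inU _ v.lt hv)
  rw [B.μ_val ⟨g, gH⟩ v (v.lt.trans (by norm_num)) (by rw [← e]; exact mul_inv_eq_iff_eq_mul.2 (h w).eq),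
    Nat.mod_eq_of_lt (show v.val < 4096 from v.lt)]

theorem mem_of_VR {c : ℕ} {g g' : G} (h : VR ν c g) (h' : VR ν c g') : g'⁻¹ * g ∈ ν.range := by
  obtain ⟨a, h1, h2⟩ := h; obtain ⟨b, h3, h4⟩ := h'
  refine B.cent_V fun v => mul_inv_eq_iff_eq_mul.1 ?_
  have : g'⁻¹ * g * ν v * (g'⁻¹ * g)⁻¹ = g'⁻¹ * (g * ν v * g⁻¹) * g' := by group
  rw [this, h2, h1.func h3, ← h4]; group

theorem V_inter_E {v : XV 11} (h : ν v ∈ twoCoreOfCentralizer z) : v.val < 128 := by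
  have h4 : ∀ m < 16, rcode m = one12 → m = 0 := by decide +kernel
  have h5 : v.val < 2048 := v.lt
  have := h4 _ (by omega) (isCanon_IR.canon (B.μν v) ((B.ker ⟨_, B.νH v⟩).2 h ▸ isGrp_IR.one))
  omega

theorem exists_word {g : MulAut (XV 12)} (hg : g ∈ Bs) : ∃ k ∈ closure (Set.range x),
    ∃ h : k ∈ centralizer ({z} : Set G), μ ⟨k, h⟩ = g := by
  induction hg using closure_induction with
  | mem g hg =>
    obtain ⟨c, hc, hg⟩ := hg
    obtain ⟨i, hi, rfl⟩ := exists_nthL hc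
    obtain ⟨h1, -, h2⟩ := B.hx i
    rw [show nthL one12 LB i = nthL 0 LB i by have : i < 7 := hi; interval_cases i <;> rfl] at h2
    exact ⟨_, subset_closure ⟨i, rfl⟩, h1, isCanon_IR.func h2 hg⟩
  | one => exact ⟨1, one_mem _, one_mem _, map_one μ⟩
  | mul g g' _ _ h h' =>
    obtain ⟨k, a, b, rfl⟩ := h; obtain ⟨k', a', b', rfl⟩ := h'
    exact ⟨_, mul_mem a a', mul_mem b b', map_mul μ ⟨k, b⟩ ⟨k', b'⟩⟩
  | inv g _ h =>
    obtain ⟨k, a, b, rfl⟩ := h
    exact ⟨_, inv_mem a, inv_mem b, map_inv μ ⟨k, b⟩⟩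

theorem μ_norm {g : centralizer ({z} : Set G)} (h : g.1 ∈ normalizer (ν.range : Set G)) : μ g ∈ Bs := by
  refine mem_Bs B.toSt.card_Xs (B.toSt.μ_mem g) fun u hu => ?_
  have l : u.val < 8192 := u.lt.trans (by norm_num)
  obtain ⟨v, e⟩ := (mem_normalizer_iff.1 h _).1 (B.θ_mem l (by
    rw [Nat.mod_eq_of_lt (show u.val < 4096 from u.lt)]; exact ut_of_inU _ u.lt hu))
  have h1 := B.V_inter_E (v := v) (e ▸ B.toSt.le.conj_mem (mem_centralizer_singleton_iff.1 g.2) (B.toSt.θE l))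
  rw [← XV.mk'_self v, B.νU h1] at e
  rw [B.μ_val g _ (ut_lt _) e.symm]
  exact ut_inU _ h1

theorem norm_H {g : G} (hH : g ∈ centralizer ({z} : Set G)) (h : g ∈ normalizer (ν.range : Set G)) :
    ∃ e < 8192, ∃ k ∈ closure (Set.range x), g = θ e * k := by
  obtain ⟨k, hk, h1, h2⟩ := B.exists_word (B.μ_norm (g := ⟨g, hH⟩) h)
  obtain ⟨e, he, h5⟩ := (B.core _).1 ((B.ker (⟨g, hH⟩ * ⟨k, h1⟩⁻¹)).1 (by rw [map_mul, map_inv, h2, mul_inv_cancel]))
  exact ⟨e, he, k, hk, by rw [h5]; simp⟩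
end Bt

end Cfsg.Agent.F24T
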