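import Cfsg.Agent.F24T.U43

/-! Step B, fusion of `z` in `E`: `St.inv_E`, `St.not_fused`, `St.fused`; for `s = z^g = θ s0` the groups `E ∩ E^g`
(`St.D`) and `E^g ∩ H` (`St.A`, `St.A'`). -/

set_option autoImplicit false

namespace Cfsg.Agent.F24T
open Cfsg.Agent.Comp Subgroup Cfsg.Agent.BG LES MulAction J4T

def LD : List ℕ := [0, 5, 17, 20, 65, 68, 80, 85, 170, 175, 187, 190, 235, 238, 250, 255, 1280, 1285, 1297, 1300, 1345, 1348, 1360, 1365, 1450, 1455, 1467, 1470, 1515, 1518, 1530, 1535, 2816, 2821, 2833, 2836, 2881, 2884, 2896, 2901, 2986, 2991, 3003, 3006, 3051, 3054, 3066, 3071, 3584, 3589, 3601, 3604, 3649, 3652, 3664, 3669, 3754, 3759, 3771, 3774, 3819, 3822, 3834, 3839]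
def LA : List ℕ := [0x800400200100080040020010008004002001, 0x800400200100002001008004020010080040, 0x8554ff2ff1aad8ab45d2ab15da8b54da2b51, 0x8554ff2ff1aada2b51da8b54d2ab15d8ab45, 0x8ff4aa2551ff78ae4572ae157a8e547a2e51, 0x8ff4aa2551ff7a2e517a8e5472ae1578ae45, 0x8aa4552aa155a2a515a8a545aa2551aa8554, 0x8aa4552aa155aa8554aa2551a8a545a2a515, 0x8aa4552aa155a8a545a2a515aa8554aa2551, 0x8aa4552aa155aa2551aa8554a2a515a8a545, 0x8ff4aa2551ff72ae1578ae457a2e517a8e54, 0x8ff4aa2551ff7a8e547a2e5178ae4572ae15, 0x8554ff2ff1aad2ab15d8ab45da2b51da8b54, 0x8554ff2ff1aada8b54da2b51d8ab45d2ab15, 0x800400200100020010080040002001008004, 0x800400200100008004002001080040020010, 0x300100c004000300100c004000300100c004, 0x300100c0040000c0040030010c0040030010, 0x3aa1ffc554aa93fe159cfe459f3e519fce54, 0x3aa1ffc554aa9fce549f3e519cfe4593fe15, 0x3ff155cff455f3f515fcf545ff3551ffc554, 0x3ff155cff455ffc554ff3551fcf545f3f515, 0x3551aacaa4ff6cfb4563fb156fcb546f3b51,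 0x3551aacaa4ff6f3b516fcb5463fb156cfb45, 0x3aa1ffc554aa9cfe4593fe159fce549f3e51, 0x3aa1ffc554aa9f3e519fce5493fe159cfe45, 0x300100c004000c004003001000c004003001, 0x300100c0040000300100c0040300100c0040, 0x3551aacaa4ff63fb156cfb456f3b516fcb54, 0x3551aacaa4ff6fcb546f3b516cfb4563fb15, 0x3ff155cff455fcf545f3f515ffc554ff3551, 0x3ff155cff455ff3551ffc554f3f515fcf545]

theorem orbsX (v : ℕ) (hv : v < 4096) (h : bt v v = 0) (h0 : v ≠ 0) : v ∈ orbV LX0 1800 s0 ∨ v ∈ orbV LX0 400 x0 := by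
  have k : ∀ m, force m (fun m => allLt 64 fun a => allLt 64 fun b => force (Nat.add (Nat.mul 64 a) b) fun v =>
      bor (Nat.beq (bt v v) 1) (tb m v)) = true → m.testBit v = true := fun m k => by
    rw [force_eq] at k
    have := all4096 k (fun _ h => h) v hv
    rwa [h, bor_eq, show Nat.beq 0 1 = false from rfl, Bool.false_or, tb_eq] at this
  rcases mem_of_mask _ _ (k (maskL (orbV LX0 1800 s0) (maskL (orbV LX0 400 x0) (2 ^ 0))) (by decide +kernel)) with h | h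
  · exact Or.inr ((mem_of_mask _ _ h).resolve_left (by rw [Nat.testBit_two_pow, decide_eq_true_iff]; exact h0.symm))
  · exact Or.inl h
def surv (l L : List ℕ) (w : List ℕ) : List ℕ := force (evalW mulM invM one12 L w) fun t => filterL (fun c =>
  band (Nat.beq (mulM c c) one12) (commC mulM c (conjC mulM invM t c))) l
def LT0 : List ℕ := filterL (commC mulM cW) LT

/-- a `2`-subgroup of `K ⊓ Stab s` given by words, with the list of its elements. -/
theorem sylP {K : Subgroup (MulAut (XV 12))} {L l B : List ℕ} (hL : CodesIn IR L K) (ws : List (List ℕ)) {s k : ℕ}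
    (hs : s < 4096) (h : forceL ((slpW mulM invM one12 ws L).drop L.length) (fun D => forceL l fun l =>
      band (band (allL D fun c => Nat.beq (app c s) s) (band (memL one12 l) (allL D fun g => allL l fun c =>
        force (mulM g c) fun x => memL x l))) (band (band (allL B fun b => Nat.blt b (Nat.pow 2 12)) (Nat.ble (lenL l) (2 ^ k)))
        (Nat.ble (2 ^ k) (chainL app (fun a => a) 40 B D)))) = true) :
    ∃ P ≤ K ⊓ stabilizer (MulAut (XV 12)) (XV.mk' 12 s), #P = 2 ^ k ∧ Lists IR l P := by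
  rw [forceL_eq, forceL_eq, band_eq, band_eq, band_eq (band _ _), band_eq (allL B _)] at h
  simp only [Bool.and_eq_true, nble] at h
  obtain ⟨⟨h1, h2⟩, ⟨h3, h4⟩, h5⟩ := h
  have c : CodesIn IR ((slpW mulM invM one12 ws L).drop L.length) (K ⊓ stabilizer (MulAut (XV 12)) (XV.mk' 12 s)) :=
    fun c hc => let ⟨g, a, b⟩ := isGrp_IR.slpW ws hL c (List.mem_of_mem_drop hc)
      ⟨g, ⟨a, (b.1.mk'_eq hs).trans (congrArg _ (nbeq.1 (allL_iff.1 h1 c hc)))⟩, b⟩
  have l := lists_of_closed isGrp_IR h2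
  exact ⟨_, c.closure_le isCanon_IR.func, le_antisymm ((l.card_le isCanon_IR.func).trans h4)
    (h5.trans (chainM_le_card h3 c.closure.toMR 40)), l⟩

variable {G : Type*} [Group G] [Finite G] {z p : G} {θ : ℕ → G} {μ : centralizer ({z} : Set G) →* MulAut (XV 12)}

namespace St
variable {X : Subgroup (MulAut (XV 12))} (S : St X z p θ μ)
include S

theorem θmod {x : ℕ} (hx : x < 8192) : θ x = θ (x % 4096) ∨ θ x = θ (x % 4096) * z := by
  rcases split_z hx with h | ⟨v, hv, rfl⟩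
  · rw [Nat.mod_eq_of_lt h]; exact Or.inl rfl
  · rw [show (v ^^^ 4096) % 4096 = v from (Nat.xor_mod_two_pow (n := 12)).trans (by
      rw [Nat.mod_eq_of_lt hv]; exact Nat.xor_zero v), S.toFr.θz (by omega)]; exact Or.inr rfl

theorem ne_of {s : ℕ} (hs : s < 4096) (h0 : s ≠ 0) : θ s ≠ 1 ∧ θ s ≠ z :=
  ⟨fun e => h0 (S.inj _ (by omega) _ (by omega) (e.trans S.toFr.θ0.symm)),
    fun e => by have := S.inj _ (by omega) _ (by omega) (e.trans S.hz.symm); omega⟩

theorem conj_of {s x : ℕ} (hs : s < 4096) (h0 : s ≠ 0) (hx : x < 8192) {a : MulAut (XV 12)} (ha : a ∈ X)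
    (h : (a (XV.mk' 12 s)).val = x % 4096) : ∃ k : centralizer ({z} : Set G), μ k = a ∧ k * θ s * k⁻¹ = θ x := by
  obtain ⟨k, rfl⟩ := S.range.ge ha
  obtain ⟨c, hc⟩ := S.exists_IR k
  obtain ⟨q, hq, e⟩ := S.es.exists_conj (S.θE (x := s) (by omega)) (S.ne_of hs h0).1 (S.ne_of hs h0).2
  obtain ⟨y, hy, rfl⟩ := (S.core _).1 hq
  have h1 : k * θ s * k⁻¹ = θ x ∨ k * θ s * k⁻¹ = θ x * z := by
    rw [hc.1.mk'_eq hs, XV.mk'_val (app_lt _ _)] at h
    rcases S.act k c hc.1 s (by omega) with e | e <;> rcases S.θmod hx with e' | e' <;> rw [e] <;>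
      simp [e', h, S.toFr.θz (show x % 4096 < 8192 by omega), mul_assoc, S.toFr.zz]
  rcases h1 with h1 | h1
  · exact ⟨k, rfl, h1⟩
  · refine ⟨k * ⟨_, S.θH hy⟩, by rw [map_mul, S.μθ hy, mul_one], ?_⟩
    have := mem_centralizer_singleton_iff.1 k.2
    calc _ = k * (θ y * θ s * (θ y)⁻¹) * (k : G)⁻¹ := by simp [mul_assoc]
      _ = k * θ s * (k : G)⁻¹ * (k * z * (k : G)⁻¹) := by rw [e]; group
      _ = _ := by rw [this, mul_inv_cancel_right, show (k : G) * θ s * (k : G)⁻¹ = _ from h1, mul_assoc, S.toFr.zz, mul_one]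

theorem inv_E (hX : X0 ≤ X) {x : ℕ} (hx : x < 8192) (h0 : x ≠ 0) (h1 : x ≠ 4096) (hq : bt x x = 0) :
    ∃ h ∈ centralizer ({z} : Set G), h * θ x * h⁻¹ = θ s0 ∨ h * θ x * h⁻¹ = θ x0 := by
  have k2 : bt (x % 4096) (x % 4096) = 0 := by
    rcases split_z hx with h | ⟨v, hv, rfl⟩
    · rwa [Nat.mod_eq_of_lt h]
    · rw [show (v ^^^ 4096) % 4096 = v from (Nat.xor_mod_two_pow (n := 12)).trans (by
        rw [Nat.mod_eq_of_lt hv]; exact Nat.xor_zero v)]
      simpa [bt_xor, bt_xor', bt_z, bt_z'] using hq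
  have f : ∀ {s n}, s < 4096 → s ≠ 0 → x % 4096 ∈ orbV LX0 n s → ∃ h ∈ centralizer ({z} : Set G), h * θ x * h⁻¹ = θ s :=
    fun hs s1 h => by
      obtain ⟨a, ha, e⟩ := orbV_reach codesX0.toMR hs h
      obtain ⟨k, -, e⟩ := S.conj_of hs s1 hx (hX ha) e
      exact ⟨_, inv_mem k.2, by rw [← e]; simp [mul_assoc]⟩
  rcases orbsX (x % 4096) (by omega) k2 (by omega) with h | h
  · exact (f (by decide) (by decide) h).imp fun _ h => ⟨h.1, Or.inl h.2⟩
  · exact (f (by decide) (by decide) h).imp fun _ h => ⟨h.1, Or.inr h.2⟩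

section
variable {g : G} {s : ℕ} (hs : s < 4096) (h0 : s ≠ 0) (hg : g * z * g⁻¹ = θ s)
include hs h0 hg

theorem pair : Pair (cj g (twoCoreOfCentralizer z)) (twoCoreOfCentralizer z) (θ s) z := by
  have := S.le.pair (g := g) (by rw [S.card_E]; norm_num) (hg ▸ S.θE (by omega)) (hg ▸ (S.ne_of hs h0).2)
  rw [hg] at this; exact this.symm

theorem D_comm {a b : G} (ha : a ∈ twoCoreOfCentralizer z ⊓ cj g (twoCoreOfCentralizer z))
    (hb : b ∈ twoCoreOfCentralizer z ⊓ cj g (twoCoreOfCentralizer z)) : Commute a b := by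
  by_contra h
  exact (S.pair hs h0 hg).ne (mul_left_cancel ((S.es.conj_of_not ha.1 hb.1 h).symm.trans
    ((S.pair hs h0 hg).hQ.conj_of_not ha.2 hb.2 h)))

theorem card_D : #(twoCoreOfCentralizer z ⊓ cj g (twoCoreOfCentralizer z)) ≤ 128 := by
  have h1 := S.es.card_cent (A := _ ⊓ cj g _) inf_le_left ⟨S.es.zQ, (S.pair hs h0 hg).sQ⟩
  have h2 := Nat.mul_le_mul_left #(twoCoreOfCentralizer z ⊓ cj g (twoCoreOfCentralizer z)) (card_le_of_le
    (le_inf inf_le_left fun a ha b hb => (S.D_comm hs h0 hg hb ha).eq :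
      _ ≤ twoCoreOfCentralizer z ⊓ C[twoCoreOfCentralizer z ⊓ cj g (twoCoreOfCentralizer z)]))
  rw [h1, S.card_E] at h2
  nlinarith

theorem card_AB : #(twoCoreOfCentralizer z ⊓ cj g (twoCoreOfCentralizer z)) * #(AB μ g) = 4096 := by
  have P := S.pair hs h0 hg
  obtain ⟨q, hq, e⟩ := P.exq
  have h1 : C1[z].relIndex (cj g (twoCoreOfCentralizer z)) = 2 := relIndex_eq_two_iff.2 ⟨q, hq, fun b hb => by
    simp only [mem_centralizer_singleton_iff, ← mul_inv_eq_iff_eq_mul]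
    have h2 : b * q * z * (b * q)⁻¹ = b * z * b⁻¹ * θ s := by
      rw [show b * q * z * (b * q)⁻¹ = b * (q * z * q⁻¹) * b⁻¹ by group, e, ← mul_assoc, mul_assoc (b * z),
        ← (P.hQ.zc _ (inv_mem hb)).eq, mul_assoc (b * z)]
    rw [h2]
    rcases P.hQ.comm b hb z P.sQ with h | h <;> simp [h, P.hQ.z1, mul_assoc, P.hQ.zz]⟩
  have h2 := (C1[z].subgroupOf (cj g (twoCoreOfCentralizer z))).card_mul_index
  rw [card_cj, S.card_E, show index _ = 2 from h1, ← inf_subgroupOf_right,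
    Nat.card_congr (subgroupOfEquivOfLe inf_le_right).toEquiv,
    ← Nat.card_congr (subgroupOfEquivOfLe inf_le_left).toEquiv, inf_subgroupOf_left] at h2
  have h3 := (μ.comp ((cj g (twoCoreOfCentralizer z)).subgroupOf _).subtype).ker.card_mul_index
  have h4 : twoCoreOfCentralizer z ⊓ cj g (twoCoreOfCentralizer z) ≤ C1[z] := inf_le_left.trans (map_subtype_le _)
  rw [index_ker, MonoidHom.range_comp, range_subtype, show (μ.comp _).ker = ((twoCoreOfCentralizer z ⊓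
      cj g (twoCoreOfCentralizer z)).subgroupOf _).subgroupOf _ from ext fun a => (S.ker _).trans (and_iff_left a.2).symm,
    Nat.card_congr (subgroupOfEquivOfLe (subgroupOf_mono _ inf_le_right)).toEquiv,
    Nat.card_congr (subgroupOfEquivOfLe h4).toEquiv] at h3
  exact h3.trans (Nat.eq_of_mul_eq_mul_right two_pos h2)

theorem lists_AB {K P : Subgroup (MulAut (XV 12))} (hK : K ≤ X) (hP : P ≤ K ⊓ stabilizer _ (XV.mk' 12 s)) {k : ℕ}
    (c1 : #P = 2 ^ k) (c2 : ¬ 2 ^ (k + 1) ∣ #(K ⊓ stabilizer _ (XV.mk' 12 s))) {l L : List ℕ} (hl : Lists IR l P)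
    (hL : CodesIn IR L K) {w : List ℕ} (hw : app (evalW mulM invM one12 L w) s = s) :
    Lists IR (surv l L w) (AB μ g ⊓ K) := by
  have Q := S.pair hs h0 hg
  have h1 : ∀ t ∈ K ⊓ stabilizer _ (XV.mk' 12 s), ∀ a ∈ AB μ g ⊓ K, t * a * t⁻¹ ∈ AB μ g ⊓ K := by
    rintro t ht _ ⟨⟨a, ha, rfl⟩, hk⟩
    refine ⟨?_, K.mul_mem (K.mul_mem ht.1 hk) (K.inv_mem ht.1)⟩
    obtain ⟨k, rfl, e⟩ := S.conj_of hs h0 (x := s) (by omega) (hK ht.1) (by
      rw [show t _ = _ from ht.2, XV.mk'_val hs, Nat.mod_eq_of_lt hs])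
    exact ⟨k * a * k⁻¹, Q.hQ.conj_mem (mul_inv_eq_iff_eq_mul.1 e) ha, by simp⟩
  have h2 : ∀ {a : C1[z]}, a.1 = 1 ∨ a.1 = θ s → μ a = 1 := fun h => (S.ker _).2 (by
    rcases h with h | h <;> rw [h]; exacts [one_mem _, Q.zP])
  have h3 : ∀ a ∈ AB μ g ⊓ K, a * a = 1 := by rintro _ ⟨⟨a, ha, rfl⟩, -⟩; rw [← map_mul]; exact h2 (Q.hQ.sq _ ha)
  have h4 : AB μ g ⊓ K ≤ K ⊓ stabilizer _ (XV.mk' 12 s) := by
    rintro _ ⟨⟨a, ha, rfl⟩, hk⟩
    obtain ⟨c, hc⟩ := S.exists_IR a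
    obtain ⟨b, hb, e⟩ := S.act' a hc.1 (x := s) (by omega)
    refine ⟨hk, (hc.1.mk'_eq hs).trans (congrArg _ (S.toFr.cancel (app_lt _ _) hs hb two_pos ?_).1)⟩
    rw [← e, pow_zero, mul_one]; exact mul_inv_eq_iff_eq_mul.2 (Q.hQ.zc _ ha).eq
  obtain ⟨t, ht, h5⟩ := exists_conj_le_sylow Nat.prime_two hP h4 c1 rfl c2
    fun a => ⟨1, Subtype.ext (by simpa [pow_two] using h3 _ a.2)⟩
  obtain ⟨τ, hτ, h6⟩ := isGrp_IR.evalW_mem hL w
  rw [surv, force_eq]
  refine hl.filter (fun a ha => by simpa [mul_assoc] using h5 _ (h1 _ (inv_mem ht) a ha)) fun c a ha hc => ?_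
  have h7 := h1 τ ⟨hτ, (h6.1.mk'_eq hs).trans (congrArg _ hw)⟩ a ha
  simp only [band_eq, Bool.and_eq_true, nbeq]
  exact ⟨isCanon_IR.canon (isGrp_IR.mul hc hc) (h3 a ha ▸ isGrp_IR.one), (commC_iff isGrp_IR isCanon_IR hc
    (isGrp_IR.conj h6 hc)).1 (Invol.commute_of_mul_sq (h3 a ha) (h3 _ h7) (h3 _ (mul_mem ha h7)))⟩

omit hs h0 hg in
theorem AB_le : AB μ g ≤ X := by rintro _ ⟨a, -, rfl⟩; exact S.μ_mem a

theorem le_AB : 32 ≤ #(AB μ g) := by
  have h2 := S.card_AB hs h0 hg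
  have := S.card_D hs h0 hg
  nlinarith
end

theorem not_fused (hX : X0 ≤ X) : ¬ IsConj z (θ x0) := fun h => by
  obtain ⟨g, hg⟩ := isConj_iff.1 h
  obtain ⟨P, hP, c, l⟩ := sylP (l := fixL LT0 x0) (B := [5, 6]) (s := x0) (k := 6) codesX0 [[6, 3, 0, 7, 4, 7, 0, 6, 1],
    [1, 5, 1, 6, 2, 5, 6, 1, 4], [6, 6, 0, 7, 2, 5, 7, 1], [10, 10, 14, 10, 10]] (by decide) (by decide +kernel)
  have h1 := (S.lists_AB (by decide) (by decide) hg hX hP c
    (by rw [show x0 = 3584 from rfl, sgsX0.stab.card_eq]; decide +kernel) l codesX0 (w := [0, 2, 0])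
    (by decide +kernel)).card_le isCanon_IR.func
  rw [show lenL _ = 1 by decide +kernel] at h1
  have h2 := S.le_AB (by decide) (by decide) hg
  have h3 := Solv.card_inf_mul_relIndex X0 (AB μ g)
  have h4 := Solv.card_inf_mul_relIndex X0 X
  rw [inf_eq_left.2 hX, card_X0, S.card_Xs] at h4
  have h5 := relIndex_le_of_le_right (H := X0) (S.AB_le (g := g)) (by omega)
  rw [inf_comm] at h3
  have := Nat.mul_le_mul h1 h5
  omega

theorem fused (hX : X0 ≤ X) (h : ∃ g, g * z * g⁻¹ ∈ twoCoreOfCentralizer z ∧ g * z * g⁻¹ ≠ z) :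
    ∃ g, g * z * g⁻¹ = θ s0 := by
  obtain ⟨g, h4, h5⟩ := h
  obtain ⟨x, hx, e⟩ := (S.core _).1 h4
  have o : orderOf (θ x) = 2 := e ▸ (Invol.orderOf_conj' g z).trans S.toFr.oz
  obtain ⟨h, -, h6 | h6⟩ := S.inv_E hX hx (by rintro rfl; exact Invol.ne_one_of o S.toFr.θ0)
    (by rintro rfl; exact h5 (e.symm.trans S.hz)) (by
      have := (S.toFr.sq hx).symm.trans (Invol.mul_self_of o)
      have l := bt_lt x x
      interval_cases bt x x
      exacts [rfl, absurd ((pow_one z).symm.trans this) S.toFr.z1])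
  · exact ⟨h * g, by rw [← h6, e]; group⟩
  · exact absurd (isConj_iff.2 ⟨h * g, by rw [← h6, e]; group⟩) (S.not_fused hX)

theorem few {g : G} (hg : g * z * g⁻¹ = θ s0) {P : Subgroup (MulAut (XV 12))}
    (hP : P ≤ X ⊓ stabilizer _ (XV.mk' 12 s0)) (c : #P = 2 ^ 8) {l L : List ℕ} (hl : Lists IR l P)
    (hL : CodesIn IR L X) {w : List ℕ} (hw : app (evalW mulM invM one12 L w) s0 = s0) : Lists IR (surv l L w) (AB μ g) := by
  have := S.lists_AB (by decide) (by decide) hg le_rfl hP c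
    (fun h => absurd (h.trans (card_dvd_of_le inf_le_left)) (by rw [S.card_Xs]; norm_num)) hl hL hw
  rwa [inf_eq_left.2 S.AB_le] at this
end St

/-- the extension of `X0` is forced by the fusion of `z`. -/
theorem St.top {c : ℕ} (S : St (Xc c) z p θ μ) (hc : c ∈ [cτ, cκ, cρ]) {g : G} (hg : g * z * g⁻¹ = θ s0) :
    St Xs z p θ μ := by
  have cX := codesXc hc
  have h2 := S.le_AB (by decide) (by decide) hg
  simp only [List.mem_cons, List.not_mem_nil, or_false] at hc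
  rcases hc with rfl | rfl | rfl
  · obtain ⟨P, hP, c, l⟩ := sylP (l := LT0 ++ mapL (mulM 0x85a4f52af15ae8f94ae2f91a9527f19587f4) LT0) (B := [5, 6, 257])
      (s := s0) (k := 8) cX [[5, 1, 2, 7, 1, 5, 6, 6, 4, 0], [4, 3, 7, 5, 3, 6, 5, 2], [2, 6, 4, 2, 1, 5, 6, 5, 7, 8],
      [1, 3, 4, 6, 8, 1, 4, 6, 3, 1, 5, 10], [12, 14], [13, 17], [18, 20, 22, 22]] (by decide) (by decide +kernel)
    have h1 := (S.few hg hP c l cX (w := [4, 6, 6, 5, 10]) (by decide +kernel)).card_le isCanon_IR.func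
    rw [show lenL _ = 18 by decide +kernel] at h1
    omega
  · obtain ⟨P, hP, c, l⟩ := sylP (l := LT0 ++ mapL (mulM 0x3f515acaf4f573591a7c594aeac7f4ea37f1) LT0) (B := [5, 6])
      (s := s0) (k := 8) cX [[5, 1, 2, 7, 1, 5, 6, 6, 4, 0], [4, 3, 7, 5, 3, 6, 5, 2], [2, 6, 4, 2, 1, 5, 6, 5, 7, 8],
      [5, 6, 5, 1, 7, 0, 4, 9, 10], [12, 14], [13, 17]] (by decide) (by decide +kernel)
    have h1 := (S.few hg hP c l cX (w := [2, 10]) (by decide +kernel)).card_le isCanon_IR.func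
    rw [show lenL _ = 18 by decide +kernel] at h1
    omega
  · exact S

namespace St
variable (S : St Xs z p θ μ)
include S

variable {g : G} (hg : g * z * g⁻¹ = θ s0)
include hg

theorem listsA : Lists IR LA (AB μ g) := by
  have := S.few hg (P := Ts) (fun a ha => ⟨Bs_le (Ts_le ha), by
    obtain ⟨c, hc, e⟩ := listsT.forall (f := fun c => Nat.beq (app c s0) s0) (by decide +kernel) ha
    exact (hc.1.mk'_eq (by decide)).trans (congrArg _ (nbeq.1 e))⟩) card_Ts listsT codesX (w := [10]) (by decide +kernel)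
  exact fun a ha => let ⟨c, h1, h2⟩ := this a ha
    ⟨c, memL_iff.1 (allL_iff.1 (by decide +kernel : allL (surv LT LX [10]) (fun c => memL c LA) = true) c h1), h2⟩

theorem A (h : centralizer ({z} : Set G)) (hh : h.1 ∈ cj g (twoCoreOfCentralizer z)) : ∃ c ∈ LA, IR c (μ h) :=
  S.listsA hg _ ⟨h, hh, rfl⟩

theorem card_D' : #(twoCoreOfCentralizer z ⊓ cj g (twoCoreOfCentralizer z)) = 128 := by
  have h1 : _ ≤ 32 := (S.listsA hg).card_le isCanon_IR.func
  have h2 := S.card_AB (by decide) (by decide) hg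
  have := S.card_D (by decide) (by decide) hg
  nlinarith

theorem exA {c : ℕ} (hc : c ∈ LA) : ∃ a : centralizer ({z} : Set G), a.1 ∈ cj g (twoCoreOfCentralizer z) ∧ IR c (μ a) := by
  by_contra! h
  have h1 := (S.listsA hg).card_subgroup_le isCanon_IR.func le_rfl (pb := fun d => not (Nat.beq d c)) (by
    rintro d _ ⟨a, ha, rfl⟩ hd
    rw [Bool.not_eq_true', nbeq_false]; rintro rfl; exact h a ha hd)
  have h2 := nble.1 (allL_iff.1 (by decide +kernel :
    allL LA (fun c => Nat.ble (countL (fun d => not (Nat.beq d c)) LA) 31) = true) c hc)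
  have h3 := S.card_AB (by decide) (by decide) hg
  rw [S.card_D' hg] at h3
  omega

theorem D {x : ℕ} (hx : x < 8192) : θ x ∈ cj g (twoCoreOfCentralizer z) ↔ x % 4096 ∈ LD := by
  have Q := S.pair (by decide) (by decide) hg
  have h1 : ∀ j < 2 ^ 6, θ (app 0xaa550e50b44b50041 j) ∈ cj g (twoCoreOfCentralizer z) :=
    xind (P := fun j => θ (app _ j) ∈ _) (by rw [app_zero, S.toFr.θ0]; exact one_mem _) (fun i hi => by
      obtain ⟨c, hc, v, hv, e1, e2⟩ := (by decide +kernel : ∀ i < 6, ∃ c ∈ LA, ∃ v < 11, bf v s0 = 0 ∧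
        app c v ^^^ v = app 0xaa550e50b44b50041 (2 ^ i)) i hi
      obtain ⟨a, ha, hc⟩ := S.exA hg hc
      obtain ⟨b, -, e⟩ := S.act' a hc.1 (x := v) (by omega)
      have := mul_mem ha (Q.hQ.conj_mem ((S.toFr.comm_iff (by omega) (by decide)).2 e1).inv_left (inv_mem ha))
      rw [show a * ((θ v)⁻¹ * (a : G)⁻¹ * (θ v)⁻¹⁻¹) = (a * θ v * (a⁻¹ : C1[z]))⁻¹ * θ v by simp [mul_assoc], e, mul_inv_rev,
        mul_assoc, mul_mem_cancel_left (inv_mem (pow_mem Q.sQ _)), ← inv_mem_iff, mul_inv_rev, inv_inv] at this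
      have h2 := S.toFr.mul' (x := v) (by omega) (xlt (app_lt' c v) (show v < 8192 by omega))
      rw [Nat.xor_comm (app c v), Nat.xor_xor_cancel_left, Nat.xor_comm v, e2] at h2
      rw [eq_inv_mul_of_mul_eq h2, ← mul_assoc]
      exact mul_mem this (pow_mem Q.sQ _)) fun a _ b _ h1 h2 => by
      have := mul_mem h1 h2
      rwa [S.toFr.mul' (app_lt' _ _) (app_lt' _ _), mul_mem_cancel_right (pow_mem Q.sQ _), ← app_xor] at this
  have h2 : ∀ x < 8192, x % 4096 ∈ LD → θ x ∈ cj g (twoCoreOfCentralizer z) := fun x hx h => by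
    obtain ⟨j, hj, e⟩ := (by decide +kernel : ∀ v ∈ LD, ∃ j < 2 ^ 6, app 0xaa550e50b44b50041 j = v) _ h
    rcases S.θmod hx with e' | e' <;> rw [e', ← e]
    exacts [h1 j hj, mul_mem (h1 j hj) Q.sQ]
  refine ⟨fun h => ?_, h2 x hx⟩
  have h3 : ∀ y ∈ (LD ++ LD.map (· + 4096)).toFinset, y < 8192 ∧ y % 4096 ∈ LD := by decide +kernel
  have h4 : θ '' (LD ++ LD.map (· + 4096)).toFinset = (twoCoreOfCentralizer z ⊓ cj g (twoCoreOfCentralizer z) :) :=
    Set.eq_of_subset_of_ncard_le (by rintro _ ⟨y, hy, rfl⟩; exact ⟨S.θE (h3 y hy).1, h2 y (h3 y hy).1 (h3 y hy).2⟩) (by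
      rw [Set.InjOn.ncard_image fun a ha b hb => S.inj a (h3 a ha).1 b (h3 b hb).1, Set.ncard_coe_finset]
      exact (S.card_D' hg).trans_le (by decide +kernel))
  obtain ⟨y, hy, e⟩ := h4.ge ⟨S.θE hx, h⟩
  exact S.inj _ (h3 y hy).1 _ hx e ▸ (h3 y hy).2

theorem A' {c : ℕ} (hc : c ∈ LA) (k : centralizer ({z} : Set G)) (hk : k.1 ∈ normalizer (zpowers p : Set G))
    (h : MR 12 c (μ k)) : k.1 ∈ cj g (twoCoreOfCentralizer z) := by
  have Q := S.pair (by decide) (by decide) hg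
  obtain ⟨a, ha, h1⟩ := S.exA hg hc
  have h2 : (a * k⁻¹).1 ∈ _ := (S.ker _).1 (by rw [map_mul, map_inv, h1.1.func h, mul_inv_cancel])
  have h3 : ∀ d ∈ twoCoreOfCentralizer z ⊓ cj g (twoCoreOfCentralizer z),
      (k * d * k⁻¹ = d ∨ k * d * k⁻¹ = d * θ s0) ∧ Commute (a * k⁻¹).1 (k * d * k⁻¹) := fun d hd => by
    obtain ⟨x, hx, rfl⟩ := (S.core _).1 hd.1
    have e1 : k * θ x * k⁻¹ = θ x ∨ k * θ x * k⁻¹ = θ x * θ s0 := by
      have := allL_iff.1 (allL_iff.1 (by decide +kernel : allL LA (fun c => allL (LD ++ LD.map (· + 4096)) fun x =>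
        force (J4T.kact c x) fun y => bor (Nat.beq y x) (Nat.beq y (emul x s0))) = true) c hc) x (by
          have := (S.D hg hx).1 hd.2
          by_cases l : x < 4096
          · exact List.mem_append_left _ (Nat.mod_eq_of_lt l ▸ this)
          · exact List.mem_append_right _ (List.mem_map.2 ⟨_, this, by omega⟩))
      rw [force_eq, bor_eq, Bool.or_eq_true, nbeq, nbeq] at this
      rw [S.kact hk h hx, S.mul _ hx _ (by decide)]
      exact this.imp (congrArg θ) (congrArg θ)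
    refine ⟨e1, by_contra fun hn => ?_⟩
    have e2 := S.es.conj_of_not h2 (S.le.conj_mem (mem_centralizer_singleton_iff.1 k.2) hd.1) hn
    rw [show (a * k⁻¹).1 * (k * θ x * (k : G)⁻¹) * (a * k⁻¹).1⁻¹ = a * θ x * (a : G)⁻¹ by simp [mul_assoc]] at e2
    have n1 := S.toFr.z1
    have n2 := Q.ne
    have n3 : θ s0 * z ≠ 1 := fun e => n2 ((eq_inv_of_mul_eq_one_right e).trans (Invol.inv_eq_of Q.hQ.z2))
    rcases Q.hQ.comm _ ha _ hd.2 with e | e <;> rcases e1 with e' | e' <;> rw [e, show (k : G) * θ x * (k : G)⁻¹ = _ from e'] at e2 <;>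
      simp [mul_assoc, n1, n2.symm, n3] at e2
  have h4 : Commute (a * k⁻¹).1 (θ s0) := by
    obtain ⟨e | e, h⟩ := h3 _ ⟨Q.zP, Q.hQ.zQ⟩
    · exact e ▸ h
    · rw [Q.hQ.zz] at e; exact absurd (conj_eq_one_iff.1 e) Q.hQ.z1
  have h5 := S.es.card_cent (A := _ ⊓ cj g _) inf_le_left ⟨S.es.zQ, Q.sQ⟩
  rw [S.card_D' hg, S.card_E] at h5
  have h6 : _ = twoCoreOfCentralizer z ⊓ C[twoCoreOfCentralizer z ⊓ cj g (twoCoreOfCentralizer z)] :=
    eq_of_le_of_card_ge (le_inf inf_le_left fun a ha b hb => (S.D_comm (by decide) (by decide) hg hb ha).eq)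
      (by rw [S.card_D' hg]; omega)
  have h7 : _ ∈ cj g _ := (h6.ge ⟨h2, fun d hd => by
    obtain ⟨e | e, h⟩ := h3 d hd <;> rw [e] at h
    exacts [h.eq.symm, (by simpa using h.mul_right h4.inv_right : Commute _ d).eq.symm]⟩).2
  simpa using mul_mem (inv_mem h7) ha
end St

end Cfsg.Agent.F24T
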