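import Cfsg.Agent.F24T.U43
import Cfsg.Agent.Comp.Pc

/-! Monomial `3`-groups in `O(2^12)` listed by polycyclic generators (`pc3`, `pcG`): `D0 = 3^6` (diagonal),
`P0` (a Sylow 3-subgroup of `GL₁₂(2)`), `T0 = X0 ⊓ P0`, `S0 = T0 ⊓ D0`, `Q0`, `Z0`, with their orders and the scans. -/

set_option autoImplicit false

namespace Cfsg.Agent.F24T
open Cfsg.Agent.Comp Subgroup MulAction J4T

abbrev GL' := MulAut (XV 12)
abbrev pcG (L : List ℕ) : Subgroup GL' := closure (genSet IR L)

def pc3 (L : List ℕ) : List ℕ := List.rec [one12] (fun g _ ih => forceL ih fun l =>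
  appendL l (appendL (mapL (mulM g) l) (mapL (mulM (mulM g g)) l))) L
def okpc (L : List ℕ) : Bool := List.rec true (fun g t ih => band ih (band (okI g) (forceL (pc3 t) fun l =>
  band (memL (mulM g (mulM g g)) l) (allL t fun h => force (conjC mulM invM g h) fun x => memL x l)))) L

theorem pc3_cons (g : ℕ) (t : List ℕ) :
    pc3 (g :: t) = pc3 t ++ ((pc3 t).map (mulM g) ++ (pc3 t).map (mulM (mulM g g))) := by
  show forceL (pc3 t) (fun l => appendL l (appendL (mapL (mulM g) l) (mapL (mulM (mulM g g)) l))) = _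
  simp only [forceL_eq, appendL_eq, mapL_eq]

theorem len_pc3 (L : List ℕ) : lenL (pc3 L) = 3 ^ L.length := by
  induction L with
  | nil => rfl
  | cons g t ih => rw [lenL_eq] at *; simp [pc3_cons, ih, pow_succ]; ring

theorem pc3_spec {L : List ℕ} (h : okpc L = true) :
    CodesIn IR L (pcG L) ∧ CodesIn IR (pc3 L) (pcG L) ∧ Lists IR (pc3 L) (pcG L) := by
  induction L with
  | nil => exact ⟨CodesIn.nil _, CodesIn.cons (one_mem _) isGrp_IR.one (CodesIn.nil _), fun g hg => by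
      have : g ∈ (⊥ : Subgroup GL') := (closure_le _).2 (fun a (⟨_, h, _⟩ : a ∈ genSet IR []) => by simp at h) hg
      exact ⟨one12, List.mem_singleton_self _, mem_bot.1 this ▸ isGrp_IR.one⟩⟩
  | cons g t ih =>
    replace h : band (okpc t) (band (okI g) (forceL (pc3 t) fun l => band (memL (mulM g (mulM g g)) l)
      (allL t fun h => force (conjC mulM invM g h) fun x => memL x l))) = true := h
    simp only [band_eq, Bool.and_eq_true, forceL_eq, force_eq, allL_iff, memL_iff] at h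
    obtain ⟨h0, h1, h2, h3⟩ := h
    obtain ⟨i1, i2, i3⟩ := ih h0
    obtain ⟨x, hx⟩ := exists_of_okI h1
    have le : pcG t ≤ pcG (g :: t) := closure_mono fun _ ⟨c, a, b⟩ => ⟨c, List.mem_cons_of_mem _ a, b⟩
    have xm : x ∈ pcG (g :: t) := subset_closure ⟨g, List.mem_cons_self, hx⟩
    have x3 : x ^ (3 : ℤ) ∈ pcG t := by
      obtain ⟨y, hy, e⟩ := i2 _ h2
      rw [isCanon_IR.func e (isGrp_IR.mul hx (isGrp_IR.mul hx hx))] at hy
      simpa [zpow_ofNat, pow_succ, mul_assoc] using hy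
    have xn : zpowers x ≤ normalizer (pcG t : Set GL') := zpowers_le.2 (mem_normalizer_closure fun y ⟨c, hc, hy⟩ => by
      obtain ⟨y', hy', e⟩ := i2 _ (h3 c hc)
      exact isCanon_IR.func e (isGrp_IR.conj hx hy) ▸ hy')
    refine ⟨CodesIn.cons xm hx (i1.mono le), fun c hc => ?_, fun y hy => ?_⟩
    · simp only [pc3_cons, List.mem_append, List.mem_map] at hc
      rcases hc with hc | ⟨c, hc, rfl⟩ | ⟨c, hc, rfl⟩ <;> obtain ⟨y, hy, e⟩ := i2 c hc
      exacts [⟨y, le hy, e⟩, ⟨_, mul_mem xm (le hy), isGrp_IR.mul hx e⟩,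
        ⟨_, mul_mem (mul_mem xm xm) (le hy), isGrp_IR.mul (isGrp_IR.mul hx hx) e⟩]
    · have : y ∈ zpowers x ⊔ pcG t := (closure_le _).2 (fun a (⟨c, hc, ha⟩ : a ∈ genSet IR (g :: t)) => by
        rcases List.mem_cons.1 hc with rfl | hc
        · exact isCanon_IR.func hx ha ▸ mem_sup_left (mem_zpowers x)
        · exact mem_sup_right (subset_closure ⟨c, hc, ha⟩)) hy
      rw [← SetLike.mem_coe, coe_mul_of_left_le_normalizer_right _ _ xn] at this
      obtain ⟨_, ⟨j, rfl⟩, k, hk, rfl⟩ := this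
      obtain ⟨c, hc, e⟩ := i3 _ (mul_mem (zpow_mem x3 (j / 3)) hk)
      have e2 : x ^ j * k = x ^ (j % 3) * ((x ^ (3 : ℤ)) ^ (j / 3) * k) := by
        rw [← mul_assoc, ← zpow_mul, ← zpow_add, Int.emod_add_mul_ediv]
      simp only [pc3_cons, List.mem_append, List.mem_map, e2]
      have : j % 3 = 0 ∨ j % 3 = 1 ∨ j % 3 = 2 := by omega
      rcases this with h | h | h <;> rw [h]
      exacts [⟨c, .inl hc, by simpa using e⟩, ⟨_, .inr (.inl ⟨c, hc, rfl⟩), by simpa using isGrp_IR.mul hx e⟩,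
        ⟨_, .inr (.inr ⟨c, hc, rfl⟩), by simpa [zpow_ofNat, pow_two] using isGrp_IR.mul (isGrp_IR.mul hx hx) e⟩]

theorem card_pcG {L : List ℕ} (h : okpc L = true) (B : List ℕ) (h' : band (allL B (fun b => Nat.blt b (Nat.pow 2 12)))
    (Nat.ble (3 ^ L.length) (chainL app (fun a => a) 20 B L)) = true) : Nat.card (pcG L) = 3 ^ L.length := by
  rw [band_eq, Bool.and_eq_true, nble] at h'
  exact le_antisymm (len_pc3 L ▸ (pc3_spec h).2.2.card_le isCanon_IR.func)
    (h'.2.trans (chainM_le_card h'.1 (pc3_spec h).1.toMR 20))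

theorem mem_of_code {l : List ℕ} {K : Subgroup GL'} (h : CodesIn IR l K) {c : ℕ} {g : GL'} (hg : IR c g)
    (hc : memL c l = true) : g ∈ K :=
  let ⟨_, h1, h2⟩ := h c (memL_iff.1 hc); isCanon_IR.func h2 hg ▸ h1
theorem code_of_mem {l : List ℕ} {K : Subgroup GL'} (h : Lists IR l K) {c : ℕ} {g : GL'} (hg : IR c g)
    (hm : g ∈ K) : memL c l = true :=
  let ⟨_, h1, h2⟩ := h g hm; memL_iff.2 (isCanon_IR.canon h2 hg ▸ h1)
theorem norm_of_code {L l : List ℕ} (h : CodesIn IR l (pcG L)) {c : ℕ} {g : GL'} (hg : IR c g)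
    (hc : allL L (fun d => force (conjC mulM invM c d) fun x => memL x l) = true) : g ∈ normalizer (pcG L : Set GL') :=
  mem_normalizer_closure fun _ ⟨d, hd, hy⟩ => mem_of_code h (isGrp_IR.conj hg hy) ((force_eq _ _).symm.trans (allL_iff.1 hc d hd))

theorem unL {l : List ℕ} {k : List ℕ → Bool} (h : forceL l k = true) : k l = true := (forceL_eq l k).symm.trans h
theorem unF {a : ℕ} {k : ℕ → Bool} (h : force a k = true) : k a = true := (force_eq a k).symm.trans h

/-- `f` holds on the coset `a · pcG L`. -/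
def allpc (L : List ℕ) (f : ℕ → Bool) : ℕ → Bool := List.rec (fun a => force a f) (fun g _ ih a => force a fun a =>
  band (ih a) (force (mulM a g) fun b => band (ih b) (ih (mulM b g)))) L

theorem allpc_spec {f : ℕ → Bool} {L : List ℕ} (h : okpc L = true) : ∀ {a : ℕ} {x : GL'}, IR a x → allpc L f a = true →
    ∀ y ∈ pcG L, ∃ c, IR c (x * y) ∧ f c = true := by
  induction L with
  | nil =>
    intro a x ha hf y hy
    obtain ⟨c, hc, e⟩ := (pc3_spec h).2.2 y hy
    obtain rfl := isCanon_IR.func isGrp_IR.one (List.mem_singleton.1 hc ▸ e)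
    exact ⟨a, by simpa using ha, unF hf⟩
  | cons g t ih =>
    intro a x ha hf y hy
    have h0 : okpc t = true := (Bool.and_eq_true _ _ ▸ (band_eq _ _).symm.trans h).1
    replace hf : force a (fun a => band (allpc t f a) (force (mulM a g) fun b => band (allpc t f b)
      (allpc t f (mulM b g)))) = true := hf
    simp only [force_eq, band_eq, Bool.and_eq_true] at hf
    obtain ⟨u, -, hu⟩ := (pc3_spec h).1 g List.mem_cons_self
    obtain ⟨c, hc, e⟩ := (pc3_spec h).2.2 y hy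
    simp only [pc3_cons, List.mem_append, List.mem_map] at hc
    rcases hc with hc | ⟨c, hc, rfl⟩ | ⟨c, hc, rfl⟩ <;> obtain ⟨k, hk, e'⟩ := (pc3_spec h0).2.1 c hc
    · exact isCanon_IR.func e' e ▸ ih h0 ha hf.1 k hk
    · rw [isCanon_IR.func e (isGrp_IR.mul hu e'), ← mul_assoc]; exact ih h0 (isGrp_IR.mul ha hu) hf.2.1 k hk
    · rw [isCanon_IR.func e (isGrp_IR.mul (isGrp_IR.mul hu hu) e'), ← mul_assoc, ← mul_assoc]
      exact ih h0 (isGrp_IR.mul (isGrp_IR.mul ha hu) hu) hf.2.2 k hk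

theorem scan {f : ℕ → Bool} {L : List ℕ} (h : okpc L = true) (hf : allpc L f one12 = true) {y : GL'} (hy : y ∈ pcG L) :
    ∃ c, IR c y ∧ f c = true := by simpa using allpc_spec h isGrp_IR.one hf y hy

def f1 : ℕ := 0x800400200100080040020010008004003002
def f2 : ℕ := 0x80040020010008004002001000c008002001
def f3 : ℕ := 0x800400200100080040030020008004002001
def f4 : ℕ := 0x8004002001000c0080020010008004002001
def f5 : ℕ := 0x800400300200080040020010008004002001
def f6 : ℕ := 0xc00800200100080040020010008004002001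
def g1 : ℕ := 0x400c00200100080040020010008004003002
def g2 : ℕ := 0x400c0020010008004002001000c008002001
def g3 : ℕ := 0x400c00200100080040030020008004002001
def g4 : ℕ := 0x400c002001000c0080020010008004002001
def g5 : ℕ := 0x400c00300200080040020010008004002001
def σ2 : ℕ := 0x80040800400200100020010008004002001
def u1 : ℕ := 0x80040020010008004001003000c008002001
def z1 : ℕ := 0x80040020010008004003002000c008003002
def z2 : ℕ := 0xc008003002000c0080020010008004002001
def LD3 : List ℕ := [f1, f2, f3, f4, f5, f6]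
def LP : List ℕ := [c3, σ2, f1, f2, f3, f4, f5, f6]
def LS : List ℕ := [g1, g2, g3, g4, g5]
def LT3 : List ℕ := [c3, σ2, g1, g2, g3, g4, g5]
def LQ : List ℕ := [c3, u1, z1, σ2, g5, z2]
def LZ : List ℕ := [z1, z2]
abbrev D0 := pcG LD3
abbrev P0 := pcG LP
abbrev S0 := pcG LS
abbrev T0 := pcG LT3
abbrev Q0 := pcG LQ
abbrev Z0 := pcG LZ
theorem okP : okpc LP = true := by decide +kernel
theorem okD : okpc LD3 = true := by decide +kernel
theorem okT : okpc LT3 = true := by decide +kernel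
theorem okS : okpc LS = true := by decide +kernel
theorem okQ : okpc LQ = true := by decide +kernel
theorem okZ : okpc LZ = true := by decide +kernel
theorem card_P0 : Nat.card P0 = 3 ^ 8 := card_pcG okP [1, 64, 4, 16, 256, 1024] (by decide +kernel)
theorem card_D0 : Nat.card D0 = 3 ^ 6 := card_pcG okD [1, 4, 16, 64, 256, 1024] (by decide +kernel)
theorem card_T0 : Nat.card T0 = 3 ^ 7 := card_pcG okT [1, 64, 4, 16, 256] (by decide +kernel)
theorem card_S0 : Nat.card S0 = 3 ^ 5 := card_pcG okS [1, 4, 16, 64, 256] (by decide +kernel)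
theorem card_Q0 : Nat.card Q0 = 3 ^ 6 := card_pcG okQ [1, 64, 4, 256] (by decide +kernel)
theorem card_Z0 : Nat.card Z0 = 3 ^ 2 := card_pcG okZ [1, 64] (by decide +kernel)

theorem le_of_pc {L L' : List ℕ} (h : okpc L = true) (h' : forceL (pc3 L) (fun l => allL L' fun c => memL c l) = true) :
    pcG L' ≤ pcG L := ((pc3_spec h).2.1.of_subset (unL h' :)).closure_le isCanon_IR.func
theorem le_norm {L L' : List ℕ} (h : okpc L = true) (h' : forceL (pc3 L) (fun l => allL L' fun c => allL L fun d =>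
    force (conjC mulM invM c d) fun x => memL x l) = true) : pcG L' ≤ normalizer (pcG L : Set GL') :=
  (closure_le _).2 fun _ ⟨c, hc, hg⟩ => norm_of_code (pc3_spec h).2.1 hg (allL_iff.1 (unL h' :) c hc :)
theorem comm_pcG {L L' : List ℕ} (h : allL L (fun c => allL L' fun d => Nat.beq (mulM c d) (mulM d c)) = true)
    {a b : GL'} (ha : a ∈ pcG L) (hb : b ∈ pcG L') : a * b = b * a :=
  mem_centralizer_singleton_iff.1 ((closure_le (centralizer {b})).2 (fun a (⟨c, hc, ha⟩ : a ∈ genSet IR L) =>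
    mem_centralizer_singleton_iff.2 (mem_centralizer_singleton_iff.1 ((closure_le (centralizer {a})).2
      (fun b (⟨d, hd, hb⟩ : b ∈ genSet IR L') => mem_centralizer_singleton_iff.2
        (comm_of_IR ha hb (allL_iff.1 (allL_iff.1 h c hc) d hd)).symm) hb)).symm) ha)

theorem T0_N0 : T0 ≤ N0 := closure_le_of_words codesN [[4, 3, 5, 3, 4], [4, 4, 0, 5, 5], [2, 4, 4, 0, 5, 5, 3],
  [5, 2, 1, 3, 4], [1, 4, 4, 0, 5, 5], [4, 1, 4, 0, 5, 5]] (by decide +kernel)
theorem T0_X0 : T0 ≤ X0 := T0_N0.trans N0_le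
theorem T0_P0 : T0 ≤ P0 := closure_le_of_words (pc3_spec okP).1 [[4, 15], [6, 15], [8, 15], [10, 15], [12, 15]] (by decide +kernel)
theorem D0_P0 : D0 ≤ P0 := closure_le_of_words (pc3_spec okP).1 [] (by decide +kernel)
theorem S0_T0 : S0 ≤ T0 := closure_le_of_words (pc3_spec okT).1 [] (by decide +kernel)
theorem S0_D0 : S0 ≤ D0 := le_of_pc okD (by decide +kernel)
theorem Q0_T0 : Q0 ≤ T0 := le_of_pc okT (by decide +kernel)
theorem Z0_Q0 : Z0 ≤ Q0 := le_of_pc okQ (by decide +kernel)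
theorem Z0_S0 : Z0 ≤ S0 := le_of_pc okS (by decide +kernel)
theorem W_Z0 : zpowers wA ≤ Z0 := zpowers_le.2 (mem_of_code (pc3_spec okZ).2.1 IR_wA (by decide +kernel))
theorem P0_D0 : P0 ≤ normalizer (D0 : Set GL') := le_norm okD (by decide +kernel)
theorem D0_comm {a b : GL'} (ha : a ∈ D0) (hb : b ∈ D0) : a * b = b * a := comm_pcG (by decide +kernel) ha hb
theorem Z0_comm {a b : GL'} (ha : a ∈ P0) (hb : b ∈ Z0) : a * b = b * a := comm_pcG (by decide +kernel) ha hb
theorem X0_P0 : X0 ⊓ P0 = T0 := by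
  refine (eq_of_le_of_card_ge (le_inf T0_X0 T0_P0) (Nat.le_of_dvd Nat.card_pos ?_)).symm
  have := Nat.dvd_gcd (card_X0 ▸ card_dvd_of_le (inf_le_left (b := P0))) (card_P0 ▸ card_dvd_of_le (inf_le_right (a := X0)))
  rwa [card_T0]

/-- `[σ₁, f₁], [σ₁, f₂], [σ₂, f₄], [σ₂, f₅]`. -/
def LΦ : List ℕ := mapL (evalW mulM invM one12 LP) [[0, 4, 1, 5], [0, 6, 1, 7], [2, 10, 3, 11], [2, 12, 3, 13]]
abbrev Φ0 := pcG LΦ
theorem codesΦ : CodesIn IR LΦ Φ0 := (isGrp_IR.mapW (pc3_spec okP).1 _).closure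
theorem Φ0_D0 : Φ0 ≤ D0 := le_of_pc okD (by decide +kernel)
theorem Φ0_le {K : Subgroup GL'} (hK : K ≤ P0) (hc : Nat.card K = 3 ^ 7) : Φ0 ≤ K := by
  have h1 : (K.subgroupOf P0).index = 3 := by
    have := (K.subgroupOf P0).index_mul_card
    rw [Nat.card_congr (subgroupOfEquivOfLe hK).toEquiv, hc, card_P0] at this; omega
  have h2 : (K.subgroupOf P0).Normal := normal_of_index_eq_minFac_card (by rw [h1, card_P0]; norm_num)
  have := Fact.mk Nat.prime_three
  have h3 : IsCyclic (P0 ⧸ K.subgroupOf P0) := isCyclic_of_prime_card h1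
  have key : ∀ a ∈ P0, ∀ b ∈ P0, a * (b * (a⁻¹ * (b⁻¹ * 1))) ∈ K := fun a ha b hb => by
    have := (QuotientGroup.eq_one_iff (N := K.subgroupOf P0) (⟨a, ha⟩ * (⟨b, hb⟩ * ((⟨a, ha⟩)⁻¹ * ((⟨b, hb⟩)⁻¹ * 1))))).1 (by
      simp only [QuotientGroup.mk_mul, QuotientGroup.mk_inv, mul_one]
      rw [h3.isMulCommutative.is_comm.comm (QuotientGroup.mk _)⁻¹]; group)
    exact this
  obtain ⟨x, hx, hr⟩ := isGrp_IR.exists_elts (pc3_spec okP).1
  refine CodesIn.closure_le (fun c hc => ?_) isCanon_IR.func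
  simp only [LΦ, mapL_eq, List.map_cons, List.map_nil, List.mem_cons, List.not_mem_nil, or_false] at hc
  rcases hc with rfl | rfl | rfl | rfl <;> exact ⟨_, key _ (hx _) _ (hx _), isGrp_IR.evalW hr _⟩
theorem codesΦ' : CodesIn IR [z1, z2, u1, g5] Φ0 :=
  (isGrp_IR.slpW [[0, 0, 2], [4, 4, 6], [2, 2], [6, 6]] codesΦ).of_subset (by decide +kernel)

end Cfsg.Agent.F24T
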