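import Cfsg.Agent.F24T.L0

/-! Scans over `T0`, `Q0`, `S0`: characterisations of `S0`, `Z0`, `Q0` modulo `⟨ω⟩`, the action of `eE`. -/

set_option autoImplicit false
set_option maxHeartbeats 0

namespace Cfsg.Agent.F24T
open Cfsg.Agent.Comp Subgroup MulAction J4T

/-- `[x, y] ∈ ⟨ω⟩`. -/
def cw (x y : ℕ) : Bool := force (mulM x y) fun a => force (mulM y x) fun b => anyL LW fun w => Nat.beq a (mulM w b)
theorem cw_of {c d : ℕ} {x y : GL'} (hx : IR c x) (hy : IR d y) (h : x * y * x⁻¹ * y⁻¹ ∈ zpowers wA) : cw c d = true := by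
  obtain ⟨w, hw⟩ := exists_IR (X0_le.trans Xs_le (W_X0 h))
  simp only [cw, force_eq, anyL_iff, nbeq]
  exact ⟨w, memL_iff.1 (memLW hw h), isCanon_IR.canon (isGrp_IR.mul hx hy)
    (by simpa [mul_assoc] using isGrp_IR.mul hw (isGrp_IR.mul hy hx))⟩

noncomputable def aS : GL' := el cS
noncomputable def eE : GL' := el cE
theorem IR_aS : IR cS aS := IR_el (by decide +kernel)
theorem IR_eE : IR cE eE := IR_el (by decide +kernel)
theorem aS_S0 : aS ∈ S0 := mem_of_code (pc3_spec okS).2.1 IR_aS (by decide +kernel)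
theorem eE_X0 : eE ∈ X0 := mem_of_code codesX0 IR_eE (by decide +kernel)

theorem scanS {x : GL'} (hx : x ∈ T0) (h : x * (x * aS * x⁻¹ * aS⁻¹) * x⁻¹ * (x * aS * x⁻¹ * aS⁻¹)⁻¹ ∈ zpowers wA) :
    x ∈ S0 := by
  have k : forceL (pc3 LS) (fun l => force (invM cS) fun b => allpc LT3 (fun c =>
    imp (cw c (mulM (conjC mulM invM c cS) b)) (memL c l)) one12) = true := by decide +kernel
  obtain ⟨c, hc, e⟩ := scan okT (unF (unL k :) :) hx
  exact mem_of_code (pc3_spec okS).2.1 hc (imp_iff.1 e (cw_of hc (isGrp_IR.mul (isGrp_IR.conj hc IR_aS) IR_aS.inv) h))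

theorem scanZ {x : GL'} (hx : x ∈ T0) (h : ∀ y ∈ T0, x * y * x⁻¹ * y⁻¹ ∈ zpowers wA) : x ∈ Z0 := by
  have k : allpc LT3 (fun c => imp (allL LT3 (cw c)) (memL c (pc3 LZ))) one12 = true := by decide +kernel
  obtain ⟨c, hc, e⟩ := scan okT k hx
  exact mem_of_code (pc3_spec okZ).2.1 hc (imp_iff.1 e (allL_iff.2 fun d hd =>
    let ⟨y, hy, e⟩ := (pc3_spec okT).1 d hd; cw_of hc e (h y hy)))

theorem scanQ {x : GL'} (hx : x ∈ T0) (h : x * (x * x) ∈ zpowers wA) : x ∈ Q0 ∨ x ∈ S0 := by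
  have k : forceL (pc3 LS) (fun l => forceL (pc3 LQ) fun l' => allpc LT3 (fun c =>
    imp (memL (mulM c (mulM c c)) LW) (bor (memL c l') (memL c l))) one12) = true := by decide +kernel
  obtain ⟨c, hc, e⟩ := scan okT (unL (unL k :) :) hx
  rw [imp_iff, bor_eq, Bool.or_eq_true] at e
  exact (e (memLW (isGrp_IR.mul hc (isGrp_IR.mul hc hc)) h)).imp (mem_of_code (pc3_spec okQ).2.1 hc)
    (mem_of_code (pc3_spec okS).2.1 hc)

theorem Q0_cube {x : GL'} (hx : x ∈ Q0) : x * (x * x) = 1 := by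
  have k : allpc LQ (fun c => Nat.beq (mulM c (mulM c c)) one12) one12 = true := by decide +kernel
  obtain ⟨c, hc, e⟩ := scan okQ k hx
  exact isCanon_IR.func (isGrp_IR.mul hc (isGrp_IR.mul hc hc)) (nbeq.1 e ▸ isGrp_IR.one)

theorem eE_Q0 : eE ∈ normalizer (Q0 : Set GL') := norm_of_code (pc3_spec okQ).2.1 IR_eE (by decide +kernel)
theorem eE_Z0 {x : GL'} (hx : x ∈ Z0) : eE * x = x * eE :=
  comm_pcG (L := [cE]) (by decide +kernel) (subset_closure ⟨cE, List.mem_singleton_self _, IR_eE⟩) hx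

theorem scanI {x : GL'} (hx : x ∈ Q0) : eE * eE * x * (eE * eE)⁻¹ * x ∈ Z0 := by
  have k : force (mulM cE cE) (fun a => force (invM a) fun b => allpc LQ (fun c =>
    memL (mulM (mulM (mulM a c) b) c) (pc3 LZ)) one12) = true := by decide +kernel
  obtain ⟨c, hc, e⟩ := scan okQ (unF (unF k :) :) hx
  have h2 := isGrp_IR.mul IR_eE IR_eE
  exact mem_of_code (pc3_spec okZ).2.1 (isGrp_IR.mul (isGrp_IR.mul (isGrp_IR.mul h2 hc) h2.inv) hc) e

theorem scanG {x : GL'} (hx : x ∈ S0) : x ∈ Q0 ∨ (eE * x) ^ 3 ∈ Q0 ∨ (eE * eE)⁻¹ * (eE * x) ^ 3 ∈ Q0 := by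
  have k : forceL (pc3 LQ) (fun l => force (invM (mulM cE cE)) fun b => allpc LS (fun c =>
    bor (memL c l) (force (powC mulM one12 (mulM cE c) 3) fun d => bor (memL d l) (force (mulM b d) fun a => memL a l)))
      one12) = true := by decide +kernel
  obtain ⟨c, hc, e⟩ := scan okS (unF (unL k :) :) hx
  simp only [force_eq, bor_eq, Bool.or_eq_true] at e
  have h3 := isGrp_IR.pow (isGrp_IR.mul IR_eE hc) 3
  exact e.imp (mem_of_code (pc3_spec okQ).2.1 hc) fun e => e.imp (mem_of_code (pc3_spec okQ).2.1 h3)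
    (mem_of_code (pc3_spec okQ).2.1 (isGrp_IR.mul (isGrp_IR.mul IR_eE IR_eE).inv h3))

end Cfsg.Agent.F24T
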