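import Cfsg.Agent.F24T.L0s

/-! `Cor Γ π`: `Γ ≤ GL × GL` is the graph of an isomorphism `Y/⟨π⟩ ≅ X0/⟨ω⟩`; `lift Γ K` is the subgroup of `Y`
corresponding to `K`. Steps A, B: after conjugation `lift T0 ≤ P0` and `π = ω` (`Cor.normal`). -/

set_option autoImplicit false

namespace Cfsg.Agent.F24T
open Cfsg.Agent.Comp Subgroup MulAction J4T

local notation "W" => zpowers wA

structure Cor (Γ : Subgroup (GL' × GL')) (π : GL') : Prop where
  ex : ∀ x ∈ X0, ∃ y, (y, x) ∈ Γ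
  mem : ∀ {y x}, (y, x) ∈ Γ → x ∈ X0
  ker : ∀ {y x}, (y, x) ∈ Γ → (y ∈ zpowers π ↔ x ∈ W)
  pi : (π, 1) ∈ Γ
  w : (1, wA) ∈ Γ
  ord : orderOf π = 3

def lift (Γ : Subgroup (GL' × GL')) (K : Subgroup GL') : Subgroup GL' :=
  (Γ ⊓ K.comap (MonoidHom.snd _ _)).map (MonoidHom.fst _ _)

variable {Γ : Subgroup (GL' × GL')} {π y x y' x' u : GL'} {K K' M : Subgroup GL'}

theorem mem_lift : y ∈ lift Γ K ↔ ∃ x ∈ K, (y, x) ∈ Γ :=
  ⟨by rintro ⟨⟨y, x⟩, h, rfl⟩; exact ⟨x, h.2, h.1⟩, fun ⟨x, h1, h2⟩ => ⟨(y, x), ⟨h2, h1⟩, rfl⟩⟩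
theorem lift_mono (h : K ≤ K') : lift Γ K ≤ lift Γ K' := map_mono (inf_le_inf_left _ (comap_mono h))
theorem gmul (h : (y, x) ∈ Γ) (h' : (y', x') ∈ Γ) : (y * y', x * x') ∈ Γ := mul_mem h h'
theorem ginv (h : (y, x) ∈ Γ) : (y⁻¹, x⁻¹) ∈ Γ := inv_mem h
theorem gpow (h : (y, x) ∈ Γ) (n : ℕ) : (y ^ n, x ^ n) ∈ Γ := pow_mem h n
theorem gcj (h : (y, x) ∈ Γ) (h' : (y', x') ∈ Γ) : (y * y' * y⁻¹, x * x' * x⁻¹) ∈ Γ := gmul (gmul h h') (ginv h)

/-- the conjugate `u Γ u⁻¹` in the first coordinate. -/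
def cjΓ (u : GL') (Γ : Subgroup (GL' × GL')) : Subgroup (GL' × GL') :=
  Γ.comap ((MulAut.conj u⁻¹).toMonoidHom.prodMap (MonoidHom.id _))
theorem mem_cjΓ : (y, x) ∈ cjΓ u Γ ↔ (u⁻¹ * y * u, x) ∈ Γ := by simp [cjΓ]
theorem mem_lift_cj : y ∈ lift (cjΓ u Γ) K ↔ u⁻¹ * y * u ∈ lift Γ K := by simp only [mem_lift, mem_cjΓ]

namespace Cor
variable (h : Cor Γ π)
include h

theorem card_π : Nat.card (zpowers π) = 3 := by rw [Nat.card_zpowers, h.ord]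
theorem pi' (hy : y ∈ zpowers π) : (y, 1) ∈ Γ := by
  obtain ⟨k, rfl⟩ := hy; simpa using zpow_mem h.pi k
theorem w' (hx : x ∈ W) : (1, x) ∈ Γ := by
  obtain ⟨k, rfl⟩ := hx; simpa using zpow_mem h.w k
theorem π_lift : zpowers π ≤ lift Γ K := fun _ hy => mem_lift.2 ⟨1, one_mem _, h.pi' hy⟩
theorem of_lift (hW : W ≤ K) (hp : (y, x) ∈ Γ) (hy : y ∈ lift Γ K) : x ∈ K := by
  obtain ⟨x', h1, h2⟩ := mem_lift.1 hy
  simpa using mul_mem (hW ((h.ker (gmul hp (ginv h2))).1 (by simp))) h1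

theorem card_lift (hW : W ≤ K) (hK : K ≤ X0) : Nat.card (lift Γ K) = Nat.card K := by
  have h1 := Solv.card_map_mul_card_inf_ker (MonoidHom.fst _ _) (Γ ⊓ K.comap (MonoidHom.snd _ _))
  have h2 := Solv.card_map_mul_card_inf_ker (MonoidHom.snd _ _) (Γ ⊓ K.comap (MonoidHom.snd _ _))
  have e1 : Γ ⊓ K.comap (MonoidHom.snd _ _) ⊓ (MonoidHom.fst GL' GL').ker = (W).map (MonoidHom.inr _ _) := by
    ext ⟨y, x⟩
    refine ⟨fun ⟨⟨a, _⟩, c⟩ => ?_, ?_⟩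
    · obtain rfl : y = 1 := c
      exact ⟨x, (h.ker a).1 (one_mem _), rfl⟩
    · rintro ⟨x, hx, e⟩; rw [← e]; exact ⟨⟨h.w' hx, hW hx⟩, rfl⟩
  have e2 : Γ ⊓ K.comap (MonoidHom.snd _ _) ⊓ (MonoidHom.snd GL' GL').ker = (zpowers π).map (MonoidHom.inl _ _) := by
    ext ⟨y, x⟩
    refine ⟨fun ⟨⟨a, _⟩, c⟩ => ?_, ?_⟩
    · obtain rfl : x = 1 := c
      exact ⟨y, (h.ker a).2 (one_mem _), rfl⟩
    · rintro ⟨y, hy, e⟩; rw [← e]; exact ⟨⟨h.pi' hy, one_mem K⟩, rfl⟩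
  have e3 : (Γ ⊓ K.comap (MonoidHom.snd _ _)).map (MonoidHom.snd GL' GL') = K := le_antisymm
    (by rintro _ ⟨a, ha, rfl⟩; exact ha.2) fun x hx => let ⟨y, hy⟩ := h.ex x (hK hx); ⟨(y, x), ⟨hy, hx⟩, rfl⟩
  rw [inf_comm (MonoidHom.ker _), e1, card_map_of_injective (fun _ _ e => congrArg Prod.snd e), card_W] at h1
  rw [inf_comm (MonoidHom.ker _), e2, e3, card_map_of_injective (fun _ _ e => congrArg Prod.fst e), h.card_π] at h2
  have : Nat.card (lift Γ K) * 3 = _ := h1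
  omega

theorem lift_le {S : Set GL'} (hM : zpowers π ≤ M) (hS : ∀ x ∈ S, ∃ y ∈ M, (y, x) ∈ Γ) : lift Γ (closure S) ≤ M := by
  intro y hy
  obtain ⟨x, hx, hp⟩ := mem_lift.1 hy
  obtain ⟨⟨y', x⟩, h1, rfl⟩ := (closure_le ((Γ ⊓ M.comap (MonoidHom.fst _ _)).map (MonoidHom.snd _ _))).2
    (fun x hx => let ⟨y, h1, h2⟩ := hS x hx; ⟨(y, x), ⟨h2, h1⟩, rfl⟩) hx
  simpa using mul_mem (hM ((h.ker (gmul hp (ginv h1.1))).2 (by simp))) h1.2

theorem conj (u : GL') : Cor (cjΓ u Γ) (u * π * u⁻¹) where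
  ex x hx := let ⟨y, hy⟩ := h.ex x hx; ⟨u * y * u⁻¹, mem_cjΓ.2 (by simpa [mul_assoc] using hy)⟩
  mem hp := h.mem (mem_cjΓ.1 hp)
  ker {y x} hp := by
    rw [← h.ker (mem_cjΓ.1 hp)]
    constructor <;> rintro ⟨k, e⟩ <;> refine ⟨k, ?_⟩ <;> simp only [conj_zpow] at e ⊢
    · rw [← e]; group
    · rw [e]; group
  pi := mem_cjΓ.2 (by simpa [mul_assoc] using h.pi)
  w := mem_cjΓ.2 (by simpa using h.w)
  ord := by rw [← h.ord]; exact (MulAut.conj u).orderOf_eq π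

theorem congr {π' : GL'} (e : zpowers π = zpowers π') : Cor Γ π' :=
  ⟨h.ex, h.mem, e ▸ h.ker, h.pi' (e ▸ mem_zpowers _), h.w, by rw [← Nat.card_zpowers, ← e, h.card_π]⟩

theorem nrm (hp : (y, x) ∈ Γ) : y * π * y⁻¹ ∈ zpowers π := (h.ker (gcj hp h.pi)).2 (by simp)

theorem lift_nrm (hp : (y, x) ∈ Γ) (hx : x ∈ normalizer (K : Set GL')) : y ∈ normalizer (lift Γ K : Set GL') :=
  mem_normalizer_fintype fun _ hn =>
    let ⟨_, h1, h2⟩ := mem_lift.1 hn; mem_lift.2 ⟨_, conj_mem_of_norm hx h1, gcj hp h2⟩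

theorem card_T : Nat.card (lift Γ T0) = 3 ^ 7 := (h.card_lift (W_Z0.trans (Z0_Q0.trans Q0_T0)) T0_X0).trans card_T0

theorem stepA : ∃ u, lift (cjΓ u Γ) T0 ≤ P0 := by
  have := Fact.mk Nat.prime_three
  obtain ⟨g, hg⟩ := exists_conj_le (p := 3) (k := 8) (m := Nat.card GL' / 3 ^ 8) (X := lift Γ T0) card_P0
    (by rw [card_aut]; decide +kernel) (by rw [card_aut]; decide +kernel) (IsPGroup.of_card h.card_T)
  exact ⟨g, fun y hy => by simpa [mul_assoc] using hg _ (mem_lift_cj.1 hy)⟩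

variable (hP : lift Γ T0 ≤ P0)
include hP

theorem lift_S : lift Γ S0 = lift Γ T0 ⊓ D0 := by
  have hW := W_Z0.trans Z0_S0
  refine (eq_of_le_of_card_ge (fun y hy => ?_) ?_).symm
  · obtain ⟨x, hx, hp⟩ := mem_lift.1 hy.1
    obtain ⟨a, ha⟩ := h.ex _ (T0_X0 (S0_T0 aS_S0))
    have h1 : y * a * y⁻¹ * a⁻¹ ∈ D0 := by
      simpa [mul_assoc] using mul_mem hy.2 (conj_mem_of_norm (P0_D0 (hP (mem_lift.2 ⟨_, S0_T0 aS_S0, ha⟩))) (inv_mem hy.2))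
    have h2 := gmul (gcj hp ha) (ginv ha)
    exact mem_lift.2 ⟨x, scanS hx ((h.ker (gmul (gcj hp h2) (ginv h2))).1 (by rw [D0_comm hy.2 h1]; simp)), hp⟩
  · have h1 := Solv.card_inf_mul_relIndex D0 (lift Γ T0)
    have h2 := Solv.card_inf_mul_relIndex D0 P0
    have h3 := relIndex_le_of_le_right (H := D0) hP (by rw [inf_eq_left.2 D0_P0, card_D0, card_P0] at h2; omega)
    rw [inf_eq_left.2 D0_P0, card_D0, card_P0] at h2
    rw [h.card_T, inf_comm] at h1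
    rw [h.card_lift hW (S0_T0.trans T0_X0), card_S0]
    have : D0.relIndex (lift Γ T0) ≤ 9 := by omega
    nlinarith

theorem Φ_le : Φ0 ≤ lift Γ S0 := h.lift_S hP ▸ le_inf (Φ0_le hP h.card_T) Φ0_D0

theorem cen (hu : u ∈ Φ0) (hc : ∀ g ∈ P0, u * g * u⁻¹ * g⁻¹ ∈ zpowers π) : u ∈ lift Γ Z0 := by
  obtain ⟨x, hx, hp⟩ := mem_lift.1 (h.Φ_le hP hu)
  refine mem_lift.2 ⟨x, scanZ (S0_T0 hx) fun a ha => ?_, hp⟩
  obtain ⟨b, hb⟩ := h.ex a (T0_X0 ha)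
  exact (h.ker (gmul (gcj hp hb) (ginv hb))).1 (hc b (hP (mem_lift.2 ⟨a, ha, hb⟩)))

theorem lift_Z : lift Γ Z0 = Z0 := by
  refine (eq_of_le_of_card_ge ((closure_le _).2 fun u (hu : u ∈ genSet IR LZ) => h.cen hP ?_ fun g hg => ?_)
    (h.card_lift W_Z0 (Z0_Q0.trans (Q0_T0.trans T0_X0))).le).symm
  · exact (codesΦ'.of_subset (L' := LZ) (by decide +kernel)).closure_le isCanon_IR.func (subset_closure hu)
  · rw [← Z0_comm hg (subset_closure hu)]; simp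

theorem notz {c d : ℕ} (hd : d ∈ [z1, z2, u1, g5]) (hk : band (band (okpc [c]) (not (memL d (pc3 LZ)))) (allL LP fun g =>
    band (Nat.beq (mulM g c) (mulM c g)) (memL (mulM (conjC mulM invM g d) (invM d)) (pc3 [c]))) = true) :
    ¬ pcG [c] ≤ zpowers π := fun hc => by
  simp only [band_eq, Bool.and_eq_true, allL_iff] at hk
  obtain ⟨u, hu, e⟩ := codesΦ' d hd
  have : P0 ≤ cmL (pcG [c]) u := (closure_le _).2 fun g (⟨a, ha, hg⟩ : g ∈ genSet IR LP) =>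
    ⟨mem_normalizer_closure fun t ht => by
      obtain ⟨_, h1, h2⟩ := id ht
      obtain rfl := List.mem_singleton.1 h1
      rw [comm_of_IR hg h2 (hk.2 a ha).1, mul_inv_cancel_right]; exact subset_closure ht,
    mem_of_code (pc3_spec hk.1.1).2.1 (isGrp_IR.mul (isGrp_IR.conj hg e) e.inv) (hk.2 a ha).2⟩
  have h1 := code_of_mem (pc3_spec okZ).2.2 e ((h.lift_Z hP).le (h.cen hP hu fun g hg => hc (cm_symm (this hg).2)))
  simp [h1] at hk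
end Cor

def cκ2 : ℕ := 0xc004003001000c0040020010008004002001

theorem Cor.normal (h : Cor Γ π) : ∃ u, Cor (cjΓ u Γ) wA ∧ lift (cjΓ u Γ) T0 ≤ P0 ∧ u * π * u⁻¹ ∈ W := by
  have key : ∀ {Γ π}, Cor Γ π → π ∈ W → Cor Γ wA := fun h hπ =>
    h.congr (eq_of_le_of_card_ge (zpowers_le.2 hπ) (by rw [card_W, h.card_π]))
  obtain ⟨u, hP⟩ := h.stepA
  have h' := h.conj u
  obtain ⟨c, hc, e⟩ := scan okZ (f := fun c => bor (bor (memL c LW) (memL (conjC mulM invM cκ2 c) LW))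
    (anyL LZ fun z => bor (Nat.beq c z) (Nat.beq (mulM c c) z))) (by decide +kernel)
    ((h'.lift_Z hP).le (h'.π_lift (mem_zpowers _)))
  have cW : CodesIn IR LW W := fun _ => of_memLW
  simp only [bor_eq, Bool.or_eq_true, anyL_iff, nbeq] at e
  rcases e with (e | e) | ⟨z, hz, e⟩
  · exact ⟨u, key h' (mem_of_code cW hc e), hP, mem_of_code cW hc e⟩
  · obtain ⟨k, hk⟩ := exists_of_okI (c := cκ2) (by decide +kernel)
    have h1 := mem_of_code cW (isGrp_IR.conj hk hc) e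
    have h2 : k * u * π * (k * u)⁻¹ ∈ W := by simpa [mul_assoc] using h1
    have h3 : k ∈ normalizer (P0 : Set GL') := norm_of_code (isGrp_IR.slpW [[5], [7], [9], [11], [13], [15]]
      (pc3_spec okP).1) hk (by decide +kernel)
    refine ⟨k * u, key (h.conj _) h2, fun y hy => ?_, h2⟩
    have := conj_mem_of_norm h3 (hP (mem_lift_cj.2 (show u⁻¹ * (k⁻¹ * y * k) * u ∈ _ by
      simpa [mul_assoc] using mem_lift_cj.1 hy)))
    simpa [mul_assoc] using this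
  · have h1 : pcG [z] ≤ zpowers (u * π * u⁻¹) := (closure_le _).2 fun t (⟨_, h1, h2⟩ : t ∈ genSet IR [z]) => by
      obtain rfl := List.mem_singleton.1 h1
      rcases e with rfl | rfl
      exacts [isCanon_IR.func hc h2 ▸ mem_zpowers _,
        isCanon_IR.func (isGrp_IR.mul hc hc) h2 ▸ mul_mem (mem_zpowers _) (mem_zpowers _)]
    simp only [LZ, List.mem_cons, List.not_mem_nil, or_false] at hz
    rcases hz with rfl | rfl
    exacts [absurd h1 (h'.notz hP (d := u1) (by simp) (by decide +kernel)),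
      absurd h1 (h'.notz hP (d := g5) (by simp) (by decide +kernel))]

end Cfsg.Agent.F24T
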