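import Cfsg.Agent.F24T.L1

/-! The monomial group `M0 = 3 ≀ S₆` (`mono`: it contains the `ω`-linear normaliser of any `K` with `Φ0 ≤ K ≤ D0`).
Steps C–F: `lift N0 = N0`, `lift T0 = T0`, `lift S0 = S0`, `lift Q0 = Q0`. -/

set_option autoImplicit false

namespace Cfsg.Agent.F24T
open Cfsg.Agent.Comp Subgroup MulAction J4T

local notation "W" => zpowers wA

def Sh : List ℕ := [1, 2, 3, 4, 8, 12, 16, 32, 48, 64, 128, 192, 256, 512, 768, 1024, 2048, 3072]
def Mon : Subgroup GL' := Cw ⊓ closure {g | ∀ v ∈ {v : XV 12 | v.val ∈ Sh}, g • v ∈ {v : XV 12 | v.val ∈ Sh}}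
def cH : ℕ := 0x800400200100080040030020002001008004
def M0 : Subgroup GL' := pcG [cS, c3, c5, cH]
noncomputable def hH : GL' := el cH
theorem IR_hH : IR cH hH := IR_el (by decide +kernel)

theorem w_val (v : XV 12) : (wA v).val = app cW v.val := IR_wA.1.2 v

theorem mon_step {K : Subgroup GL'} (hK : K ≤ Mon) {F : List ℕ} (hF : ∀ g ∈ K, ∀ v : XV 12, v.val ∈ F → g v = v)
    (b n : ℕ) (h : band (band (memL b Sh) (not (memL b F))) (band (Nat.blt b 4096)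
      (Nat.ble (lenL (filterL (fun v => not (memL v F)) Sh)) n)) = true) : ∃ K' ≤ Mon, Nat.card K ≤ n * Nat.card K' ∧
      ∀ g ∈ K', ∀ v : XV 12, v.val ∈ b :: app cW b :: app cW (app cW b) :: F → g v = v := by
  simp only [band_eq, Bool.and_eq_true, memL_iff, nblt, nble, Bool.not_eq_true', ← Bool.not_eq_true] at h
  obtain ⟨⟨h1, h2⟩, h3, h4⟩ := h
  let B : XV 12 := ⟨b, h3⟩
  refine ⟨K ⊓ stabilizer _ B, inf_le_left.trans hK, ?_, fun g hg v hv => ?_⟩
  · rw [card_eq_ncard_orbit_mul K B]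
    refine Nat.mul_le_mul_right _ (le_trans (ncard_le_length_of_func VP.func ?_) (lenL_eq _ ▸ h4))
    rintro _ ⟨g, rfl⟩
    refine ⟨_, ?_, rfl⟩
    rw [filterL_eq, List.mem_filter, Bool.not_eq_true', ← Bool.not_eq_true, memL_iff]
    refine ⟨closure_mapsTo_of_finite (Set.toFinite _) (fun _ h => h) (hK g.2).2 B h1, fun hm => h2 ?_⟩
    have : g.1 B = B := g.1.injective (hF g g.2 _ hm)
    exact (congrArg (fun v : XV 12 => v.val ∈ F) this).mp hm
  · have hw : ∀ v, g v = v → g (wA v) = wA v := fun v e => by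
      rw [← MulAut.mul_apply, mem_Cw.1 (hK hg.1).1, MulAut.mul_apply, e]
    have hb : g B = B := hg.2
    simp only [List.mem_cons] at hv
    rcases hv with e | e | e | e
    · rwa [show v = B from XV.ext e]
    · rw [show v = wA B from XV.ext (e.trans (w_val B).symm)]; exact hw _ hb
    · rw [show v = wA (wA B) from XV.ext (by rw [e, w_val, w_val])]; exact hw _ (hw _ hb)
    · exact hF g hg.1 v e

theorem M0_eq : M0 = Mon := by
  have cM : CodesIn IR [cS, c3, c5, cH] M0 := codes_of_okI (by decide +kernel)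
  refine eq_of_le_of_card_ge (le_inf (le_Cw (by decide +kernel)) (closure_mono fun g ⟨c, hc, hg⟩ v hv => ?_)) ?_
  · have : allL [cS, c3, c5, cH] (fun c => allL Sh fun v => memL (app c v) Sh) = true := by decide +kernel
    show (g v).val ∈ Sh
    rw [hg.1.2]; exact memL_iff.1 (allL_iff.1 (allL_iff.1 this c hc) _ hv)
  obtain ⟨K1, a1, b1, c1⟩ := mon_step le_rfl (F := []) (by simp) 1 18 (by decide +kernel)
  obtain ⟨K2, a2, b2, c2⟩ := mon_step a1 c1 4 15 (by decide +kernel)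
  obtain ⟨K3, a3, b3, c3⟩ := mon_step a2 c2 16 12 (by decide +kernel)
  obtain ⟨K4, a4, b4, c4⟩ := mon_step a3 c3 64 9 (by decide +kernel)
  obtain ⟨K5, a5, b5, c5⟩ := mon_step a4 c4 256 6 (by decide +kernel)
  obtain ⟨K6, -, b6, c6⟩ := mon_step a5 c5 1024 3 (by decide +kernel)
  have h6 : K6 = ⊥ := eq_bot_iff.2 fun g hg => isCanon_MR (n := 12) le_rfl |>.func (MR.of_col le_rfl (MR.one le_rfl).1
    fun i hi => by
      rw [c6 g hg _ (memL_iff.1 (allLt_iff.1 (by decide +kernel : allLt 12 (fun i => memL (2 ^ i) _) = true) i hi))]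
      exact (MR.one le_rfl).col_eq le_rfl hi) (MR.one le_rfl)
  rw [h6, card_bot] at b6
  have := chainM_le_card (B := [1, 4, 16, 64, 256, 1024]) (by decide +kernel) (isGrp_IR.slpW [[6, 6, 6], [6, 6, 6, 6],
    [4, 10, 5], [4, 12, 5], [4, 14, 5], [4, 16, 5], [2, 10, 3], [2, 8, 3], [4, 22, 5], [4, 24, 5], [4, 26, 5]] cM).toMR 20
  exact le_trans (by omega) (le_trans (by decide +kernel : 524880 ≤ _) this)

theorem mono {g : GL'} (hw : g ∈ Cw) {K : Subgroup GL'} (h1 : Φ0 ≤ K) (h2 : K ≤ D0) (hg : g ∈ normalizer (K : Set GL')) :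
    g ∈ M0 := by
  refine M0_eq ▸ ⟨hw, subset_closure fun v hv => ?_⟩
  have k1 : allpc LD3 (fun c => allL Sh fun v => anyL LW fun w => Nat.beq (app c v) (app w v)) one12 = true := by
    decide +kernel
  have k2 := all4096 (f := fun v => bor (bor (Nat.beq v 0) (memL v Sh)) (not (allL LΦ fun c => anyL LW fun w =>
    Nat.beq (app c v) (app w v)))) (by decide +kernel) (P := fun v => _) (fun _ h => h) _ (g v).lt
  have k3 : allL LΦ (fun c => anyL LW fun w => Nat.beq (app c (g v).val) (app w (g v).val)) = true :=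
    allL_iff.2 fun c hc => by
      obtain ⟨k, hk, e⟩ := codesΦ c hc
      obtain ⟨d, hd, e'⟩ := scan okD k1 (h2 (conj_mem_of_norm (inv_mem hg) (h1 hk)))
      obtain ⟨w, hw', e'⟩ := anyL_iff.1 (allL_iff.1 e' _ hv)
      obtain ⟨u, hu, e''⟩ := of_memLW hw'
      refine anyL_iff.2 ⟨w, hw', nbeq.2 ?_⟩
      rw [nbeq, ← hd.1.2, ← e''.1.2] at e'
      rw [← e.1.2, ← e''.1.2, ← MulAut.mul_apply _ u, hw u hu, MulAut.mul_apply, ← XV.ext e']; simp
  simp only [k3, bor_eq, Bool.or_eq_true, nbeq, memL_iff, Bool.not_true, Bool.false_eq_true, or_false] at k2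
  refine k2.resolve_left fun e => ?_
  obtain rfl : v = 1 := g.map_eq_one_iff.1 (XV.ext e)
  exact absurd hv (by show ¬ 0 ∈ Sh; decide)

theorem hH_N0 : hH ∈ normalizer (N0 : Set GL') :=
  norm_of_code (isGrp_IR.slpW [[2, 0, 3], [2, 1, 2, 0], [3, 0, 4]] codesN) IR_hH (by decide +kernel)

theorem M0_dec {g : GL'} (hg : g ∈ M0) : ∃ n ∈ N0, ∃ k : ℤ, g = n * hH ^ k := by
  have : M0 ≤ N0 ⊔ zpowers hH := ((codesN.mono le_sup_left).append (CodesIn.cons (mem_sup_right (mem_zpowers _)) IR_hH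
    (CodesIn.nil _))).closure_le isCanon_IR.func
  have := this hg
  rw [← SetLike.mem_coe, coe_mul_of_right_le_normalizer_left _ _ (zpowers_le.2 hH_N0)] at this
  obtain ⟨n, hn, _, ⟨k, rfl⟩, rfl⟩ := this
  exact ⟨n, hn, k, rfl⟩

theorem M0_cm {a b : GL'} (ha : a ∈ M0) (hb : b ∈ M0) : a * b * a⁻¹ * b⁻¹ ∈ N0 := by
  obtain ⟨n, hn, i, rfl⟩ := M0_dec ha
  obtain ⟨m, hm, j, rfl⟩ := M0_dec hb
  have := mul_mem (mul_mem (mul_mem hn (conj_mem_of_norm (zpow_mem hH_N0 i) hm))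
    (conj_mem_of_norm (zpow_mem hH_N0 j) (inv_mem hn))) (inv_mem hm)
  convert this using 1; group

theorem sq_Cw {y : GL'} (h : y * wA * y⁻¹ ∈ W) : y ∈ Cw ∨ y * wA = wA * wA * y :=
  ((mem_W.1 h).resolve_left (by simpa using wA_ne)).imp (fun e => mem_Cw.2 (mul_inv_eq_iff_eq_mul.1 e))
    mul_inv_eq_iff_eq_mul.1

variable {Γ : Subgroup (GL' × GL')} {y x : GL'}

namespace Cor
variable (h : Cor Γ wA)
include h

theorem odd (hp : (y, x) ∈ Γ) {c : ℕ} (hc : IR c x) (n : ℕ) (hn : memL (powC mulM one12 c (2 * n + 1)) LW = true) :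
    y ∈ Cw := by
  have h1 := (h.ker (gpow hp (2 * n + 1))).2 (mem_of_code (fun _ => of_memLW) (isGrp_IR.pow hc _) hn)
  have : y * y ∈ Cw := (sq_Cw (h.nrm hp)).elim (fun e => mul_mem e e) fun e => Nw.mul_mem_Cw e e
  rw [pow_succ, pow_mul, sq] at h1
  exact (mul_mem_cancel_left (pow_mem this n)).1 (W_le_Cw h1)

theorem N_Cw : lift Γ N0 ≤ Cw := h.lift_le W_le_Cw fun x hx => by
  obtain ⟨y, hy⟩ := h.ex x (N0_le (subset_closure hx))
  obtain ⟨c, hc, hx⟩ := hx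
  exact ⟨y, h.odd hy hx 7 (allL_iff.1 (by decide +kernel : allL LN (fun c => memL (powC mulM one12 c 15) LW) = true) c hc), hy⟩

variable (hP : lift Γ T0 ≤ P0)
include hP

theorem lift_N : lift Γ N0 ≤ N0 := by
  have h1 : lift Γ N0 ≤ M0 := fun y hy => let ⟨_, hx, hp⟩ := mem_lift.1 hy
    mono (h.N_Cw hy) (h.Φ_le hP) (h.lift_S hP ▸ inf_le_right) (h.lift_nrm hp (le_norm (L' := LN) okS (by decide +kernel) hx))
  have key : ∀ {c d a b}, IR c a → IR d b → a ∈ N0 → b ∈ N0 → ∃ g ∈ (Γ ⊓ N0.comap (MonoidHom.fst _ _)).map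
      (MonoidHom.snd _ _), IR (mulM (conjC mulM invM c d) (invM d)) g := fun hc hd ha hb => by
    obtain ⟨y, hy⟩ := h.ex _ (N0_le ha); obtain ⟨y', hy'⟩ := h.ex _ (N0_le hb)
    exact ⟨_, ⟨_, ⟨gmul (gcj hy hy') (ginv hy'), M0_cm (h1 (mem_lift.2 ⟨_, ha, hy⟩)) (h1 (mem_lift.2 ⟨_, hb, hy'⟩))⟩, rfl⟩,
      isGrp_IR.mul (isGrp_IR.conj hc hd) hd.inv⟩
  obtain ⟨a, ha, ea⟩ := codesN cS (by simp [LN]); obtain ⟨b, hb, eb⟩ := codesN c3 (by simp [LN])
  obtain ⟨c, hc, ec⟩ := codesN c5 (by simp [LN])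
  obtain ⟨g1, a1, b1⟩ := key ea eb ha hb; obtain ⟨g2, a2, b2⟩ := key eb ec hb hc
  obtain ⟨g3, a3, b3⟩ := key (isGrp_IR.mul ec ec) (isGrp_IR.mul ec eb) (mul_mem hc hc) (mul_mem hc hb)
  have h2 := closure_le_of_words (L' := LN) (CodesIn.cons a1 b1 (CodesIn.cons a2 b2 (CodesIn.cons a3 b3 (CodesIn.nil _))))
    [[0, 4, 1, 5], [4, 2, 5, 2, 5, 5, 2, 4], [4, 4, 2, 5, 2, 5]] (by decide +kernel)
  refine h.lift_le (W_Z0.trans (Z0_Q0.trans (Q0_T0.trans T0_N0))) fun x hx => ?_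
  obtain ⟨⟨y, x⟩, h3, rfl⟩ := h2 (subset_closure hx)
  exact ⟨y, h3.2, h3.1⟩

theorem lift_N' : lift Γ N0 = N0 := eq_of_le_of_card_ge (h.lift_N hP)
  (h.card_lift (W_Z0.trans (Z0_Q0.trans (Q0_T0.trans T0_N0))) N0_le).ge

theorem lift_T : lift Γ T0 = T0 := eq_of_le_of_card_ge ((le_inf ((lift_mono T0_N0).trans
  ((h.lift_N hP).trans N0_le)) hP).trans X0_P0.le) (by rw [h.card_T, card_T0])

theorem lift_S' : lift Γ S0 = S0 := (eq_of_le_of_card_ge (by rw [h.lift_S hP, h.lift_T hP]; exact le_inf S0_T0 S0_D0)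
  (h.card_lift (W_Z0.trans Z0_S0) (S0_T0.trans T0_X0)).le).symm

theorem lift_Q : lift Γ Q0 = Q0 := by
  have h1 := h.card_lift (W_Z0.trans Z0_Q0) (Q0_T0.trans T0_X0)
  have h2 : (lift Γ Q0 : Set GL') ⊆ Q0 ∪ S0 := fun y hy => by
    obtain ⟨x, hx, hp⟩ := mem_lift.1 hy
    exact scanQ ((h.lift_T hP).le (lift_mono Q0_T0 hy)) ((h.ker (gmul hp (gmul hp hp))).2 (Q0_cube hx ▸ one_mem _))
  rcases SubgroupClass.subset_union.1 h2 with e | e
  · exact eq_of_le_of_card_ge e h1.ge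
  · have := card_le_of_le e
    rw [h1, card_Q0, card_S0] at this; omega
end Cor

end Cfsg.Agent.F24T
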