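import Cfsg.Agent.F24T.L2

/-! Step G (block scans for the lift of `eE`) and the uniqueness theorem `Cor.L1`: a subgroup `Y` of `GL₁₂(2)` with
`Y/⟨π⟩ ≅ U₄(3)`, `|π| = 3`, is conjugate to `X0`, with `π` going to `ω^±1`. -/

set_option autoImplicit false

namespace Cfsg.Agent.F24T
open Cfsg.Agent.Comp Subgroup MulAction J4T

local notation "W" => zpowers wA

def Blk (a : ℕ) : Prop := ∀ v < 64, app a v < 64
def Ag (a b : ℕ) : Prop := ∀ v < 64, app a v = app b v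
def agr (a b : ℕ) : Bool := force a fun a => force b fun b => allLt 6 fun i => Nat.beq (col a i) (col b i)
theorem agr_iff {a b : ℕ} : agr a b = true ↔ Ag a b := by
  simp only [agr, force_eq, allLt_iff, nbeq]
  exact ⟨fun h => lin_ext (n := 6) (fun _ _ _ _ => app_xor ..) (fun _ _ _ _ => app_xor ..) fun i hi => by
    rw [app_pow _ (by omega), app_pow _ (by omega), h i hi], fun h i hi => by
    rw [← app_pow _ (by omega), ← app_pow _ (by omega), h _ (Nat.pow_lt_pow_right (n := 6) one_lt_two hi)]⟩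
theorem Ag.mul {a a' b b' : ℕ} (h : Ag a a') (h' : Ag b b') (hb : Blk b) : Ag (mulM a b) (mulM a' b') := fun v hv => by
  rw [app_mulM _ _ (by omega), app_mulM _ _ (by omega), ← h' v hv, h _ (hb v hv)]
theorem Blk.mul {a b : ℕ} (h : Blk a) (hb : Blk b) : Blk (mulM a b) := fun v hv => by
  rw [app_mulM _ _ (by omega)]; exact h _ (hb v hv)
theorem Ag.rfl {a : ℕ} : Ag a a := fun _ _ => _root_.rfl
theorem Ag.symm {a b : ℕ} (h : Ag a b) : Ag b a := fun v hv => (h v hv).symm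
theorem Ag.trans {a b c : ℕ} (h : Ag a b) (h' : Ag b c) : Ag a c := fun v hv => (h v hv).trans (h' v hv)

def LR1 : List ℕ := [c3, u1, z1]
def X6 : List ℕ := [0x80040020010008004002501f03702e03d02b, 0x80040020010008004002f01a01d03b01703e,
  0x80040020010008004002a01502d01b02701e, 0x80040020010008004002f01a01703e01d03b,
  0x80040020010008004002501f03d02b03702e, 0x80040020010008004002a01502701e02d01b]
def cand (t b : ℕ) : ℕ := force (app b t) fun t1 => force (app b t1) fun t2 =>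
  pack 12 6 (nthL 0 [t, app cW t, t1, app cW t1, t2, app cW t2])

theorem res_Q {b : ℕ} {y : GL'} (hb : MR 12 b y) (hy : y ∈ Q0) : ∃ r ∈ pc3 LR1, Ag b r := by
  have k : forceL (pc3 LR1) (fun l => allpc LQ (fun c => anyL l (agr c)) one12) = true := by decide +kernel
  obtain ⟨c, hc, e⟩ := scan okQ (unL k :) hy
  obtain ⟨r, h1, h2⟩ := anyL_iff.1 e
  exact ⟨r, h1, hc.1.canon le_rfl hb ▸ agr_iff.1 h2⟩

structure Hb (g : GL') : Prop where
  w : g ∈ Cw
  z : ∀ a ∈ Z0, g * a = a * g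
  q : g ∈ normalizer (Q0 : Set GL')
  i : ∀ y ∈ Q0, g * g * y * (g * g)⁻¹ * y ∈ Z0

theorem Hb.conj {g s : GL'} (h : Hb g) (hw : s ∈ Cw) (hz : s ∈ normalizer (Z0 : Set GL'))
    (hq : s ∈ normalizer (Q0 : Set GL')) : Hb (s * g * s⁻¹) :=
  ⟨mul_mem (mul_mem hw h.w) (inv_mem hw), fun a ha => by
    have := h.z _ (conj_mem_of_norm (inv_mem hz) ha)
    calc s * g * s⁻¹ * a = s * (g * (s⁻¹ * a * s⁻¹⁻¹)) * s⁻¹ := by group
      _ = _ := by rw [this]; group,
  mul_mem (mul_mem hq h.q) (inv_mem hq), fun y hy => by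
    convert conj_mem_of_norm hz (h.i _ (conj_mem_of_norm (inv_mem hq) hy)) using 1; group⟩

theorem Hb.blk {g : GL'} (h : Hb g) {c : ℕ} (hc : MR 12 c g) : ∃ x ∈ X6, ∃ r ∈ pc3 LR1, Ag c (mulM x r) := by
  have rel : ∀ {a b : ℕ} {x y : GL'}, MR 12 a x → MR 12 b y → g * x = y * g → mulM c a = mulM b c := fun ha hb e =>
    (hc.mul le_rfl ha).canon le_rfl (e ▸ hb.mul le_rfl hc)
  obtain ⟨Z, hZ, eZ⟩ := (pc3_spec okZ).1 z2 (by simp [LZ])
  obtain ⟨S, hS, eS⟩ := (pc3_spec okQ).1 c3 (by simp [LQ])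
  obtain ⟨U, hU, eU⟩ := (pc3_spec okQ).1 u1 (by simp [LQ])
  have bc : Blk c := fun v hv => by
    have k := all4096 (f := fun v => Bool.rec (not (Nat.blt v 64)) (Nat.blt v 64) (Nat.beq (app z2 v) v))
      (by decide +kernel) (P := fun v => app z2 v = v ↔ v < 64) fun v h => by
        by_cases e : app z2 v = v
        · rw [nbeq.2 e] at h; exact ⟨fun _ => nblt.1 h, fun _ => e⟩
        · rw [nbeq_false.2 e] at h; exact ⟨fun e' => absurd e' e, fun e' => by simp [nblt.2 e'] at h⟩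
    rw [← k _ (app_lt _ _), ← app_mulM _ _ (by omega), ← rel eZ.1 eZ.1 (h.z Z hZ), app_mulM _ _ (by omega), (k v (by omega)).2 hv]
  have b3 : Blk c3 := by unfold Blk; decide +kernel
  have bu : Blk u1 := by unfold Blk; decide +kernel
  obtain ⟨β, hβ⟩ := exists_code le_rfl (g * S * g⁻¹)
  obtain ⟨β', hβ1, hβ2⟩ := res_Q hβ (conj_mem_of_norm h.q hS)
  obtain ⟨γ, hγ⟩ := exists_code le_rfl (g * U * g⁻¹)
  obtain ⟨γ', hγ1, hγ2⟩ := res_Q hγ (conj_mem_of_norm h.q hU)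
  obtain ⟨ζ, hζ1, hζ⟩ := (pc3_spec okZ).2.2 _ (h.i S hS)
  have r1 := rel eS.1 hβ (by group)
  have r2 := rel eU.1 hγ (by group)
  have r3 := rel IR_wA.1 IR_wA.1 (mem_Cw.1 h.w)
  have r4 : mulM (mulM c c) c3 = mulM ζ (mulM (invM c3) (mulM c c)) :=
    ((hc.mul le_rfl hc).mul le_rfl eS.1).canon le_rfl (by
      convert hζ.1.mul le_rfl (eS.inv.1.mul le_rfl (hc.mul le_rfl hc)) using 1; group)
  have a1 : ∀ v < 64, app c (app c3 v) = app β' (app c v) := fun v hv => by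
    rw [← app_mulM _ _ (by omega), r1, app_mulM _ _ (by omega), hβ2 _ (bc v hv)]
  have a3 : ∀ v < 4096, app c (app cW v) = app cW (app c v) := fun v hv => by
    rw [← app_mulM _ _ hv, r3, app_mulM _ _ hv]
  have A : Ag c (cand (app c 1) β') := agr_iff.1 (by
    simp only [agr, cand, force_eq, allLt_iff, nbeq]
    intro i hi
    rw [col_pack (fun j hj => by interval_cases j <;> exact app_lt _ _) hi, ← app_pow _ (by omega), ← a1 1 (by norm_num),
      ← a1 _ (by decide +kernel), ← a3 1 (by norm_num), ← a3 _ (app_lt _ _), ← a3 _ (app_lt _ _)]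
    interval_cases i <;> exact congrArg _ (by decide +kernel))
  have bm : Blk (cand (app c 1) β') := fun v hv => A v hv ▸ bc v hv
  have k : forceL (pc3 LR1) (fun l => force (invM c3) fun ci => allLt 64 fun t => bor (Nat.beq t 0) (allL l fun b =>
      force (cand t b) fun m => force (mulM m m) fun m2 => imp (force (mulM m2 c3) fun p => force (mulM ci m2) fun q =>
        anyL (pc3 LZ) fun ζ => agr p (mulM ζ q)) (imp (force (mulM m u1) fun p => anyL l fun γ => agr p (mulM γ m))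
        (anyL X6 fun x => anyL l fun r => agr m (mulM x r))))) = true := by decide +kernel
  have k2 := allLt_iff.1 (unF (unL k :) :) _ (bc 1 (by norm_num))
  rw [bor_eq, Bool.or_eq_true, nbeq] at k2
  rcases k2 with e | k2
  · exact absurd (congrArg XV.val (g.map_eq_one_iff.1 (XV.ext ((hc.2 ⟨1, by norm_num⟩).trans e)))) one_ne_zero
  have k3 := allL_iff.1 k2 _ hβ1
  simp only [force_eq, imp_iff, anyL_iff, agr_iff] at k3
  obtain ⟨x, hx, r, hr, e⟩ := k3 ⟨ζ, hζ1, ((A.symm.mul A.symm bm).mul Ag.rfl b3).trans (r4 ▸ Ag.rfl.mul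
    (Ag.rfl.mul (A.mul A bc) (bc.mul bc)) (Blk.mul (by unfold Blk; decide +kernel) (bc.mul bc)))⟩
    ⟨γ', hγ1, (A.symm.mul Ag.rfl bu).trans (r2 ▸ hγ2.mul A bc)⟩
  exact ⟨x, hx, r, hr, A.trans e⟩

def csw : ℕ := 0x20010008004002001800400200100080040

theorem Hb.dec {g : GL'} (h : Hb g) : ∃ a ∈ X6, ∃ b ∈ X6, ∃ x, IR (mulM a (conjC mulM invM csw b)) x ∧
    x ∈ normalizer (Q0 : Set GL') ∧ x⁻¹ * g ∈ Q0 := by
  obtain ⟨s, hs⟩ := exists_of_okI (c := csw) (by decide +kernel)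
  have sq : s ∈ normalizer (Q0 : Set GL') := norm_of_code (pc3_spec okQ).2.1 hs (by decide +kernel)
  have si : s⁻¹ = s := isCanon_IR.func hs.inv ((by decide +kernel : invM csw = csw).symm ▸ hs)
  obtain ⟨c, hc⟩ := exists_code le_rfl g
  obtain ⟨a, ha, r, hr, e⟩ := h.blk hc
  obtain ⟨b, hb, r', hr', e'⟩ := (h.conj (mem_Cw.2 (comm_of_IR hs IR_wA (by decide +kernel)))
    (norm_of_code (pc3_spec okZ).2.1 hs (by decide +kernel)) sq).blk (by rw [si]; exact (hs.1.mul le_rfl hc).mul le_rfl hs.1)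
  have cX : CodesIn IR X6 (normalizer (Q0 : Set GL')) := (codes_of_okI (by decide +kernel)).mono
    (le_norm okQ (by decide +kernel))
  have cR : CodesIn IR (pc3 LR1) Q0 := (pc3_spec (by decide +kernel)).2.1.mono (le_of_pc okQ (by decide +kernel))
  obtain ⟨A, hA, eA⟩ := cX a ha; obtain ⟨B, hB, eB⟩ := cX b hb
  obtain ⟨R, hR, eR⟩ := cR r hr; obtain ⟨R', hR', eR'⟩ := cR r' hr'
  have k : allL X6 (fun x => allL (pc3 LR1) fun r => force (mulM x r) fun m => allLt 64 fun v =>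
    band (Nat.beq (app m (app csw v)) (app csw v)) (Nat.blt (app m v) 64)) = true := by decide +kernel
  simp only [allL_iff, force_eq, allLt_iff, band_eq, Bool.and_eq_true, nbeq, nblt] at k
  have ss : ∀ v < 4096, app csw (app csw v) = v := fun v hv => by
    rw [← app_mulM _ _ hv, show mulM csw csw = oneN 12 by decide +kernel, app_oneN le_rfl _ hv]
  have I := isGrp_IR.mul (isGrp_IR.mul eA eR) (isGrp_IR.mul hs (isGrp_IR.mul (isGrp_IR.mul eB eR') hs))
  have : g = A * R * (s * (B * R' * s)) := hc.func (col_ext hc.1 I.1.1 (fun i hi => by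
    have l := pow_lt12 hi
    rw [← app_pow _ hi, ← app_pow _ hi, app_mulM _ _ l, app_mulM _ _ l, app_mulM _ _ l]
    by_cases h6 : i < 6
    · have l' : 2 ^ i < 64 := Nat.pow_lt_pow_right (n := 6) one_lt_two h6
      rw [(k b hb r' hr' _ l').1, ss _ l, e _ l']
    · have l' : app csw (2 ^ i) < 64 := by interval_cases i <;> first | omega | decide +kernel
      rw [(k a ha r hr _ (k b hb r' hr' _ l').2).1, ← e' _ l', app_mulM _ _ (app_lt _ _), app_mulM _ _ (app_lt _ _), ss _ l,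
        ss _ (app_lt _ _)]) ▸ I.1)
  have hsb := mul_mem (mul_mem sq hB) (inv_mem sq)
  refine ⟨a, ha, b, hb, _, isGrp_IR.mul eA (isGrp_IR.conj hs eB), mul_mem hA hsb, ?_⟩
  convert mul_mem (conj_mem_of_norm (inv_mem hsb) hR) (conj_mem_of_norm sq hR') using 1
  rw [this]; nth_rw 4 [← si]; group

theorem mod_cube {G : Type*} [Group G] {N : Subgroup G} {e x a : G} (hx : x ∈ normalizer (N : Set G))
    (ha : a ∈ normalizer (N : Set G)) (h : x⁻¹ * e ∈ N) (h' : (e * a) ^ 3 ∈ N ∨ (e * e)⁻¹ * (e * a) ^ 3 ∈ N) :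
    (x * a) ^ 3 ∈ N ∨ (x * x)⁻¹ * (x * a) ^ 3 ∈ N := by
  have he : e ∈ normalizer (N : Set G) := by simpa using mul_mem hx (le_normalizer h)
  let π := QuotientGroup.mk' (N.subgroupOf (normalizer (N : Set G)))
  have e1 : π ⟨x, hx⟩ = π ⟨e, he⟩ := QuotientGroup.eq.2 h
  have k : ∀ y, y.1 ∈ N ↔ π y = 1 := fun y => (QuotientGroup.eq_one_iff (N := N.subgroupOf _) y).symm
  exact h'.imp (fun h => (k ((⟨x, hx⟩ * ⟨a, ha⟩) ^ 3)).2 (by
      have := (k ((⟨e, he⟩ * ⟨a, ha⟩) ^ 3)).1 h; simp only [map_pow, map_mul, e1] at this ⊢; exact this))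
    fun h => (k ((⟨x, hx⟩ * ⟨x, hx⟩)⁻¹ * (⟨x, hx⟩ * ⟨a, ha⟩) ^ 3)).2 (by
      have := (k ((⟨e, he⟩ * ⟨e, he⟩)⁻¹ * (⟨e, he⟩ * ⟨a, ha⟩) ^ 3)).1 h
      simp only [map_pow, map_mul, map_inv, e1] at this ⊢; exact this)

theorem hH_Cw : hH ∈ Cw := mem_Cw.2 (comm_of_IR IR_hH IR_wA (by decide +kernel))

variable {Γ : Subgroup (GL' × GL')} {π : GL'}

theorem Cor.stepG (h : Cor Γ wA) (hP : lift Γ T0 ≤ P0) : ∃ D ∈ Cw, lift (cjΓ D Γ) X0 = X0 := by
  obtain ⟨e, he⟩ := h.ex _ eE_X0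
  obtain ⟨a, ha⟩ := h.ex _ (T0_X0 (S0_T0 aS_S0))
  have ew : e ∈ Cw := by
    simpa using mul_mem (h.odd (gmul he (ginv ha)) (isGrp_IR.mul IR_eE IR_aS.inv) 4 (by decide +kernel))
      (h.odd ha IR_aS 1 (by decide +kernel))
  have H : Hb e := ⟨ew, fun z hz => ?_, h.lift_Q hP ▸ h.lift_nrm he eE_Q0, fun y hy => ?_⟩
  rotate_left
  · obtain ⟨x, hx, hp⟩ := mem_lift.1 ((h.lift_Z hP).ge hz)
    have h1 := (h.ker (gmul (gcj he hp) (ginv hp))).2 (by rw [eE_Z0 hx]; simp)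
    have h4 := (h.ker (gpow he 4)).2 (mem_of_code (fun _ => of_memLW) (isGrp_IR.pow IR_eE 4) (by decide +kernel))
    obtain ⟨s, hs⟩ : ∃ s, s = e * z * e⁻¹ * z⁻¹ := ⟨_, rfl⟩
    rw [← hs] at h1
    have e1 : e * z = s * (z * e) := by rw [hs]; group
    have e2 : ∀ u, e * (s * u) = s * (e * u) := fun u => by rw [← mul_assoc, ← ew s h1, mul_assoc]
    have e3 : ∀ u, e * (z * u) = s * (z * (e * u)) := fun u => by rw [← mul_assoc, e1]; group
    have e4 : e ^ 4 * z = s ^ 3 * s * z * e ^ 4 := by simp only [pow_succ', pow_zero, mul_assoc, mul_one, e1, e2, e3]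
    rw [W3 h1, one_mul, Z0_comm (T0_P0 (Q0_T0 (Z0_Q0 (W_Z0 h4)))) hz] at e4
    rw [e1, show s = 1 by simpa using e4.symm, one_mul]
  · obtain ⟨x, hx, hp⟩ := mem_lift.1 ((h.lift_Q hP).ge hy)
    exact (h.lift_Z hP).le (mem_lift.2 ⟨_, scanI hx, gmul (gcj (gmul he he) hp) hp⟩)
  obtain ⟨p, hp, q, hq, x, hx, xn, xe⟩ := H.dec
  obtain ⟨b, hb, hb'⟩ := mem_lift.1 ((h.lift_S' hP).ge aS_S0)
  have h1 := mod_cube xn (norm_of_code (pc3_spec okQ).2.1 IR_aS (by decide +kernel)) xe (by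
    rcases scanG hb with h1 | h1 | h1
    · exact absurd (code_of_mem (pc3_spec okQ).2.2 IR_aS ((h.lift_Q hP).le (mem_lift.2 ⟨_, h1, hb'⟩))) (by decide +kernel)
    · exact .inl ((h.lift_Q hP).le (mem_lift.2 ⟨_, h1, gpow (gmul he hb') 3⟩))
    · exact .inr ((h.lift_Q hP).le (mem_lift.2 ⟨_, h1, gmul (ginv (gmul he he)) (gpow (gmul he hb') 3)⟩)))
  have k : forceL (pc3 LQ) (fun l => forceL (slpW mulM invM one12 [[4, 3, 5, 3, 4], [6], [7], [0, 6, 0, 3, 11, 0],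
      [0, 2, 10, 0, 6, 0], [1, 7, 1, 3, 11, 1], [1, 2, 10, 1, 7, 1]] LX0) fun l' => allL X6 fun a => allL X6 fun b =>
      force (mulM a (conjC mulM invM csw b)) fun x => force (powC mulM one12 (mulM x cS) 3) fun y =>
      imp (bor (memL y l) (force (mulM (invM (mulM x x)) y) fun u => memL u l))
      (anyLt 3 fun j => force (conjC mulM invM (powC mulM one12 cH (4 * j)) x) fun u => memL u l')) = true := by
    decide +kernel
  have k2 := allL_iff.1 (allL_iff.1 (unL (unL k :) :) p hp) q hq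
  simp only [force_eq, imp_iff, bor_eq, Bool.or_eq_true, anyLt_iff] at k2
  have h3 := isGrp_IR.pow (isGrp_IR.mul hx IR_aS) 3
  obtain ⟨j, -, k3⟩ := k2 (h1.imp (code_of_mem (pc3_spec okQ).2.2 h3)
    (code_of_mem (pc3_spec okQ).2.2 (isGrp_IR.mul (isGrp_IR.mul hx hx).inv h3)))
  have h4 := mem_of_code (isGrp_IR.slpW _ codesX0) (isGrp_IR.conj (isGrp_IR.pow IR_hH _) hx) k3
  have h5 := conj_mem_of_norm (pow_mem (norm_of_code (pc3_spec okQ).2.1 IR_hH (by decide +kernel)) (4 * j)) xe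
  have hD := pow_mem hH_Cw (4 * j)
  have hN := pow_mem hH_N0 (4 * j)
  generalize hH ^ (4 * j) = D at *
  have h6 : lift Γ X0 ≤ X0.comap (MulAut.conj D).toMonoidHom := h.lift_le (zpowers_le.2 (show D * wA * D⁻¹ ∈ X0 by
    rw [mem_Cw.1 hD, mul_inv_cancel_right]; exact wA_X0)) fun y ⟨c, hc, hy⟩ => by
      by_cases h7 : c = cE
      · obtain rfl := isCanon_IR.func IR_eE (h7 ▸ hy)
        exact ⟨e, show D * e * D⁻¹ ∈ X0 by convert mul_mem h4 (T0_X0 (Q0_T0 h5)) using 1; group, he⟩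
      · have h8 : y ∈ N0 := by
          simp only [LX0, List.mem_cons, List.not_mem_nil, or_false] at hc
          rcases hc with rfl | rfl | rfl | rfl | rfl
          exacts [subset_closure ⟨_, by simp [LN], hy⟩, subset_closure ⟨_, by simp [LN], hy⟩,
            subset_closure ⟨_, by simp [LN], hy⟩, absurd rfl h7,
            T0_N0 (Q0_T0 (Z0_Q0 (W_Z0 (isCanon_IR.func IR_wA hy ▸ mem_zpowers _))))]
        obtain ⟨u, hu⟩ := h.ex y (N0_le h8)
        exact ⟨u, N0_le (conj_mem_of_norm hN (h.lift_N hP (mem_lift.2 ⟨y, h8, hu⟩))), hu⟩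
  refine ⟨D, hD, eq_of_le_of_card_ge (fun y hy => ?_) ((h.conj D).card_lift W_X0 le_rfl).ge⟩
  simpa [mul_assoc] using h6 (mem_lift_cj.1 hy)

theorem Cor.L1 (h : Cor Γ π) : ∃ u, lift (cjΓ u Γ) X0 = X0 ∧ u * π * u⁻¹ ∈ W := by
  obtain ⟨u, h1, h2, h3⟩ := h.normal
  obtain ⟨D, hD, e⟩ := h1.stepG h2
  refine ⟨D * u, Eq.trans (Subgroup.ext fun y => ?_) e, ?_⟩
  · simp only [mem_lift_cj, mul_inv_rev, mul_assoc]
  · have : D * u * π * (D * u)⁻¹ = D * (u * π * u⁻¹) * D⁻¹ := by group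
    rwa [this, ← hD _ h3, mul_inv_cancel_right]

end Cfsg.Agent.F24T
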