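import Cfsg.Agent.J4T.Main
import Cfsg.Agent.J4F.VV

/-! The automiser `Ms` of `V = 2^11` is `M₂₄` (read off in `J₄`); `Vs ν`: `N(V)/V` acts on `V = ν.range` as `Ms`
(helper8). -/

set_option autoImplicit false

namespace Cfsg.Agent.F24T
open Cfsg.Agent.Comp Cfsg.Agent.Golay Subgroup J4T J4T.C J4F
open scoped Pointwise

section
variable {G : Type*} [Group G] {ν : XV 11 →* G}

/-- the action of `N(V)` on `V`. -/
noncomputable def actH (hν : Function.Injective ν) : normalizer (ν.range : Set G) →* MulAut (XV 11) :=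
  (MulAut.congr (MonoidHom.ofInjective hν).symm).toMonoidHom.comp ν.range.normalizerMonoidHom

theorem actH_apply (hν : Function.Injective ν) (n : normalizer (ν.range : Set G)) (v : XV 11) :
    ν (actH hν n v) = n.1 * ν v * n.1⁻¹ :=
  congrArg Subtype.val ((MonoidHom.ofInjective hν).apply_symm_apply (ν.range.normalizerMonoidHom n ⟨ν v, v, rfl⟩))

/-- `N(V)/V` acts on `V = ν.range` faithfully as `Ms`. -/
structure Vs (ν : XV 11 →* G) : Prop where
  inj : Function.Injective ν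
  autom : normalizer (ν.range : Set G) ≤ actIn ν Ms
  real : ∀ a ∈ Ms, ∃ n, ∀ v, n * ν v * n⁻¹ = ν (a v)
  cent : ∀ g, (∀ v, Commute g (ν v)) → g ∈ ν.range

theorem Vs.range [Finite G] (W : Vs ν) : (actH W.inj).range = Ms := le_antisymm (by
    rintro _ ⟨n, rfl⟩
    obtain ⟨a, ha, h⟩ := W.autom n.2
    rwa [show actH W.inj n = a from MulEquiv.ext fun v => W.inj ((actH_apply ..).trans (h v))]) fun a ha => by
  obtain ⟨n, h⟩ := W.real a ha
  exact ⟨⟨n, actIn_norm ⟨a, ha, h⟩⟩, MulEquiv.ext fun v => W.inj ((actH_apply ..).trans (h v))⟩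

theorem Vs.ker (W : Vs ν) (n : normalizer (ν.range : Set G)) : actH W.inj n = 1 ↔ n.1 ∈ ν.range :=
  ⟨fun h => W.cent _ fun v => mul_inv_eq_iff_eq_mul.1 ((actH_apply W.inj n v).symm.trans (by rw [h]; rfl)), by
    rintro ⟨w, h⟩
    exact MulEquiv.ext fun v => W.inj ((actH_apply ..).trans (mul_inv_eq_iff_eq_mul.2
      (h ▸ ((Commute.all w v).map ν).eq)))⟩

theorem Vs.conj [Finite G] (W : Vs ν) (g : G) : Vs ((MulAut.conj g).toMonoidHom.comp ν) := by
  refine ⟨(MulAut.conj g).injective.comp W.inj, fun n hn => ?_, fun a ha => ?_, fun n h => ?_⟩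
  · obtain ⟨a, ha, h⟩ := W.autom (x := g⁻¹ * n * g) (mem_normalizer_fintype (by
      rintro _ ⟨v, rfl⟩
      obtain ⟨w, h⟩ := (mem_normalizer_iff.1 hn _).1 ⟨v, rfl⟩
      exact ⟨w, (MulAut.conj g).injective (h.trans (by simp [mul_assoc]))⟩))
    exact ⟨a, ha, fun v => by simp [← h, mul_assoc]⟩
  · obtain ⟨n, h⟩ := W.real a ha
    exact ⟨g * n * g⁻¹, fun v => by simp [← h, mul_assoc]⟩
  · obtain ⟨v, hv⟩ := W.cent (g⁻¹ * n * g) fun v => (MulAut.conj g).injective (by simpa [mul_assoc] using (h v).eq)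
    exact ⟨v, by simp [hv, mul_assoc]⟩
end

theorem mem_D22_iff {g : Equiv.Perm GolayPt} (hg : g ∈ M24) :
    g ∈ D22 ↔ g ∈ MulAction.stabilizer (Equiv.Perm GolayPt) ({none, some 0} : Set GolayPt) := by
  rw [MulAction.mem_stabilizer_set' (Set.toFinite _)]
  refine ⟨fun h b hb => ?_, fun h => ?_⟩
  · by_contra hn
    have tr {x y} := (trans22.mono (j := 1) (by decide) (ncard_P22 ▸ by decide)).one (a := x) (b := y)
    have h1 : g b ∈ P22 := by simpa [not_or, and_comm] using hn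
    have k : ∀ y ∈ P22, y = g b := fun y hy => by
      obtain ⟨m, hm, e⟩ := tr h1 hy
      have h2 := (mem_normalizer_iff.1 (inv_mem h.2) m).1 hm
      have h3 : (g⁻¹ * m * g⁻¹⁻¹) b = b := by rcases hb with rfl | rfl; exacts [h2.1.2, h2.2]
      rw [← e]; simpa [Equiv.symm_apply_eq] using h3
    exact absurd ((k (some 5) (by simp; decide)).trans (k (some 6) (by simp; decide)).symm) (by decide)
  · rcases h (b := none) (by simp) with h0 | h0 <;> rcases h (b := some 0) (by simp) with h1 | h1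
    · exact absurd (g.injective (h0.trans h1.symm)) (by decide)
    · exact M22_le_D22 ⟨⟨hg, h0⟩, h1⟩
    · exact mem_D22 hg h1 h0
    · exact absurd (g.injective (h0.trans h1.symm)) (by decide)

theorem exρ0 : ∃ ρ : MG →* MulAut (XV 11), Function.Injective ρ ∧ ρ.range = Ms ∧ ∃ a ∈ Ms, ∀ g : MG,
    ρ g (a (XV.mk' 11 2)) = a (XV.mk' 11 2) ↔ g.1 ∈ D22 := by
  have := Spor.J4G.simple
  obtain ⟨p0, θ0, μ0, x0, ν0, B0, hy0⟩ := (Hyp.of isType).exists_Bt
  obtain ⟨h, hh, hV⟩ := B0.conj_V (K := H0) (map_subtype_le _) (by rw [card_H0]; norm_num) V0_le_H0 V0_sq card_V0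
  have W : Vs ν0 := ⟨B0.injν, B0.autom hy0, fun a => B0.real hy0, fun g => B0.cent_V⟩
  have e6 : ∀ g, h * g * h⁻¹ ∈ normalizer (ν0.range : Set Cfsg.Spor.J4) ↔ g ∈ N0 := fun g => by
    rw [← norm_V0, ← hV, ← map_equiv_normalizer_eq, Invol.mem_map_conj_iff]; simp [mul_assoc]
  let φ : K →* normalizer (ν0.range : Set Cfsg.Spor.J4) :=
    ((MulAut.conj h).toMonoidHom.comp ι).codRestrict _ fun k => (e6 _).2 ⟨k, rfl⟩
  have φe : ∀ k, (φ k).1 = h * ι k * h⁻¹ := fun _ => rfl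
  have e7 : ∀ k : K, (φ k).1 ∈ ν0.range ↔ k ∈ V := fun k => by
    rw [φe, ← hV, Invol.mem_map_conj_iff, V0]; simp [mul_assoc, ι_inj.eq_iff]
  have φs : Function.Surjective φ := fun n => by
    obtain ⟨k, hk⟩ := (e6 (h⁻¹ * n * h)).1 (by simpa only [mul_assoc, mul_inv_cancel_left, mul_inv_cancel, mul_one] using n.2)
    exact ⟨k, Subtype.ext (by rw [φe, hk]; group)⟩
  have e8 : ∀ k, actH W.inj (φ (σ (π k))) = actH W.inj (φ k) := fun k => by
    rw [← mul_inv_eq_one, ← map_inv, ← map_mul, ← map_inv, ← map_mul, W.ker, e7, mem_V_iff]; simp [π_σ]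
  obtain ⟨v, hv⟩ := (e7 tD).2 tD_V
  have c : IsConj t0 (ν0 v) := (ι.map_isConj tD_conj).trans (isConj_iff.2 ⟨h, hv.symm⟩)
  obtain ⟨n, ⟨a, ha, hn⟩, e | ⟨e, -⟩⟩ := B0.orbN hy0 (v := v) (by
    rintro rfl
    rw [map_one, isConj_one_left] at c
    simpa [c] using ord_t0)
  · exact absurd ((isConj_iff.2 ⟨n, e⟩).trans c.symm) not_conj_z0_t0
  obtain rfl : a (XV.mk' 11 2) = v := B0.injν (by rw [← hn, B0.νx, e])
  refine ⟨(actH W.inj).comp (φ.comp σ), (injective_iff_map_eq_one _).2 fun g hg => σ_V ((e7 _).1 ((W.ker _).1 hg)),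
    le_antisymm (W.range ▸ fun _ ⟨g, e⟩ => ⟨_, e⟩) fun b hb => ?_, a, ha, fun g => ?_⟩
  · obtain ⟨m, rfl⟩ := W.range.ge hb
    obtain ⟨k, rfl⟩ := φs m
    exact ⟨π k, e8 k⟩
  · rw [← W.inj.eq_iff, MonoidHom.comp_apply, actH_apply, hv, MonoidHom.comp_apply, mul_inv_eq_iff_eq_mul,
      ← coe_mul, ← coe_mul, ← map_mul, ← map_mul, φe, φe, mul_left_inj, mul_right_inj, ι_inj.eq_iff,
      ← mem_centralizer_singleton_iff, ← φD_sup]
    refine ⟨fun hg => ?_, fun hg => mem_sup_left ⟨⟨g, hg⟩, rfl⟩⟩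
    obtain ⟨_, ⟨d, rfl⟩, w, hw, e⟩ := mem_sup_of_normal_right.1 hg
    have := congrArg π e
    rw [map_mul, π_V hw, mul_one, π_σ, φD, MonoidHom.comp_apply, π_σ] at this
    exact this ▸ d.2

theorem exρ {b : MulAut (XV 11)} (hb : b ∈ Ms) : ∃ ρ : MG →* MulAut (XV 11), Function.Injective ρ ∧ ρ.range = Ms ∧
    ∀ g : MG, ρ g (b (XV.mk' 11 2)) = b (XV.mk' 11 2) ↔ g.1 ∈ D22 := by
  obtain ⟨ρ, h1, h2, a, ha, h3⟩ := exρ0
  obtain ⟨c, hc⟩ := h2.ge (mul_mem hb (inv_mem ha))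
  refine ⟨ρ.comp (MulAut.conj c).toMonoidHom, h1.comp (MulAut.conj c).injective, ?_, fun g => ?_⟩
  · rw [MonoidHom.range_comp, MonoidHom.range_eq_top.2 (MulAut.conj c).surjective, ← MonoidHom.range_eq_map, h2]
  · rw [← h3]; simp [hc, MulEquiv.symm_apply_eq]

variable {G : Type*} [Group G] [Finite G] {ν : XV 11 →* G} (W : Vs ν)
include W

theorem Vs.exπ {b : MulAut (XV 11)} (hb : b ∈ Ms) : ∃ π : normalizer (ν.range : Set G) →* MG, Function.Surjective π ∧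
    (∀ n, π n = 1 ↔ n.1 ∈ ν.range) ∧ ∀ n, n.1 ∈ centralizer {ν (b (XV.mk' 11 2))} ↔ (π n).1 ∈ D22 := by
  obtain ⟨ρ, h1, h2, h3⟩ := exρ hb
  let π := (MonoidHom.ofInjective h1).symm.toMonoidHom.comp ((actH W.inj).codRestrict _ fun n =>
    h2.ge (W.range.le ⟨n, rfl⟩))
  have e : ∀ n, ρ (π n) = actH W.inj n := fun n => congrArg Subtype.val ((MonoidHom.ofInjective h1).apply_symm_apply _)
  refine ⟨π, fun g => ?_, fun n => by rw [← W.ker, ← e, map_eq_one_iff _ h1], fun n => ?_⟩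
  · obtain ⟨n, hn⟩ := W.range.ge (h2.le ⟨g, rfl⟩)
    exact ⟨n, h1 ((e n).trans hn)⟩
  · rw [← h3, e, ← W.inj.eq_iff, actH_apply, mul_inv_eq_iff_eq_mul, mem_centralizer_singleton_iff]

omit [Finite G] in
theorem Vs.card_V : Nat.card ν.range = 2 ^ 11 := by
  rw [← Nat.card_congr (MonoidHom.ofInjective W.inj).toEquiv, XV.card]

theorem Vs.quot : ∃ _ : (ν.range.subgroupOf (normalizer (ν.range : Set G))).Normal,
    Nonempty (normalizer (ν.range : Set G) ⧸ ν.range.subgroupOf (normalizer (ν.range : Set G)) ≃* M24) := by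
  obtain ⟨π, h1, h2, -⟩ := W.exπ (one_mem _)
  exact ⟨inferInstance, ⟨(QuotientGroup.quotientMulEquivOfEq (Subgroup.ext fun n => (h2 n).symm)).trans
    (QuotientGroup.quotientKerEquivOfSurjective π h1)⟩⟩

theorem Vs.card_N : Nat.card (normalizer (ν.range : Set G)) = 501397585920 := by
  obtain ⟨_, ⟨e⟩⟩ := W.quot
  rw [card_eq_card_quotient_mul_card_subgroup (ν.range.subgroupOf _), Nat.card_congr e.toEquiv, card_M24,
    Nat.card_congr (subgroupOfEquivOfLe le_normalizer).toEquiv, W.card_V]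
  norm_num

theorem Vs.quot_cent {b : MulAut (XV 11)} (hb : b ∈ Ms) : ∃ _ : (ν.range.subgroupOf (normalizer (ν.range : Set G) ⊓
    centralizer {ν (b (XV.mk' 11 2))})).Normal, Nonempty (↥(normalizer (ν.range : Set G) ⊓
      centralizer {ν (b (XV.mk' 11 2))}) ⧸ ν.range.subgroupOf (normalizer (ν.range : Set G) ⊓
      centralizer {ν (b (XV.mk' 11 2))}) ≃*
      ↥(M24 ⊓ MulAction.stabilizer (Equiv.Perm GolayPt) ({none, some 0} : Set GolayPt))) := by
  obtain ⟨π, h1, h2, h3⟩ := W.exπ hb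
  let ψ : ↥(normalizer (ν.range : Set G) ⊓ centralizer {ν (b (XV.mk' 11 2))}) →*
      ↥(M24 ⊓ MulAction.stabilizer (Equiv.Perm GolayPt) ({none, some 0} : Set GolayPt)) :=
    (M24.subtype.comp (π.comp (inclusion inf_le_left))).codRestrict _ fun n =>
      ⟨(π _).2, (mem_D22_iff (π _).2).1 ((h3 _).1 n.2.2)⟩
  have k : ν.range.subgroupOf _ = ψ.ker := Subgroup.ext fun n =>
    (h2 (inclusion inf_le_left n)).symm.trans (Subtype.ext_iff.trans (Subtype.ext_iff (a1 := ψ n) (a2 := 1)).symm)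
  have : (ν.range.subgroupOf (normalizer (ν.range : Set G) ⊓ centralizer {ν (b (XV.mk' 11 2))})).Normal := by
    rw [k]; infer_instance
  refine ⟨this, ⟨(QuotientGroup.quotientMulEquivOfEq k).trans
    (QuotientGroup.quotientKerEquivOfSurjective ψ fun g => ?_)⟩⟩
  obtain ⟨n, hn⟩ := h1 ⟨g, g.2.1⟩
  exact ⟨⟨n, n.2, (h3 n).2 (hn ▸ (mem_D22_iff g.2.1).2 g.2.2)⟩, Subtype.ext (congrArg Subtype.val hn :)⟩

end Cfsg.Agent.F24T
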