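import Cfsg.Agent.F24T.A1

/-! The local structure of a group of large Fischer type: `main` gives the data `Bt z p θ μ x ν 3`, the fusion of `z`
to `θ s0` and the extra automorphism `cY` of `V = ν.range`. -/

set_option autoImplicit false

namespace Cfsg.Agent.F24T
open Cfsg.Agent.Comp Subgroup J4T

variable {G : Type*} [Group G] [Finite G] {z : G} {Q : Subgroup (centralizer ({z} : Set G))} [Q.Normal]

theorem main (hF : IsOfLargeFischerTypeAt z Q) : Q.map (Subgroup.subtype _) = twoCoreOfCentralizer z ∧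
    ∃ p θ μ x ν g, Bt z p θ μ x ν 3 ∧ g * z * g⁻¹ = θ s0 ∧ ∃ y, VR ν cY y := by
  obtain ⟨hQ, p, θ, μ, c, hc, S⟩ := exists_St hF
  obtain ⟨g, ⟨h1, h2⟩, h3⟩ := hF.1.2.2.2.2
  obtain ⟨g, hg⟩ := S.fused (X0_le_Xc c) ⟨g, hQ ▸ ⟨_, h2, rfl⟩, h3⟩
  obtain ⟨x, ν, f, B⟩ := (S.top hc hg).exists_Bt
  obtain ⟨rfl, hy⟩ := B.exists_y hg
  exact ⟨hQ, p, θ, μ, x, ν, g, B, hg, hy⟩

end Cfsg.Agent.F24T
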