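import Cfsg.Agent.F24T.Y

/-! Step B, end: the automiser of `V` is the fixed group `Ms` (`Bt.autom`), orbits on `V`, uniqueness of `V`. -/

set_option autoImplicit false

namespace Cfsg.Agent.F24T
open Cfsg.Agent.Comp Subgroup Cfsg.Agent.BG LES J4T

variable {G : Type*} [Group G] [Finite G] {z p : G} {θ : ℕ → G} {μ : centralizer ({z} : Set G) →* MulAut (XV 12)}
  {x : ℕ → G} {ν : XV 11 →* G} {f : ℕ}

/-- the Sylow `2`-subgroup. -/
def TT (μ : centralizer ({z} : Set G) →* MulAut (XV 12)) : Subgroup G := (Ts.comap μ).map (Subgroup.subtype _)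

namespace Bt
theorem card_TT (B : Bt z p θ μ x ν f) : Nat.card (TT μ) = 2 ^ 21 := by
  have h1 := (Ts.comap μ).card_mul_index
  have h2 := (Ts.subgroupOf Xs).card_mul_index
  rw [Nat.card_congr (subgroupOfEquivOfLe (Ts_le.trans Bs_le)).toEquiv, card_Ts, B.toSt.card_Xs] at h2
  rw [index_comap, B.range, B.cardH, show Ts.relIndex Xs = 76545 by unfold relIndex; omega] at h1
  rw [TT, card_map_of_injective (subtype_injective _)]; omega

theorem TT_le (B : Bt z p θ μ x ν f) : TT μ ≤ normalizer (ν.range : Set G) := by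
  rintro _ ⟨g, hg, rfl⟩
  obtain ⟨k, hk, h1, h2⟩ := B.exists_word (Ts_le hg)
  obtain ⟨e, he, h5⟩ := (B.core _).1 ((B.ker (g * ⟨k, h1⟩⁻¹)).1 (by rw [map_mul, map_inv, h2, mul_inv_cancel]))
  have : k ∈ normalizer (ν.range : Set G) := (closure_le _).2 (by rintro _ ⟨i, rfl⟩; exact (B.hv i).norm) hk
  exact (mul_mem_cancel_right (inv_mem this)).1 (show (g * ⟨k, h1⟩⁻¹).1 ∈ _ from h5 ▸ (B.VR_E' he).norm)

theorem conj_V (B : Bt z p θ μ x ν f) {K A : Subgroup G} (hT : TT μ ≤ K) (hK : ¬ 2 ^ 22 ∣ Nat.card K) (hA : A ≤ K)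
    (h2 : ∀ a ∈ A, a * a = 1) (hc : Nat.card A = 2 ^ 11) : ∃ g ∈ K, A.map (MulAut.conj g).toMonoidHom = ν.range := by
  obtain ⟨g, hg, h⟩ := exists_conj_le_sylow Nat.prime_two hT hA B.card_TT rfl hK (IsPGroup.of_card hc)
  refine ⟨g, hg, B.uniq' ?_ ?_ (by rw [card_map_conj, hc]) ?_⟩
  · rintro _ ⟨a, ha, rfl⟩; exact map_subtype_le _ (h a ha)
  · rintro _ ⟨a, ha, rfl⟩; rw [← map_mul, h2 a ha, map_one]
  · rintro b ⟨a, ha, e⟩
    obtain ⟨c, hc, e'⟩ := h a ha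
    exact (Subtype.ext (e'.trans e) : c = b) ▸ hc

variable (B : Bt z p θ μ x ν 3) (hy : ∃ y, VR ν cY y)
include B hy

theorem exVR : ∀ c ∈ LM4 ++ (List.range 12).map fun i => J4T.actE (2 ^ i), ∃ g, VR ν c g := fun c hc => by
  rcases List.mem_append.1 hc with h | h
  · simp only [LM4, List.mem_cons, List.not_mem_nil, or_false] at h
    rcases h with rfl | rfl | rfl | rfl
    exacts [⟨_, B.hv 0⟩, ⟨_, B.hv 1⟩, ⟨_, B.hv 2⟩, hy]
  · obtain ⟨i, hi, rfl⟩ := List.mem_map.1 h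
    have := (by decide +kernel : ∀ i < 12, nthL 0 [1, 2, 527, 773, 771, 257, 9, 14, 522, 783, 519, 777] i < 4096 ∧
      J4T.actE (2 ^ i) = actE (nthL 0 [1, 2, 527, 773, 771, 257, 9, 14, 522, 783, 519, 777] i)) i (List.mem_range.1 hi)
    exact ⟨_, this.2 ▸ B.VR_E this.1⟩

theorem codesM : CodesIn (MR 11) (LM4 ++ (List.range 12).map fun i => J4T.actE (2 ^ i)) Ms := fun c hc =>
  let ⟨_, a, h, _⟩ := B.exVR hy c hc; ⟨a, subset_closure ⟨c, hc, h⟩, h⟩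

theorem real {a : MulAut (XV 11)} (ha : a ∈ Ms) : ∃ n, ∀ v, n * ν v * n⁻¹ = ν (a v) := by
  induction ha using closure_induction with
  | mem a h =>
    obtain ⟨c, hc, h⟩ := h
    obtain ⟨g, b, h1, h2⟩ := B.exVR hy c hc
    exact ⟨g, h1.func h ▸ h2⟩
  | one => exact ⟨1, by simp⟩
  | mul a b _ _ h h' =>
    obtain ⟨n, h⟩ := h; obtain ⟨n', h'⟩ := h'
    exact ⟨n * n', fun v => by rw [MulAut.mul_apply, ← h, ← h']; group⟩
  | inv a _ h =>
    obtain ⟨n, h⟩ := h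
    exact ⟨n⁻¹, fun v => by
      have := h (a⁻¹ v); rw [← MulAut.mul_apply, mul_inv_cancel, MulAut.one_apply] at this; rw [← this]; group⟩

theorem orbN {v : XV 11} (h : v ≠ 1) : ∃ n ∈ actIn ν Ms, n * z * n⁻¹ = ν v ∨ n * θ x0 * n⁻¹ = ν v ∧ mD.testBit v.val := by
  have hK : CodesIn (MR 11) LM4 Ms := fun c hc =>
    let ⟨_, a, h, _⟩ := B.exVR hy c (List.mem_append_left _ hc); ⟨a, subset_closure ⟨c, List.mem_append_left _ hc, h⟩, h⟩
  rcases orbs v.lt (fun e => h (XV.ext e)) with h | h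
  · obtain ⟨a, ha, e⟩ := orbV_reach hK (by norm_num) h
    obtain ⟨n, hn⟩ := B.real hy ha
    exact ⟨n, ⟨a, ha, hn⟩, Or.inl (by rw [← B.νz, hn, XV.ext e])⟩
  · obtain ⟨a, ha, e⟩ := orbV_reach hK (by norm_num) h.1
    obtain ⟨n, hn⟩ := B.real hy ha
    exact ⟨n, ⟨a, ha, hn⟩, Or.inr ⟨by rw [← B.νx, hn, XV.ext e], h.2⟩⟩

theorem autom : normalizer (ν.range : Set G) ≤ actIn ν Ms := fun g hg => by
  have k : ∀ c ∈ LM4 ++ (List.range 12).map fun i => J4T.actE (2 ^ i), ∀ g, VR ν c g → g ∈ actIn ν Ms :=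
    fun c hc g ⟨a, h1, h2⟩ => ⟨a, subset_closure ⟨c, hc, h1⟩, h2⟩
  have k1 : ∀ g, VR ν one11 g → g ∈ actIn ν Ms := fun g ⟨a, h1, h2⟩ => ⟨a, isGrp11.one.func h1 ▸ one_mem _, h2⟩
  have kz : z ∈ actIn ν Ms := k1 _ (B.νz ▸ VR_V ν _)
  obtain ⟨v, hv⟩ := (mem_normalizer_iff.1 hg z).1 ⟨_, B.νz⟩
  obtain ⟨n, hn, h | h⟩ := B.orbN hy (v := v) (by
    rintro rfl; rw [map_one, eq_comm, conj_eq_one_iff] at hv; exact B.toSt.z1 hv)
  · obtain ⟨e, he, w, hw, h1⟩ := B.norm_H (g := n⁻¹ * g) (mem_centralizer_singleton_iff.2 (by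
      calc _ = n⁻¹ * (g * z * g⁻¹) * g := by group
        _ = _ := by rw [← hv, ← h]; group)) (mul_mem (inv_mem (actIn_norm hn)) hg)
    refine (mul_mem_cancel_left (inv_mem hn)).1 (h1 ▸ mul_mem ?_ ((closure_le _).2 ?_ hw))
    · refine xind (n := 13) (P := fun e => θ e ∈ actIn ν Ms) (by rw [B.toSt.θ0]; exact one_mem _) (fun i hi => ?_)
        (fun a ha b hb h1 h2 => (mul_mem_cancel_right (pow_mem kz _)).1 (B.toSt.mul' ha hb ▸ mul_mem h1 h2)) e he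
      by_cases h : i < 12
      · obtain ⟨a, h1, h2⟩ := B.VR_E (pow_lt12 h)
        obtain ⟨b, h3, h4⟩ := isGrp11.evalW_mem (B.codesM hy) (nthL [] [[8], [10], [10, 26, 30], [12, 28], [10, 26, 30],
          [12, 28], [8], [10], [12, 26], [16, 24, 30], [20, 30], [12, 26]] i)
        rw [(by decide +kernel : ∀ i < 12, evalW mulM (invN 11) one11 (LM4 ++ (List.range 12).map fun i => J4T.actE (2 ^ i))
          (nthL [] [[8], [10], [10, 26, 30], [12, 28], [10, 26, 30], [12, 28], [8], [10], [12, 26], [16, 24, 30], [20, 30],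
          [12, 26]] i) = actE (2 ^ i)) i h] at h4
        exact ⟨a, h4.func h1 ▸ h3, h2⟩
      · obtain rfl : i = 12 := by omega
        exact (B.hz : θ (2 ^ 12) = z) ▸ kz
    · rintro _ ⟨i, rfl⟩
      have := B.hv i
      rcases i with _ | _ | _ | i
      exacts [k cD (by simp [LM4]) _ this, k (cK 3) (by simp [LM4]) _ this, k cP (by simp [LM4]) _ this,
        k1 _ (by rcases i with _ | _ | _ | _ | i <;> exact this)]
  · exact absurd ((isConj_iff.2 ⟨g, hv.symm⟩).trans (isConj_iff.2 ⟨n, h.1⟩).symm) (B.toSt.not_fused X0_le)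

theorem card_le_four {W : Subgroup G} (hW : W ≤ ν.range) (h : ∀ w ∈ W, ¬ IsConj z w) : Nat.card W ≤ 4 := by
  by_contra hc
  obtain ⟨⟨u, hu⟩, u1⟩ := ne_bot_iff_exists_ne_one.1 (show W ≠ ⊥ by rintro rfl; simp at hc)
  obtain ⟨u, rfl⟩ := hW hu
  obtain ⟨n, ⟨a, -, ha⟩, h1 | ⟨h1, -⟩⟩ := B.orbN hy (v := u) (by rintro rfl; exact u1 (Subtype.ext (map_one ν)))
  · exact h _ hu (isConj_iff.2 ⟨n, h1⟩)
  have c : Nat.card (W.comap (ν.comp a.toMonoidHom)) = Nat.card W := by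
    rw [← card_map_of_injective (f := ν.comp a.toMonoidHom) (B.injν.comp a.injective), map_comap_eq_self]
    rwa [MonoidHom.range_comp, MonoidHom.range_eq_top.2 a.surjective, ← MonoidHom.range_eq_map]
  have h2 : XV.mk' 11 2 ∈ W.comap (ν.comp a.toMonoidHom) := by
    show ν (a _) ∈ W; rwa [← ha, B.νx, h1]
  have h3 : ∀ v ∈ W.comap (ν.comp a.toMonoidHom), v ≠ 1 → mD.testBit v.val := fun v hv v1 => by
    obtain ⟨m, -, e | e⟩ := B.orbN hy v1
    exacts [absurd ((isConj_iff.2 ⟨m, e⟩).trans (isConj_iff.2 ⟨n, ha v⟩)) (h _ hv), e.2]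
  rw [← c] at hc
  generalize W.comap (ν.comp a.toMonoidHom) = U at *
  set s := XV.mk' 11 2
  obtain ⟨v, hv, v1⟩ : ∃ v ∈ U, v ∉ [1, s] := by by_contra! k; exact hc ((card_le_len _ k).trans (by simp))
  obtain ⟨w, hw, w1⟩ : ∃ w ∈ U, w ∉ [1, s, v, s * v] := by by_contra! k; exact hc (card_le_len _ k)
  simp only [List.mem_cons, List.not_mem_nil, or_false, not_or] at v1 w1
  have i : ∀ a b : XV 11, b ≠ a → a * b ≠ 1 := fun a b h e => h (eq_inv_of_mul_eq_one_right e)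
  refine noD v.lt w.lt ?_
  simp only [List.forall_mem_cons]
  exact ⟨h3 _ hv v1.1, h3 _ hw w1.1, h3 _ (mul_mem h2 hv) (i _ _ v1.2), h3 _ (mul_mem h2 hw) (i _ _ w1.2.1),
    h3 _ (mul_mem hv hw) (i _ _ w1.2.2.1), h3 _ (mul_mem h2 (mul_mem hv hw)) (mul_assoc s v w ▸ i _ _ w1.2.2.2),
    fun _ h => nomatch h⟩
end Bt

end Cfsg.Agent.F24T
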