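import Cfsg.Agent.F24T.Main
import Cfsg.Agent.Comp.Hom
import Cfsg.Agent.S0283

/-! Fi24-type: involutions of `E` (`St.inv_E'`), change of frame (`St.conj`), the stabiliser `2^5.A₆` of `s0`
(`stab_s0`), and `C_H(p) = 6·U₄(3)` (`Bt.six`). (helper12) -/

set_option autoImplicit false

namespace Cfsg.Agent.F24T
open Cfsg.Agent.Comp Subgroup Cfsg.Agent.BG LES MulAction J4T Known

variable {G : Type*} [Group G] [Finite G] {z p : G} {θ : ℕ → G} {μ : centralizer ({z} : Set G) →* MulAut (XV 12)}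

theorem St.inv_E' (S : St Xs z p θ μ) {t : G} (ht : t ∈ twoCoreOfCentralizer z) (o : orderOf t = 2) (hz : t ≠ z) :
    ∃ h ∈ centralizer ({z} : Set G), h * t * h⁻¹ = θ s0 ∨ h * t * h⁻¹ = θ x0 := by
  obtain ⟨x, hx, rfl⟩ := (S.core _).1 ht
  refine S.inv_E X0_le hx (by rintro rfl; exact Invol.ne_one_of o S.toFr.θ0) (by rintro rfl; exact hz S.hz) ?_
  have := (S.toFr.sq hx).symm.trans (Invol.mul_self_of o)
  have l := bt_lt x x
  interval_cases bt x x
  exacts [rfl, absurd ((pow_one z).symm.trans this) S.toFr.z1]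

theorem St.to_s0 (S : St Xs z p θ μ) {t : G} (ht : t ∈ twoCoreOfCentralizer z) (o : IsConj z t) (hz : t ≠ z) :
    ∃ h ∈ centralizer ({z} : Set G), h * t * h⁻¹ = θ s0 := by
  obtain ⟨g, rfl⟩ := isConj_iff.1 o
  obtain ⟨h, hh, e | e⟩ := S.inv_E' ht ((Invol.orderOf_conj' g z).trans S.toFr.oz) hz
  · exact ⟨h, hh, e⟩
  · exact absurd (o.trans (isConj_iff.2 ⟨h, e⟩)) (S.not_fused X0_le)

theorem St.ord (S : St Xs z p θ μ) {s : ℕ} (hs : s < 4096) (h0 : s ≠ 0) (hq : bt s s = 0) : orderOf (θ s) = 2 :=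
  orderOf_eq_prime (by rw [pow_two, S.toFr.sq (by omega), hq, pow_zero]) (S.ne_of hs h0).1

theorem St.conj {X : Subgroup (MulAut (XV 12))} (S : St X z p θ μ) (h : centralizer ({z} : Set G)) :
    St X z (h.1⁻¹ * p * h) (fun x => h.1⁻¹ * θ x * h) (μ.comp (MulAut.conj h).toMonoidHom) := by
  have hz : Commute h.1 z := mem_centralizer_singleton_iff.1 h.2
  have hE : ∀ g, h * g * h.1⁻¹ ∈ twoCoreOfCentralizer z ↔ g ∈ twoCoreOfCentralizer z := fun g =>
    ⟨fun k => by simpa [mul_assoc] using S.le.conj_mem hz.inv_left k, S.le.conj_mem hz⟩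
  refine ⟨⟨fun x hx y hy => by rw [← S.mul x hx y hy]; group, fun x hx y hy e => S.inj x hx y hy (by simpa using e),
    by simp only [S.hz]; rw [hz.inv_left.eq, inv_mul_cancel_right],
    by simpa using (Invol.orderOf_conj' h.1⁻¹ p).trans S.op, fun x hx => by rw [← S.pθ x hx]; group⟩,
    fun g => ?_, S.cent, fun k c hc x hx => ?_, fun k => (S.ker _).trans (hE k), ?_, S.oq, S.cardH, fun g hg => ?_⟩
  · rw [← hE, S.core]
    exact exists_congr fun x => and_congr_right fun _ => ⟨fun e => by rw [e]; group, fun e => by rw [← e]; group⟩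
  · refine (S.act (h * k * h⁻¹) c hc x hx).imp (fun e => ?_) fun e => ?_ <;> rw [← e] <;> simp [mul_assoc]
  · rw [MonoidHom.range_comp, MonoidHom.range_eq_top.2 (MulAut.conj h).surjective, ← MonoidHom.range_eq_map, S.range]
  · obtain ⟨k, hk, e⟩ := S.frat g hg
    refine ⟨h⁻¹ * k * h, mem_normalizer_zpowers ?_, by simpa [mul_assoc] using e⟩
    obtain ⟨j, hj⟩ := (mem_normalizer_iff.1 hk p).1 (mem_zpowers p)
    refine ⟨j, ?_⟩
    have := conj_zpow (i := j) (a := h.1⁻¹) (b := p)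
    simp only [inv_inv] at this hj ⊢
    rw [this, hj]; simp [mul_assoc]

def LY : List ℕ := [0xd20630e1072f0c50460cb0490ce040f3051, 0x8284142821412c11832431c281c43883442c]
def ptsY : List (ℕ × ℕ) := [(0x300100c004000300100c004000300100c004, 0), (0x3aa1ffc554aa93fe159cfe459f3e519fce54, 1),
  (0x3ff155cff455f3f515fcf545ff3551ffc554, 2), (0x3551aacaa4ff63fb156cfb456f3b516fcb54, 3),
  (0x300100c0040000c0040030010c0040030010, 4), (0x300100c0040000300100c0040300100c0040, 5)]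

theorem stab_s0 (hX : #Xs = 19595520) {A : Subgroup (MulAut (XV 12))} (hA : Lists IR LA A) (hA' : CodesIn IR LA A) :
    A ≤ Xs ⊓ stabilizer _ (XV.mk' 12 s0) ∧ IsElementaryAbelian 2 A ∧ #A = 32 ∧
      ∃ φ : ↥(Xs ⊓ stabilizer (MulAut (XV 12)) (XV.mk' 12 s0)) →* Equiv.Perm (Fin 6),
        φ.range = alternatingGroup (Fin 6) ∧ ∀ y, φ y = 1 ↔ y.1 ∈ A := by
  have cA : #A = 32 := card_of_lists hA hA' (by decide +kernel)
  have fix : ∀ {L K}, CodesIn IR L K → allL L (fun c => Nat.beq (app c s0) s0) = true →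
      CodesIn IR L (K ⊓ stabilizer _ (XV.mk' 12 s0)) := fun h h' c hc => let ⟨g, a, b⟩ := h c hc
    ⟨g, ⟨a, (b.1.mk'_eq (by decide)).trans (congrArg _ (nbeq.1 (allL_iff.1 h' c hc)))⟩, b⟩
  have hAY := hA.le isCanon_IR.func (fix ((codesT.of_subset (L' := LA) (by decide +kernel)).mono (Ts_le.trans Bs_le))
    (by decide +kernel))
  have cm : ∀ a ∈ A, ∀ b ∈ A, Commute a b := fun a ha b hb => by
    obtain ⟨c, hc, h1⟩ := hA a ha
    obtain ⟨d, hd, h2⟩ := hA b hb
    exact (commC_iff isGrp_IR isCanon_IR h1 h2).2 (allL_iff.1 (allL_iff.1 (by decide +kernel :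
      allL LA (fun c => allL LA (commC mulM c)) = true) c hc) d hd)
  refine ⟨hAY, ⟨⟨⟨fun a b => Subtype.ext (cm _ a.2 _ b.2)⟩⟩, fun a ha => ?_⟩, cA, ?_⟩
  · obtain ⟨c, h1, h2⟩ := hA.forall (f := fun c => Nat.beq (mulM c c) one12) (by decide +kernel) ha
    rw [pow_two]; exact isCanon_IR.func (isGrp_IR.mul h1 h1) (nbeq.1 h2 ▸ isGrp_IR.one)
  set Y := Xs ⊓ stabilizer (MulAut (XV 12)) (XV.mk' 12 s0)
  have cY : CodesIn IR LY Y := fix ((isGrp_IR.mapW codesX [[4, 6, 4, 10, 4], [2, 5, 3, 6, 2, 4]]).of_subset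
    (by decide +kernel)) (by decide +kernel)
  have h1 : #Y ≤ 11520 := by
    have h1 := card_eq_ncard_orbit_mul Xs (XV.mk' 12 s0)
    have h2 := (show 1701 ≤ _ by decide +kernel).trans (orbV_le codesX.toMR 1800 (a := s0) (by decide))
    have := Nat.mul_le_mul_right #Y h2
    rw [← h1, hX] at this
    omega
  have h2 : closure (genSet IR LY) = Y := eq_of_le_of_card_ge (cY.closure_le isCanon_IR.func) (h1.trans (le_trans
    (by decide +kernel) (chainM_le_card (B := [2, 260]) (by decide +kernel) (isGrp_IR.slpW [[0, 0, 3, 1, 2, 2, 1],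
      [0, 0, 3, 3, 0, 2, 0], [2, 0, 3, 0, 0, 2, 1, 3]] cY.closure).toMR 700)))
  have hp : Par 6 3 7 := ⟨by norm_num, by norm_num⟩
  have cP := (codesIn_perm_top (encFin 5) (w := 3) (m := 7) (L := [80641, 131930]) (by decide +kernel)).closure
  have hpts : ∀ q ∈ ptsY, (∃ x, (keyedCj isGrp_IR isCanon_IR).P q.1 x) ∧
      ∃ y, (keyedPt (encFin 5) 3 7 (Equiv.Perm (Fin 6))).P q.2 y := fun q hq =>
    have := allL_iff.1 (by decide +kernel : allL ptsY (fun q => band (okI q.1) (Nat.blt q.2 6)) = true) q hq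
    have := (Bool.and_eq_true _ _).mp ((band_eq _ _).symm.trans this)
    ⟨exists_of_okI this.1, exists_P_keyedPt _ (nblt.1 this.2)⟩
  have hf := fun (h : Equiv.Perm (Fin 6)) (_ : h ∈ Subgroup.closure (genSet (PRep (encFin 5) 3 7) [80641, 131930])) =>
    faithful_of_all_points (encFin 5) (w := 3) (m := 7) (G := Equiv.Perm (Fin 6)) (pts := ptsY) (by decide +kernel) h
  obtain ⟨φ, h3, h4⟩ := exists_hom_of_compat (K := Y) [(nthL 0 LY 0, 80641), (nthL 0 LY 1, 131930)] ptsY cY h2 cP rfl hpts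
    (by decide +kernel) (by decide +kernel) hf
  have h5 : A.subgroupOf Y ≤ φ.ker := fun a ha => map_eq_one_of_smul_eq h4 h3 hpts (by decide +kernel) hf
    fun q hq x hx => by
      obtain ⟨b, hb, h⟩ := hA' q.1 (memL_iff.1 (allL_iff.1 (by decide +kernel :
        allL ptsY (fun q => memL q.1 LA) = true) q hq))
      obtain rfl : b = x := isCanon_IR.func h hx
      exact (mul_inv_eq_iff_eq_mul (G := MulAut (XV 12))).2 (cm _ ha _ hb).eq
  have h6 : 360 ≤ #φ.range := h3 ▸ le_trans (by decide +kernel) (chainP_le_card (B := [0, 1, 2, 3]) (by decide +kernel)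
    ((isGrp_PRep _ hp).slpW [[2, 0, 2], [0, 2, 0, 3], [4, 7], [5, 5, 6], [9, 10]] cP) 10)
  have h7 := card_ker_mul φ
  have h8 : #(A.subgroupOf Y) = 32 := (Nat.card_congr (subgroupOfEquivOfLe hAY).toEquiv).trans cA
  have h9 := card_le_of_le h5
  have h10 := φ.range.card_mul_index
  rw [Nat.card_perm, Nat.card_fin, show #φ.range = 360 by nlinarith] at h10
  exact ⟨φ, Equiv.Perm.eq_alternatingGroup_of_index_eq_two (by simp only [Nat.factorial] at h10; omega), fun y => by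
    rw [← MonoidHom.mem_ker, ← eq_of_le_of_card_ge h5 (by nlinarith), mem_subgroupOf]⟩

theorem idx0 (hX : #Xs = 19595520) {a b : MulAut (XV 12)} (ha : a ∈ Xs) (hb : b ∈ Xs) :
    a * b ∈ X0 ↔ (a ∈ X0 ↔ b ∈ X0) :=
  mul_mem_iff_of_index_two (H := X0.subgroupOf Xs) (a := ⟨a, ha⟩) (b := ⟨b, hb⟩) (by
    have := Solv.card_inf_mul_relIndex X0 Xs
    rw [inf_eq_left.2 X0_le, card_X0, hX] at this
    exact (by omega : X0.relIndex Xs = 2))

theorem mem_X0 (hX : #Xs = 19595520) {a : MulAut (XV 12)} (ha : a ∈ Xs) (h : a ∈ Cw) : a ∈ X0 := by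
  by_contra hn
  obtain ⟨r, hr, hc⟩ := codesX cρ (by simp [LX, LXc])
  have h1 : r ∉ Cw := fun h => absurd ((commC_iff isGrp_IR isCanon_IR hc IR_wA).1 (mem_Cw.1 h)) (by decide +kernel)
  exact h1 ((mul_mem_cancel_left h).1 (X0_Cw ((idx0 hX ha hr).2 (iff_of_false hn fun k => h1 (X0_Cw k)))))

theorem simpleU : IsSimpleGroup U43P.G := by
  let := Fintype.ofFinite (GaloisField 3 2)
  have c : Fintype.card (GaloisField 3 2) = 9 := by rw [← Nat.card_eq_fintype_card, GaloisField.card 3 2 (by decide)]; rfl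
  obtain ⟨e⟩ := U43T.equiv c
  have := S0283.result (F := GaloisField 3 2) (q := 3) c 4 (by decide) (by decide)
  exact e.symm.isSimpleGroup

theorem centU {a : U43P.G} (h : a ∈ center U43P.G) : a = 1 := by
  have := simpleU
  refine mem_bot.1 (((normal_of_characteristic (center _)).eq_bot_or_eq_top.resolve_right fun e => ?_).le h)
  let : CommGroup U43P.G := { mul_comm := fun a b => (mem_center_iff.1 (e.ge (mem_top b)) a) }
  exact absurd (U43P.card ▸ IsSimpleGroup.prime_card (α := U43P.G)) (by norm_num)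

theorem mem_W_of_normal (hX : #Xs = 19595520) {a : MulAut (XV 12)} (ha : a ∈ Xs) (h3 : a ^ 3 = 1)
    (hn : ∀ g ∈ Xs, g * a * g⁻¹ ∈ zpowers a) : a ∈ zpowers wA := by
  have := simpleU
  have : Finite U43P.G := Nat.finite_of_card_ne_zero (by rw [U43P.card]; norm_num)
  have h0 : a ∈ X0 := by
    have := (idx0 hX (mul_mem ha ha) (mul_mem ha ha)).2 Iff.rfl
    rwa [show a * a * (a * a) = a ^ 3 * a by simp only [pow_succ, pow_zero, one_mul, mul_assoc], h3, one_mul] at this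
  obtain ⟨ψ, hs, hk⟩ := exψ
  have hN : (zpowers (ψ ⟨a, h0⟩)).Normal := normalizer_eq_top_iff.1 (top_le_iff.1 fun u _ => mem_normalizer_zpowers (by
    obtain ⟨g, rfl⟩ := hs u
    obtain ⟨j, hj⟩ := hn g (X0_le g.2)
    exact ⟨j, by rw [← map_inv, ← map_mul, ← map_mul]; exact (map_zpow ψ _ j).symm.trans (congrArg ψ (Subtype.ext hj))⟩))
  refine (hk ⟨a, h0⟩).1 (mem_bot.1 ((hN.eq_bot_or_eq_top.resolve_right fun e => ?_).le (mem_zpowers _)))
  have := orderOf_dvd_of_pow_eq_one (show ψ ⟨a, h0⟩ ^ 3 = 1 by rw [← map_pow, ← map_one ψ]; exact congrArg ψ (Subtype.ext h3))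
  rw [← Nat.card_zpowers, e, card_top, U43P.card] at this
  norm_num at this

/-- `K` is a perfect central extension of `U₄(3)` by a cyclic group of order 6. -/
def Six (K : Type*) [Group K] : Prop := Group.IsPerfect K ∧ ∃ φ : K →* U43P.G, Function.Surjective φ ∧
  ∃ c ∈ center K, orderOf c = 6 ∧ ∀ k, φ k = 1 ↔ k ∈ zpowers c

theorem Six.conc {K L : Type*} [Group K] [Group L] (h : Six K) (e : K ≃* L) : IsQuasisimple L ∧ IsCyclic (center L) ∧
    #(center L) = 6 ∧ ∃ (F : Type) (_ : Field F) (_ : Fintype F), Fintype.card F = 9 ∧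
      Nonempty (L ⧸ center L ≃* PSU 4 F 3) := by
  obtain ⟨hp, φ, hs, c, hc, o, hk⟩ := h
  have hs' : Function.Surjective (φ.comp e.symm.toMonoidHom) := hs.comp e.symm.surjective
  have h1 : center L = zpowers (e c) := le_antisymm (fun a ha => by
    obtain ⟨j, hj⟩ := (hk (e.symm a)).1 (centU (mem_center_iff.2 fun u => by
      obtain ⟨b, rfl⟩ := hs' u
      exact (map_mul (φ.comp e.symm.toMonoidHom) b a).symm.trans ((congrArg _ (mem_center_iff.1 ha b)).trans
        (map_mul (φ.comp e.symm.toMonoidHom) a b))))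
    exact ⟨j, by simpa using congrArg e hj⟩) (zpowers_le.2 (mem_center_iff.2 fun b => by
      simpa using congrArg e (mem_center_iff.1 hc (e.symm b))))
  have h2 : center L = (φ.comp e.symm.toMonoidHom).ker := h1.trans (ext fun a => ((hk (e.symm a)).trans
    ⟨fun ⟨j, hj⟩ => ⟨j, by simpa using congrArg e hj⟩, fun ⟨j, hj⟩ => ⟨j, by simpa using congrArg e.symm hj⟩⟩).symm)
  have f := (QuotientGroup.quotientMulEquivOfEq h2).trans (QuotientGroup.quotientKerEquivOfSurjective _ hs')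
  let := Fintype.ofFinite (GaloisField 3 2)
  have c : Fintype.card (GaloisField 3 2) = 9 := by rw [← Nat.card_eq_fintype_card, GaloisField.card 3 2 (by decide)]; rfl
  obtain ⟨g⟩ := U43T.equiv c
  have := simpleU
  exact ⟨⟨Group.IsPerfect.ofSurjective (f := e.toMonoidHom) e.surjective, f.isSimpleGroup⟩, by rw [h1]; infer_instance,
    by rw [h1, Nat.card_zpowers, e.orderOf_eq, o], _, _, _, c, ⟨f.trans g.symm⟩⟩

theorem Bt.six {x : ℕ → G} {ν : XV 11 →* G} (B : Bt z p θ μ x ν 3) :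
    Six (centralizer {(⟨p, B.toSt.pH⟩ : centralizer ({z} : Set G))}) := by
  have S := B.toSt
  set C := centralizer {(⟨p, B.toSt.pH⟩ : centralizer ({z} : Set G))}
  have mC : ∀ k : centralizer ({z} : Set G), k ∈ C ↔ k.1 * p = p * k := fun k =>
    mem_centralizer_singleton_iff.trans Subtype.ext_iff
  have nC : ∀ k : C, k.1.1 ∈ normalizer (zpowers p : Set G) := fun k => mem_normalizer_zpowers (by
    rw [(mC _).1 k.2, mul_inv_cancel_right]; exact mem_zpowers p)
  have mk : ∀ {c g}, KR p μ c g → conjC mulM invM cW c = c → ∃ k : C, k.1.1 = g := fun h e =>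
    ⟨⟨⟨_, h.1⟩, (mC _).2 (mul_inv_eq_iff_eq_mul.1 (S.comm_p (S.KR_eq (e ▸ isGrp_KR.conj S.KR_p h) h))).symm⟩, rfl⟩
  obtain ⟨ψ, hs, hk⟩ := exψ
  let μ' : C →* X0 := (μ.comp C.subtype).codRestrict X0 fun k => mem_X0 S.card_Xs (S.μ_mem _) (mem_Cw.2 (by
    simpa [S.μp] using congrArg μ (mem_centralizer_singleton_iff.1 k.2)))
  have hs' : Function.Surjective μ' := fun a => by
    obtain ⟨k, h1, h2⟩ := S.frat a (X0_le a.2)
    obtain ⟨c, hc⟩ := S.exists_IR k
    obtain ⟨k', e⟩ := mk ⟨k.2, h1, hc⟩ (isCanon_IR.canon (isGrp_IR.conj IR_wA hc) (by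
      rw [h2, ← mem_Cw.1 (X0_Cw a.2), mul_inv_cancel_right, ← h2]; exact hc))
    exact ⟨k', Subtype.ext ((congrArg μ (Subtype.ext e)).trans h2)⟩
  obtain ⟨P, hP⟩ := mk S.KR_p (by decide +kernel)
  obtain ⟨Z, hZ⟩ := mk S.KR_z (by decide +kernel)
  have μP : μ P = wA := (congrArg μ (Subtype.ext hP)).trans S.μp
  have μZ : μ Z = 1 := (S.ker _).2 (by rw [hZ]; exact S.es.zQ)
  have oP : orderOf P = 3 := by rw [← orderOf_coe, ← orderOf_coe, hP, S.op]
  have oZ : orderOf Z = 2 := by rw [← orderOf_coe, ← orderOf_coe, hZ, S.toFr.oz]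
  have cP : P ∈ center C := mem_center_iff.2 fun k => Subtype.ext (Subtype.ext (by simpa [hP] using (mC _).1 k.2))
  have cZ : Z ∈ center C := mem_center_iff.2 fun k => Subtype.ext (Subtype.ext (by
    simpa [hZ] using mem_centralizer_singleton_iff.1 k.1.2))
  have cPZ : Commute P Z := (mem_center_iff.1 cZ P)
  have o6 := cPZ.orderOf_mul_eq_mul_orderOf_of_coprime (by rw [oP, oZ]; norm_num)
  have P3 : P ^ 3 = 1 := oP ▸ pow_orderOf_eq_one P
  have Z2 : Z ^ 2 = 1 := oZ ▸ pow_orderOf_eq_one Z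
  have mZ : Z ∈ zpowers (P * Z) := ⟨(3 : ℕ), by simp only [zpow_natCast]; rw [cPZ.mul_pow, P3, pow_succ, Z2]; simp⟩
  have mP : P ∈ zpowers (P * Z) := (mul_mem_cancel_right mZ).1 (mem_zpowers _)
  have ker : ∀ k, (ψ.comp μ') k = 1 ↔ k ∈ zpowers (P * Z) := fun k => (hk _).trans ⟨fun ⟨j, hj⟩ => by
    rcases S.eq_of_μ (nC k) (nC (P ^ j)) (hj.symm.trans (by simp [μP])) with e | e
    · exact (show k = P ^ j from Subtype.ext (Subtype.ext e)) ▸ zpow_mem mP j
    · exact (show k = P ^ j * Z from Subtype.ext (Subtype.ext (by simpa [hZ] using e))) ▸ mul_mem (zpow_mem mP j) mZ,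
    fun ⟨j, hj⟩ => ⟨j, by rw [← hj]; simp [μ', μP, μZ]⟩⟩
  refine ⟨⟨top_le_iff.1 fun k _ => ?_⟩, ψ.comp μ', hs.comp hs', _, mul_mem cP cZ, by rw [o6, oP, oZ], ker⟩
  have cm : ∀ a b : C, a * b * a⁻¹ * b⁻¹ ∈ commutator C := fun a b => commutator_mem_commutator (mem_top a) (mem_top b)
  have h1 : Z ∈ commutator C := by
    obtain ⟨d, hd⟩ := mk (B.hx 0) (by decide +kernel)
    obtain ⟨k, hk⟩ := mk (isGrp_KR.mul (B.hx 1) (B.hx 1)) (by decide +kernel)
    obtain ⟨a, ha⟩ := mk (KR_rho B.hx 13) (by decide +kernel)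
    obtain ⟨b, hb⟩ := mk (KR_rho B.hx 3) (by decide +kernel)
    have v : ∀ u < 2048, ∀ v < 2048, ν (XV.mk' 11 u) * (ν (XV.mk' 11 v))⁻¹ = ν (XV.mk' 11 (u ^^^ v)) := fun u hu v hv => by
      rw [← map_inv, XV.inv_eq, ← map_mul, mk'_xor hu hv]
    have e : Z = k * (d * a * d⁻¹ * a⁻¹) * k⁻¹ * (d * b * d⁻¹ * b⁻¹)⁻¹ := Subtype.ext (Subtype.ext (by
      simp only [coe_mul, coe_inv, hZ, hd, hk, ha, hb, ← B.νrho (m := 13) (by decide), ← B.νrho (m := 3) (by decide)]
      rw [(B.hv 0).act (by decide), (B.hv 0).act (by decide), v _ (by decide +kernel) _ (by decide),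
        v _ (by decide +kernel) _ (by decide), (isGrp_VR.mul (B.hv 1) (B.hv 1)).act (by decide +kernel),
        v _ (by decide +kernel) _ (by decide +kernel), ← B.νz]
      exact congrArg (fun u => ν (XV.mk' 11 u)) (by decide +kernel)))
    exact e ▸ mul_mem (Normal.conj_mem inferInstance _ (cm d a) k) (inv_mem (cm d b))
  have h2 : P ∈ commutator C := by
    have l := isGrp_IR.mapW codesX0 [[5, 2, 5], [0, 2, 0, 2, 1, 2]]
    obtain ⟨g, hg⟩ := S.exKR l X0_le (List.mem_cons_self ..)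
    obtain ⟨t, ht⟩ := S.exKR l X0_le (List.mem_cons_of_mem _ (List.mem_cons_self ..))
    obtain ⟨g, rfl⟩ := mk hg (by decide +kernel)
    obtain ⟨t, rfl⟩ := mk ht (by decide +kernel)
    have h := isGrp_KR.mul (isGrp_KR.conj hg ht) (isGrp_KR.inv ht)
    rw [show mulM _ _ = cW by decide +kernel] at h
    rcases S.KR_eq h S.KR_p with e | e
    · exact (show g * t * g⁻¹ * t⁻¹ = P from Subtype.ext (Subtype.ext (e.trans hP.symm))) ▸ cm g t
    · exact (mul_mem_cancel_right h1).1 ((show g * t * g⁻¹ * t⁻¹ = P * Z from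
        Subtype.ext (Subtype.ext (by simpa [hP, hZ] using e))) ▸ cm g t)
  have := simpleU
  have h3 : commutator U43P.G = ⊤ := (normal_of_characteristic _).eq_bot_or_eq_top.resolve_left fun e => by
    obtain ⟨a, ha⟩ := exists_ne (1 : U43P.G)
    exact ha (centU (mem_center_iff.2 fun b => commutatorElement_eq_one_iff_mul_comm.1
      (mem_bot.1 (e.le (commutator_mem_commutator (mem_top b) (mem_top a))))))
  obtain ⟨y, hy, e⟩ : (ψ.comp μ') k ∈ (commutator C).map (ψ.comp μ') := by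
    rw [map_commutator_eq, (MonoidHom.range_eq_top (f := ψ.comp μ')).2 (hs.comp hs'), ← commutator_def, h3]; trivial
  exact (mul_mem_cancel_left (inv_mem hy)).1 (zpowers_le.2 (mul_mem h2 h1) ((ker _).1 (by rw [map_mul, map_inv, e, inv_mul_cancel])))

end Cfsg.Agent.F24T
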