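import Cfsg.Agent.F24T.Data

/-! `St X z p θ μ`: `H = C(z) = E·N_H(p)` acts on `E/⟨z⟩` through `μ`, with kernel `E` and image `X`; basic API. -/

set_option autoImplicit false

namespace Cfsg.Agent.F24T
open Cfsg.Agent.Comp Subgroup J4T

variable {G : Type*} [Group G] {z p : G} {θ : ℕ → G}

/-- `H = C(z) = E·N_H(p)` acts on `E/⟨z⟩` through `μ`, with kernel `E` and image `X`. -/
structure St (X : Subgroup (MulAut (XV 12))) (z p : G) (θ : ℕ → G)
    (μ : centralizer ({z} : Set G) →* MulAut (XV 12)) : Prop extends Fr z p θ where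
  core : ∀ g, g ∈ twoCoreOfCentralizer z ↔ ∃ x < 8192, θ x = g
  cent : centralizer (twoCoreOfCentralizer z : Set G) ≤ twoCoreOfCentralizer z
  act : ∀ (h : centralizer ({z} : Set G)) (c : ℕ), MR 12 c (μ h) → ∀ x < 8192,
    h * θ x * h⁻¹ = θ (app c x) ∨ h * θ x * h⁻¹ = θ (app c x ^^^ 4096)
  ker : ∀ h : centralizer ({z} : Set G), μ h = 1 ↔ h.1 ∈ twoCoreOfCentralizer z
  range : μ.range = X
  oq : X ≤ OQ
  cardH : Nat.card ↥(centralizer ({z} : Set G)) = 8192 * 19595520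
  frat : ∀ g ∈ X, ∃ k : centralizer ({z} : Set G), k.1 ∈ normalizer (zpowers p : Set G) ∧ μ k = g

namespace St
variable {μ : centralizer ({z} : Set G) →* MulAut (XV 12)} {X : Subgroup (MulAut (XV 12))} (S : St X z p θ μ)
include S

theorem θE {x : ℕ} (hx : x < 8192) : θ x ∈ twoCoreOfCentralizer z := (S.core _).2 ⟨x, hx, rfl⟩
theorem θH {x : ℕ} (hx : x < 8192) : θ x ∈ centralizer ({z} : Set G) :=
  mem_centralizer_singleton_iff.2 (S.toFr.cz hx).eq
theorem pH : p ∈ centralizer ({z} : Set G) := mem_centralizer_singleton_iff.2 S.toFr.pz.eq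
theorem zH : z ∈ centralizer ({z} : Set G) := mem_centralizer_singleton_iff.2 rfl
theorem μθ {x : ℕ} (hx : x < 8192) : μ ⟨θ x, S.θH hx⟩ = 1 := (S.ker _).2 (S.θE hx)
theorem μ_mem (h : centralizer ({z} : Set G)) : μ h ∈ X := S.range ▸ ⟨h, rfl⟩
theorem exists_IR (h : centralizer ({z} : Set G)) : ∃ c, IR c (μ h) := J4T.exists_IR (S.oq (S.μ_mem h))

theorem act' (h : centralizer ({z} : Set G)) {c : ℕ} (hc : MR 12 c (μ h)) {x : ℕ} (hx : x < 8192) :
    ∃ b < 2, h * θ x * h⁻¹ = θ (app c x) * z ^ b := by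
  rcases S.act h c hc x hx with e | e
  · exact ⟨0, by norm_num, by simpa using e⟩
  · exact ⟨1, by norm_num, by rw [e, S.toFr.θz (app_lt' _ _), pow_one]⟩

theorem kact [Finite G] {k : centralizer ({z} : Set G)} (hk : k.1 ∈ normalizer (zpowers p : Set G)) {c : ℕ}
    (hc : MR 12 c (μ k)) {x : ℕ} (hx : x < 8192) : k * θ x * k⁻¹ = θ (J4T.kact c x) :=
  S.toFr.kact_of (mem_centralizer_singleton_iff.1 k.2) ((mem_normalizer_iff.1 hk p).1 (mem_zpowers p))
    (fun x hx => S.act' k hc (by omega)) hx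

theorem card_E : Nat.card (twoCoreOfCentralizer z) = 8192 := by
  have : Function.Bijective fun x : Fin 8192 => (⟨θ x, S.θE x.2⟩ : twoCoreOfCentralizer z) :=
    ⟨fun x y e => Fin.ext (S.inj _ x.2 _ y.2 (congrArg Subtype.val e)), fun g => by
      obtain ⟨x, hx, e⟩ := (S.core _).1 g.2; exact ⟨⟨x, hx⟩, Subtype.ext e⟩⟩
  rw [← Nat.card_eq_of_bijective _ this]; simp

theorem card_Xs : Nat.card X = 19595520 := by
  have h1 := card_ker_mul μ
  have : μ.ker = (twoCoreOfCentralizer z).subgroupOf _ := by ext h; exact S.ker h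
  rw [S.range, S.cardH, this, Nat.card_congr (subgroupOfEquivOfLe fun g hg => by
    obtain ⟨x, hx, rfl⟩ := (S.core _).1 hg; exact S.θH hx).toEquiv, S.card_E, mul_comm] at h1
  exact Nat.eq_of_mul_eq_mul_left (by norm_num) h1

theorem decomp (h : centralizer ({z} : Set G)) : ∃ x < 8192, ∃ k : centralizer ({z} : Set G),
    k.1 ∈ normalizer (zpowers p : Set G) ∧ μ k = μ h ∧ h.1 = θ x * k := by
  obtain ⟨k, hk, e⟩ := S.frat _ (S.μ_mem h)
  obtain ⟨x, hx, e'⟩ := (S.core _).1 ((S.ker (h * k⁻¹)).1 (by rw [map_mul, map_inv, e, mul_inv_cancel]))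
  exact ⟨x, hx, k, hk, e, by rw [e']; simp⟩

theorem exK {L : List ℕ} {K : Subgroup (MulAut (XV 12))} (hL : CodesIn IR L K) (hK : K ≤ X) {c : ℕ} (hc : c ∈ L) :
    ∃ k : centralizer ({z} : Set G), k.1 ∈ normalizer (zpowers p : Set G) ∧ IR c (μ k) := by
  obtain ⟨g, hg, h⟩ := hL c hc
  obtain ⟨k, hk, e⟩ := S.frat g (hK hg)
  exact ⟨k, hk, e ▸ h⟩

theorem es : LES.ES (twoCoreOfCentralizer z) z := by
  have F := S.toFr
  refine ⟨F.oz, F.hz ▸ S.θE (by norm_num), fun y hy => ?_, fun x hx h => ?_, fun x hx y hy => ?_, fun x hx => ?_,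
    θ 1, S.θE (by norm_num), θ 2, S.θE (by norm_num), by rw [F.comm_iff (by norm_num) (by norm_num)]; decide +kernel⟩
  · obtain ⟨x, hx, rfl⟩ := (S.core _).1 hy; exact F.cz hx
  · obtain ⟨x, hx', rfl⟩ := (S.core _).1 hx
    have key : ∀ v < 4096, (∀ i < 12, bf v (2 ^ i) = 0) → v = 0 := fun v hv h => by
      rw [← pack_bf v hv]
      exact (pack_congr (v' := fun _ => 0) fun i hi => h _ (by interval_cases i <;> decide)).trans
        (by decide +kernel)
    have h' : ∀ i < 12, bf x (2 ^ i) = 0 := fun i hi =>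
      have := (pow_lt12 hi).trans (show 4096 < 8192 by norm_num)
      (F.comm_iff hx' this).1 (h _ (S.θE this))
    rcases split_z hx' with hv | ⟨v, hv, rfl⟩
    · left; rw [key x hv h', F.θ0]
    · right
      rw [key v hv fun i hi => by simpa only [bf_eq, bt_xor, bt_xor', bt_z, bt_z', Nat.xor_zero] using h' i hi,
        Nat.zero_xor, F.hz]
  · obtain ⟨x, hx', rfl⟩ := (S.core _).1 hx
    obtain ⟨y, hy', rfl⟩ := (S.core _).1 hy
    rw [F.conjE hx' hy', F.θb hy' (bf_lt _ _)]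
    have := bf_lt x y
    generalize bf x y = b at *
    interval_cases b <;> simp
  · obtain ⟨x, hx', rfl⟩ := (S.core _).1 hx
    rw [F.sq hx']
    have := bt_lt x x
    generalize bt x x = b at *
    interval_cases b <;> simp

theorem le [Finite G] : LES.LE (twoCoreOfCentralizer z) z :=
  LES.LE.of_core S.toFr.oz S.es.isExtraspecial S.cent

/-- an element of `H` centralising `E` is `1` or `z`. -/
theorem eq_of_cent [Finite G] {g : G} (h : ∀ x < 8192, g * θ x * g⁻¹ = θ x) : g = 1 ∨ g = z :=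
  S.le.cQ g fun y hy => by
    obtain ⟨x, hx, rfl⟩ := (S.core _).1 hy; exact mul_inv_eq_iff_eq_mul.1 (h x hx)

/-- elements of `N_H(p)` with the same matrix agree up to `z`. -/
theorem eq_of_μ [Finite G] {k k' : centralizer ({z} : Set G)} (hk : k.1 ∈ normalizer (zpowers p : Set G))
    (hk' : k'.1 ∈ normalizer (zpowers p : Set G)) (e : μ k = μ k') : k.1 = k' ∨ k.1 = k' * z := by
  obtain ⟨c, hc⟩ := S.exists_IR k
  rcases S.eq_of_cent (g := k'.1⁻¹ * k.1) (fun x hx => by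
    have h1 := S.kact hk hc.1 hx
    have h2 := S.kact hk' (e ▸ hc.1) hx
    rw [← h2] at h1
    have : k'.1⁻¹ * k.1 * θ x * (k'.1⁻¹ * k.1)⁻¹ = k'.1⁻¹ * (k * θ x * k⁻¹) * k' := by simp [mul_assoc]
    rw [this, h1]; simp [mul_assoc]) with h | h
  · left; rw [inv_mul_eq_one.1 h]
  · right; exact inv_mul_eq_iff_eq_mul.1 h

theorem μp : μ ⟨p, S.pH⟩ = wA := by
  obtain ⟨c, hc⟩ := S.exists_IR ⟨p, S.pH⟩
  refine hc.1.func (col_ext hc.1.1 IR_wA.1.1 (fun i hi => ?_) ▸ IR_wA.1)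
  obtain ⟨b, hb, e⟩ := S.act' _ hc.1 ((pow_lt12 hi).trans (show 4096 < 8192 by norm_num))
  have e' := S.toFr.pθ' (pow_lt12 hi)
  rw [← app_pow _ hi, ← app_pow _ hi]
  exact (S.toFr.cancel (app_lt _ _) (app_lt _ _) hb two_pos (by rw [← e, pow_zero, mul_one, ← e']; rfl)).1
end St

end Cfsg.Agent.F24T
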