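import Cfsg.Agent.F24T.N
import Cfsg.Agent.F24T.M24

/-! `TT μ` is a Sylow `2`-subgroup and `V` is its Thompson subgroup (helper8). -/

set_option autoImplicit false

namespace Cfsg.Agent.F24T
open Cfsg.Agent.Comp Subgroup J4T

theorem exists_conj_eq {H : Type*} [Group H] [Finite H] (T : Sylow 2 H) {S : Subgroup H} {k : ℕ}
    (h : Nat.card S = 2 ^ k) (h' : ¬ 2 ^ (k + 1) ∣ Nat.card H) :
    ∃ g : H, (T : Subgroup H).map (MulAut.conj g).toMonoidHom = S := by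
  have := Fact.mk Nat.prime_two
  obtain ⟨g, hg⟩ := MulAction.exists_smul_eq H T ((IsPGroup.of_card h).toSylow fun e => h' (by
    rw [← S.card_mul_index, h, pow_succ]; exact mul_dvd_mul_left _ e))
  exact ⟨g, congrArg Sylow.toSubgroup hg⟩

variable {G : Type*} [Group G] [Finite G] {z p : G} {θ : ℕ → G} {μ : centralizer ({z} : Set G) →* MulAut (XV 12)}
  {x : ℕ → G} {ν : XV 11 →* G} {f : ℕ}

omit [Finite G] in
theorem ea_range (ν : XV 11 →* G) : IsElementaryAbelian 2 ν.range :=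
  ⟨⟨⟨by rintro ⟨_, a, rfl⟩ ⟨_, b, rfl⟩; exact Subtype.ext ((Commute.all a b).map ν).eq⟩⟩, by
    rintro _ ⟨a, rfl⟩; rw [← map_pow, XV.sq, map_one]⟩

namespace Bt

theorem V_le (B : Bt z p θ μ x ν f) : ν.range ≤ TT μ := by
  rintro _ ⟨v, rfl⟩; exact ⟨⟨_, B.νH v⟩, Rs_le (B.μν_mem v), rfl⟩

theorem uniqT (B : Bt z p θ μ x ν f) {A : Subgroup G} (hA : A ≤ TT μ) (h2 : ∀ a ∈ A, a * a = 1)
    (hc : 2 ^ 11 ≤ Nat.card A) : A = ν.range :=
  B.uniq' (hA.trans (map_subtype_le _)) h2 hc fun a ha =>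
    let ⟨c, hc, e⟩ := hA ha; (Subtype.ext e : c = a) ▸ hc

theorem max_eq (B : Bt z p θ μ x ν f) {P : Type*} [Group P] {φ : P →* G} (hφ : Function.Injective φ)
    (h : φ.range = TT μ) : maxElementaryAbelianSubgroups 2 P = {ν.range.comap φ} ∧
      Nat.card (ν.range.comap φ) = 2 ^ 11 := by
  have c : Nat.card (ν.range.comap φ) = 2 ^ 11 := by
    rw [← card_map_of_injective hφ, map_comap_eq_self (h ▸ B.V_le), B.card_V]; rfl
  have e : IsElementaryAbelian 2 (ν.range.comap φ) := ⟨⟨⟨fun a b => Subtype.ext (hφ (by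
      obtain ⟨u, hu⟩ := a.2; obtain ⟨v, hv⟩ := b.2
      simp only [coe_mul, map_mul, ← hu, ← hv]; exact ((Commute.all u v).map ν).eq))⟩⟩,
    fun a ha => hφ (by rw [map_pow, (ea_range ν).2 _ ha, map_one])⟩
  have u : ∀ A : Subgroup P, IsElementaryAbelian 2 A → 2 ^ 11 ≤ Nat.card A → A = ν.range.comap φ := fun A h1 h2 => by
    rw [← B.uniqT (A := A.map φ) (h ▸ map_le_range _ _) (by
      rintro _ ⟨a, ha, rfl⟩; rw [← map_mul, ← sq, h1.2 a ha, map_one]) (by rwa [card_map_of_injective hφ]),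
      comap_map_eq_self_of_injective hφ]
  refine ⟨Set.eq_singleton_iff_unique_mem.2 ⟨⟨e, fun A hA => ?_⟩, fun A hA => u A hA.1 (c ▸ hA.2 _ e)⟩, c⟩
  exact (le_total _ _).elim id fun h => (u A hA (c ▸ h)) ▸ le_rfl

theorem card_VE (B : Bt z p θ μ x ν f) : Nat.card ↥(ν.range ⊓ twoCoreOfCentralizer z) = 2 ^ 7 := by
  rw [← Nat.card_eq_of_bijective (fun a : Fin 128 => (⟨ν (XV.mk' 11 a), ⟨_, rfl⟩, B.νU a.2 ▸ B.toSt.θE (ut_lt _)⟩ :
    ↥(ν.range ⊓ twoCoreOfCentralizer z))) ⟨fun a b e => Fin.ext ?_, ?_⟩]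
  · simp
  · rintro ⟨_, ⟨v, rfl⟩, h⟩
    exact ⟨⟨v.val, B.V_inter_E h⟩, Subtype.ext (congrArg ν (XV.mk'_self v))⟩
  · have := congrArg XV.val (B.injν (congrArg Subtype.val e))
    rwa [XV.mk'_val (by omega), XV.mk'_val (by omega)] at this

variable (B : Bt z p θ μ x ν 3) (hy : ∃ y, VR ν cY y)
include B hy

theorem vs : Vs ν := ⟨B.injν, B.autom hy, fun _ => B.real hy, fun _ => B.cent_V⟩

theorem not_dvd : ¬ 2 ^ 22 ∣ Nat.card G := fun h => by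
  have := Fact.mk Nat.prime_two
  have h1 : normalizer (TT μ : Set G) ≤ normalizer (ν.range : Set G) := fun g hg => by
    have := B.uniqT (A := ν.range.map (MulAut.conj g).toMonoidHom) (by
      rintro _ ⟨a, ha, rfl⟩; exact (mem_normalizer_iff.1 hg a).1 (B.V_le ha)) (by
      rintro _ ⟨a, ha, rfl⟩; rw [← map_mul, ← sq, (ea_range ν).2 a ha, map_one]) (by rw [card_map_conj, B.card_V]; rfl)
    exact mem_normalizer_fintype fun a ha => this.le ⟨a, ha, rfl⟩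
  have h2 := (Sylow.prime_pow_dvd_card_normalizer h B.card_TT).trans (card_dvd_of_le h1)
  rw [(B.vs hy).card_N] at h2
  norm_num at h2

theorem orbM {v : XV 11} (h : v ≠ 1) : ∃ a ∈ Ms, a (XV.mk' 11 64) = v ∨ a (XV.mk' 11 2) = v := by
  obtain ⟨n, ⟨a, ha, hn⟩, e | ⟨e, -⟩⟩ := B.orbN hy h
  exacts [⟨a, ha, .inl (B.injν (by rw [← hn, B.νz, e]))⟩, ⟨a, ha, .inr (B.injν (by rw [← hn, B.νx, e]))⟩]

theorem thom (T : Sylow 2 G) : ∃ ν' : XV 11 →* G, Vs ν' ∧ thompsonSubgroupOf 2 (T : Subgroup G) = ν'.range ∧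
    IsConj z (ν' (XV.mk' 11 64)) ∧ ¬ IsConj z (ν' (XV.mk' 11 2)) := by
  obtain ⟨g, hg⟩ := exists_conj_eq T B.card_TT (B.not_dvd hy)
  have c : ∀ v, IsConj (ν v) (((MulAut.conj g⁻¹).toMonoidHom.comp ν) v) := fun v => isConj_iff.2 ⟨g⁻¹, rfl⟩
  refine ⟨_, (B.vs hy).conj g⁻¹, ?_, B.νz ▸ c _, fun h => B.toSt.not_fused X0_le (B.νx ▸ h.trans (c _).symm)⟩
  rw [thompsonSubgroupOf, thompsonSubgroup, (B.max_eq (φ := (MulAut.conj g).toMonoidHom.comp (T : Subgroup G).subtype)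
    ((MulAut.conj g).injective.comp Subtype.val_injective) (by rw [MonoidHom.range_comp, range_subtype, hg])).1,
    sSup_singleton]
  refine le_antisymm (by rintro _ ⟨a, ⟨v, h⟩, rfl⟩; exact ⟨v, by simp [h, mul_assoc]⟩) ?_
  rintro _ ⟨v, rfl⟩
  obtain ⟨a, ha, h⟩ := hg.ge (B.V_le ⟨v, rfl⟩)
  exact ⟨⟨a, ha⟩, ⟨v, h.symm⟩, by simp [← h, mul_assoc]⟩
end Bt

end Cfsg.Agent.F24T
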