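import Cfsg.Agent.F24T.XsF
import Cfsg.Agent.J4T.A1b
import Cfsg.Agent.Known.U43Eq

/-! `X0/⟨ω⟩ ≅ U₄(3)` (`exψ`), `card_X0`. -/

set_option autoImplicit false

namespace Cfsg.Agent.F24T
open Cfsg.Agent.Comp Subgroup J4T Known

def L8 : List ℕ := [0x400c0010030008004002001000400c002001, 0xc0080030020008004002001000c008002001,
  0xa80540e409c0b406c002d01b01e03902a015, 0x980740a405c0bc068002e01901603d03a025, 0x1d03b02901701a035580f40b806409407c0,
  0x3a02503702e02b016ec0980680d40f80a40, 0xc0080300200c0080000100300c008020010, 0x8bf46a2bf16aa3f52a54afc5562fd1568fd4, cW]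
def evC (w : List ℕ) : ℕ := List.rec one12 (fun x _ ih => mulM ih (nthL one12 L8 x)) w

theorem IR_evC {g : ℕ → MulAut (XV 12)} (h : ∀ i, IR (nthL one12 L8 i) (g i)) (w : List ℕ) : IR (evC w) (Spor.ev g w) := by
  induction w with
  | nil => exact isGrp_IR.one
  | cons a w ih => exact isGrp_IR.mul ih (h a)

theorem le_Cw {L : List ℕ} (h : allL L (fun c => Nat.beq (mulM c cW) (mulM cW c)) = true) : closure (genSet IR L) ≤ Cw :=
  (closure_le _).2 fun _ ⟨c, hc, hg⟩ => mem_Cw.2 (comm_of_IR hg IR_wA (allL_iff.1 h c hc))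

theorem X0_Cw : X0 ≤ Cw := le_Cw (by decide +kernel)
theorem wA_X0 : wA ∈ X0 := subset_closure ⟨cW, by simp [LX0], IR_wA⟩
theorem W_X0 : zpowers wA ≤ X0 := zpowers_le.2 wA_X0
theorem card_W : Nat.card (zpowers wA) = 3 := by
  rw [Nat.card_zpowers]; have := Fact.mk Nat.prime_three; exact orderOf_eq_prime wA3 wA_ne

instance normW : ((zpowers wA).subgroupOf Cw).Normal := ⟨fun n hn g => by
  have : Commute g.1 n.1 := by
    obtain ⟨j, hj⟩ := hn
    rw [← show wA ^ j = n.1 from hj]; exact Commute.zpow_right (mem_Cw.1 g.2) j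
  rwa [show g * n * g⁻¹ = n from Subtype.ext (mul_inv_eq_iff_eq_mul.2 this.eq)]⟩

theorem exψ' : Nat.card X0 = 9797760 ∧ ∃ ψ : X0 →* U43P.G, Function.Surjective ψ ∧ ∀ x, ψ x = 1 ↔ x.1 ∈ zpowers wA := by
  have : Finite U43P.G := Nat.finite_of_card_ne_zero (by rw [U43P.card]; norm_num)
  have c8 : CodesIn IR L8 (closure (genSet IR L8)) := codes_of_okI (by decide +kernel)
  obtain ⟨g, hg, hr⟩ := isGrp_IR.exists_elts (c8.mono (le_Cw (by decide +kernel)))
  let π := QuotientGroup.mk' ((zpowers wA).subgroupOf Cw)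
  have e1 : ∀ w, Spor.ev (fun i => π ⟨g i, hg i⟩) w = 1 ↔ Spor.ev g w ∈ zpowers wA := fun w => by
    have : ∃ h : Spor.ev g w ∈ Cw, Spor.ev (fun i => π ⟨g i, hg i⟩) w = π ⟨_, h⟩ := by
      induction w with
      | nil => exact ⟨one_mem _, (map_one π).symm⟩
      | cons a w ih => obtain ⟨h, e⟩ := ih; exact ⟨mul_mem h (hg a), by rw [Spor.ev_cons, e, ← map_mul]; rfl⟩
    obtain ⟨h, e⟩ := this
    rw [e]; exact QuotientGroup.eq_one_iff _
  obtain ⟨φ, hφ⟩ := U43P.lifts _ (fun i => π ⟨g i, hg i⟩) fun r h => (e1 r).2 (by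
    obtain ⟨a, ha, h'⟩ := of_memLW (memL_iff.1 (allL_iff.1 (by decide +kernel :
      allL U43P.rels (fun r => memL (evC r) LW) = true) r h))
    exact isCanon_IR.func h' (IR_evC hr r) ▸ ha)
  have h1 : X0 ≤ (φ.range.comap π).map Cw.subtype := closure_le_of_words (L := L8) (fun c hc => by
    obtain ⟨i, hi, rfl⟩ := exists_nthL hc
    have hi' : i < 9 := hi
    refine ⟨g i, ⟨⟨_, hg i⟩, ?_, rfl⟩, by convert hr i using 1; interval_cases i <;> rfl⟩
    by_cases h8 : i < 8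
    · exact ⟨_, hφ i h8⟩
    · obtain rfl : i = 8 := by omega
      exact ⟨1, (map_one φ).trans ((QuotientGroup.eq_one_iff (⟨_, hg 8⟩ : Cw)).2 (show g 8 ∈ zpowers wA from
        isCanon_IR.func IR_wA (hr 8) ▸ mem_zpowers _)).symm⟩)
    [[9, 12, 4, 8], [4, 0, 5, 14, 5, 1, 14], [4, 8, 13, 14, 0, 13, 8, 14, 0, 9], [14, 0, 4, 14, 13, 4, 0]] (by decide +kernel)
  have h2 : Nat.card ((φ.range.comap π).map Cw.subtype) = Nat.card φ.range * 3 := by
    rw [card_map_of_injective (subtype_injective _), Solv.card_comap_mk',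
      Nat.card_congr (subgroupOfEquivOfLe W_le_Cw).toEquiv, card_W, mul_comm]
  have h3 : Nat.card φ.range ≤ 3265920 := U43P.card ▸ Nat.card_le_card_of_surjective _ φ.rangeRestrict_surjective
  have h4 := card_le_of_le h1
  have h5 := le_card_X0
  have h6 := eq_of_le_of_card_ge h1 (by omega)
  have bij : Function.Bijective φ.rangeRestrict :=
    (Nat.bijective_iff_surjective_and_card _).2 ⟨φ.rangeRestrict_surjective, by rw [U43P.card]; omega⟩
  let e := MulEquiv.ofBijective _ bij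
  have m : ∀ x : X0, π (inclusion X0_Cw x) ∈ φ.range := fun x => by
    obtain ⟨y, hy, e⟩ := h1 x.2; exact (show y = inclusion X0_Cw x from Subtype.ext e) ▸ hy
  refine ⟨by omega, e.symm.toMonoidHom.comp ((π.comp (inclusion X0_Cw)).codRestrict _ m), e.symm.surjective.comp ?_,
    fun x => ?_⟩
  · rintro ⟨y, hy⟩
    obtain ⟨c, rfl⟩ := QuotientGroup.mk'_surjective _ y
    exact ⟨⟨c, h6.ge ⟨c, hy, rfl⟩⟩, rfl⟩
  · rw [MonoidHom.comp_apply, MulEquiv.coe_toMonoidHom, MulEquiv.map_eq_one_iff, Subtype.ext_iff]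
    exact QuotientGroup.eq_one_iff _

theorem card_X0 : Nat.card X0 = 9797760 := exψ'.1
theorem exψ : ∃ ψ : X0 →* U43P.G, Function.Surjective ψ ∧ ∀ x, ψ x = 1 ↔ x.1 ∈ zpowers wA := exψ'.2
theorem sgsX0 : SGS 12 400 [3584, 85, 1942, 5, 6] sgX0 X0 := ⟨by decide +kernel, codes_sgX0, card_X0.trans_le (by decide +kernel)⟩

end Cfsg.Agent.F24T
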