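import Cfsg.Agent.F24T.St

/-! Stabilisers in `Xs` (given its order): `mem_Bs` (an element preserving the fixed space `U` of `Rs` lies in `Bs`),
`mem_Rs` (the pointwise stabiliser of `U` is `Rs`), `card_Bs`; the table `ut` of `uel`, coordinates `ucoord`. -/

set_option autoImplicit false

namespace Cfsg.Agent.F24T
open Cfsg.Agent.Comp Subgroup MulAction J4T

/-- generators fixing `b`. -/
abbrev fixL (L : List ℕ) (b : ℕ) : List ℕ := filterL (fun c => Nat.beq (app c b) b) L

/-- `L` is a strong generating set of `K` for the base `B`. -/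
structure SGS (n fuel : ℕ) (B L : List ℕ) (K : Subgroup (MulAut (XV n))) : Prop where
  base : allL B (fun b => Nat.blt b (Nat.pow 2 n)) = true
  codes : CodesIn (MR n) L K
  card : Nat.card K ≤ chainL app (fun a => a) fuel B L

namespace SGS
variable {n fuel b : ℕ} {B L : List ℕ} {K : Subgroup (MulAut (XV n))}

theorem le (h : SGS n fuel B L K) : K ≤ closure (genSet (MR n) L) :=
  (eq_of_le_of_card_ge (h.codes.closure_le fun _ _ _ => MR.func) (h.card.trans (chainM_le_card h.base h.codes.closure fuel))).ge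

theorem card_eq (h : SGS n fuel B L K) : Nat.card K = chainL app (fun a => a) fuel B L :=
  le_antisymm h.card (chainM_le_card h.base h.codes fuel)

theorem lt (h : SGS n fuel (b :: B) L K) : b < 2 ^ n := nblt.1 (allL_iff.1 h.base b List.mem_cons_self)

theorem stab (h : SGS n fuel (b :: B) L K) : SGS n fuel B (fixL L b) (K ⊓ stabilizer _ (XV.mk' n b)) := by
  refine ⟨allL_iff.2 fun c hc => allL_iff.1 h.base c (List.mem_cons_of_mem _ hc),
    h.codes.filter_fix isAct_MR VP.func (show VP n b _ from (XV.mk'_val h.lt).symm), ?_⟩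
  have h1 := card_eq_ncard_orbit_mul K (XV.mk' n b)
  have h2 := orbV_le h.codes fuel h.lt
  have h3 : Nat.card K ≤ lenL (orbV L fuel b) * chainL app (fun a => a) fuel B (fixL L b) := h.card
  have h4 : 0 < Nat.card K := Nat.card_pos
  rcases Nat.eq_zero_or_pos (lenL (orbV L fuel b)) with e | e
  · rw [e] at h3; omega
  · exact Nat.le_of_mul_le_mul_left (((Nat.mul_le_mul_right _ h2).trans_eq h1.symm).trans h3) e

theorem orb (h : SGS n fuel (b :: B) L K) {g : MulAut (XV n)} (hg : g ∈ K) : (g (XV.mk' n b)).val ∈ orbV L fuel b :=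
  orbV_complete h.codes h.le h.lt (fun e => by
    have h3 : Nat.card K ≤ lenL (orbV L fuel b) * chainL app (fun a => a) fuel B (fixL L b) := h.card
    have h4 : 0 < Nat.card K := Nat.card_pos
    rw [e, show lenL ([] : List ℕ) = 0 from rfl] at h3; omega) hg

/-- one step of sifting through a smaller group. -/
theorem sift (h : SGS n fuel (b :: B) L K) {L' : List ℕ} {K' : Subgroup (MulAut (XV n))} (h' : CodesIn (MR n) L' K')
    (hle : K' ≤ K) {P : ℕ → Bool} (hc : forceL (orbV L' fuel b) (fun l => allL (orbV L fuel b) fun v => force v fun v =>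
      bor (not (P v)) (memL v l)) = true) {g : MulAut (XV n)} (hg : g ∈ K) (hP : P (g (XV.mk' n b)).val = true) :
    ∃ k ∈ K', k⁻¹ * g ∈ K ⊓ stabilizer _ (XV.mk' n b) := by
  rw [forceL_eq] at hc
  have h3 := allL_iff.1 hc _ (h.orb hg)
  simp only [force_eq, hP, bor_eq, Bool.not_true, Bool.false_or, memL_iff] at h3
  obtain ⟨k, hk, e⟩ := orbV_reach h' h.lt h3
  exact ⟨k, hk, K.mul_mem (K.inv_mem (hle hk)) hg, by show k⁻¹ (g _) = _; rw [← XV.ext e]; simp⟩
end SGS

/-- fixed by `Rs`. -/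
def inU (v : ℕ) : Bool := allL LRg fun c => Nat.beq (app c v) v

theorem inU_iff {v : XV 12} : inU v.val = true ↔ ∀ g ∈ Rs, g v = v :=
  ⟨fun hv g hg => (closure_le (stabilizer (MulAut (XV 12)) v)).2 (fun g (⟨c, hc, hg⟩ : g ∈ genSet IR LRg) =>
    XV.ext (by show (g v).val = _; rw [hg.1.2]; exact nbeq.1 (allL_iff.1 hv c hc))) hg,
  fun h => allL_iff.2 fun c hc => let ⟨g, h1, h2⟩ := codesRg c hc; nbeq.2 (by rw [← h2.1.2, h g h1])⟩

theorem Bs_conj {g r : MulAut (XV 12)} (hg : g ∈ Bs) (hr : r ∈ Rs) : g * r * g⁻¹ ∈ Rs := by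
  have : Bs ≤ normalizer (Rs : Set (MulAut (XV 12))) := (closure_le _).2 fun g ⟨c, hc, hg⟩ =>
    mem_normalizer_fintype fun r hr => by
      obtain ⟨d, hd, h⟩ := listsR r hr
      obtain ⟨a, ha, h'⟩ := codesR _ (memL_iff.1 (allL_iff.1 (allL_iff.1 (by decide +kernel : allL LB (fun c => allL LR
        fun d => memL (conjC mulM invM c d) LR) = true) c hc) d hd))
      exact isCanon_IR.func h' (isGrp_IR.conj hg h) ▸ ha
  exact (mem_normalizer_iff.1 (this hg) r).1 hr

theorem Bs_inU {g : MulAut (XV 12)} (hg : g ∈ Bs) {v : XV 12} (h : inU v.val = true) : inU (g v).val = true :=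
  inU_iff.2 fun r hr => by
    have := inU_iff.1 h _ (Bs_conj (inv_mem hg) hr)
    rw [inv_inv, MulAut.mul_apply, MulAut.mul_apply] at this
    simpa using congrArg g this

section
variable (hX : Nat.card Xs = 19595520)
include hX

theorem sgsX : SGS 12 400 [3584, 85, 1942, 5, 6] sgX Xs := ⟨by decide +kernel, codes_sgX, hX.trans_le (by decide +kernel)⟩

theorem card_stab_x : Nat.card ↥(Xs ⊓ stabilizer (MulAut (XV 12)) (XV.mk' 12 x0)) = 51840 :=
  (sgsX hX).stab.card_eq.trans (by decide +kernel)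

theorem fix_eq : Rs = Xs ⊓ stabilizer _ (XV.mk' 12 3584) ⊓ stabilizer _ (XV.mk' 12 85) ⊓ stabilizer _ (XV.mk' 12 1942) :=
  eq_of_le_of_card_ge (fun g hg =>
    have k : ∀ b < 4096, inU b = true → g ∈ stabilizer _ (XV.mk' 12 b) := fun b hb h =>
      inU_iff.1 (by rwa [XV.mk'_val hb]) g hg
    ⟨⟨⟨Bs_le (Ts_le (Rs_le hg)), k _ (by norm_num) (by decide +kernel)⟩, k _ (by norm_num) (by decide +kernel)⟩,
      k _ (by norm_num) (by decide +kernel)⟩)
    ((sgsX hX).stab.stab.stab.card.trans (by rw [card_Rs]; decide +kernel))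

theorem mem_Rs {g : MulAut (XV 12)} (hg : g ∈ Xs) (h : ∀ v : XV 12, inU v.val = true → g v = v) : g ∈ Rs :=
  have k : ∀ b < 4096, inU b = true → g ∈ stabilizer _ (XV.mk' 12 b) := fun b hb h' => h _ (by rwa [XV.mk'_val hb])
  (fix_eq hX).ge ⟨⟨⟨hg, k _ (by norm_num) (by decide +kernel)⟩, k _ (by norm_num) (by decide +kernel)⟩,
    k _ (by norm_num) (by decide +kernel)⟩

theorem mem_Bs {g : MulAut (XV 12)} (hg : g ∈ Xs) (h : ∀ v : XV 12, inU v.val = true → inU (g v).val = true) :
    g ∈ Bs := by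
  have S := sgsX hX
  have u : ∀ b < 4096, inU b = true → inU (XV.mk' 12 b).val = true := fun b hb h' => by rwa [XV.mk'_val hb]
  have c1 := codes_sgB.filter_fix isAct_MR VP.func (show VP 12 3584 _ from (XV.mk'_val S.lt).symm)
  have c2 := c1.filter_fix isAct_MR VP.func (show VP 12 85 _ from (XV.mk'_val S.stab.lt).symm)
  obtain ⟨a, ha, h1⟩ := S.sift codes_sgB Bs_le (P := inU) (by decide +kernel) hg (h _ (u _ (by norm_num) (by decide +kernel)))
  obtain ⟨b, hb, h2⟩ := S.stab.sift c1 (inf_le_inf_right _ Bs_le) (P := inU) (by decide +kernel) h1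
    (Bs_inU (inv_mem ha) (h _ (u _ (by norm_num) (by decide +kernel))))
  obtain ⟨c, hc, h3⟩ := S.stab.stab.sift c2 (inf_le_inf_right _ (inf_le_inf_right _ Bs_le)) (P := inU)
    (by decide +kernel) h2 (Bs_inU (inv_mem hb.1) (Bs_inU (inv_mem ha) (h _ (u _ (by norm_num) (by decide +kernel)))))
  simpa using mul_mem ha (mul_mem hb.1 (mul_mem hc.1.1 (Ts_le (Rs_le ((fix_eq hX).ge h3)))))
end

def ut (a : ℕ) : ℕ := get 13 8191 0x84b430fd2dec3b805d57201955cbee4a2efb728f75fafa1d70be820c053c83e14bebde0b3af982cd567fef557fff1e79a607906987fc2abdffeaabb4dcf32d393cc8a6506e29741f417b5e1050d781441f7c51e7dbdf5faf37d9ebce1e65af87796f2af8020ab00004b030dd2cec33801d552009554bea4a0efa728775baf81d60be0208051c82e143eb9e093ae9824d527fcf547ff71e39a407806907f82a9dfeeaa3b49cf12d293c48a2504e287417413b5c1040d701401f5c50e7d3df1fad37c9eb4e1a658f8679672ab8000aa000 a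
theorem ut_eq : ∀ a < 128, ut a = uel a := by decide +kernel
theorem ut_lt (a : ℕ) : ut a < 8192 := get_lt (w := 13) rfl _ _
theorem ut_mul : ∀ a < 128, ∀ b < 128, emul (ut a) (ut b) = ut (a ^^^ b) := by
  have : allLt 128 (fun a => allLt 128 fun b => Nat.beq (emul (ut a) (ut b)) (ut (Nat.xor a b))) = true := by
    decide +kernel
  exact fun a ha b hb => nbeq.1 (allLt_iff.1 (allLt_iff.1 this a ha) b hb)
theorem ut_R : ∀ c ∈ LRg, ∀ a < 128, kact c (ut a) = ut a := by decide +kernel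
theorem ut_inj : ∀ a < 128, ut a = 0 → a = 0 := by decide +kernel
theorem ut_inU : ∀ a < 128, inU (ut a % 4096) = true := by decide +kernel

/-- coordinates (mod `z`) of a vector of `U`. -/
def ucoord (e : ℕ) : ℕ := pack 1 6 fun i => par (Nat.land e (nthL 0 [267, 525, 13, 269, 258, 261] i))
theorem ucoord_lt (e : ℕ) : ucoord e < 64 := pack_lt (w := 1) (k := 6) fun _ _ => par_lt _
theorem ut_of_perp : ∀ e < 4096, (∀ i < 6, bf e (ut (2 ^ i)) = 0) → ut (ucoord e) % 4096 = e :=
  all4096 (f := fun e => bor (anyLt 6 fun i => Nat.beq (bf e (ut (Nat.pow 2 i))) 1)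
    (Nat.beq (Nat.mod (ut (ucoord e)) 4096) e)) (by decide +kernel) fun e h h' => by
    simp only [bor_eq, Bool.or_eq_true, anyLt_iff, nbeq] at h
    rcases h with ⟨i, hi, h⟩ | h
    · exact absurd (h.symm.trans (h' i hi)) one_ne_zero
    · exact h
theorem ut_of_inU : ∀ e < 4096, inU e = true → ut (ucoord e) % 4096 = e :=
  all4096 (f := fun e => bor (not (inU e)) (Nat.beq (Nat.mod (ut (ucoord e)) 4096) e)) (by decide +kernel)
    fun e h h' => by simp only [bor_eq, h', Bool.not_true, Bool.false_or, nbeq] at h; exact h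

end Cfsg.Agent.F24T
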