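import Cfsg.Agent.F24T.B1
import Cfsg.Agent.F24T.B2
import Cfsg.Agent.F24T.B3

/-! Step B: if `z` is fused to `s = θ s0`, an element `y` of `E_s` normalises `V` and its action is forced:
`f = 3` and `VR ν cY y` (`Bt.exists_y`). -/

set_option autoImplicit false

namespace Cfsg.Agent.F24T
open Cfsg.Agent.Comp Subgroup Cfsg.Agent.BG LES J4T

def eQ (i : ℕ) : ℕ := nthL 0 [0, 0, 0, 1280, 1285, 0, 0, 0, 1] i
theorem actE_eQ (f : ℕ) : ∀ i < 9, J4T.actE (nthL (0, [], 0) (EQ f) i).1 = actE (eQ i) := fun i hi => by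
  rw [show (nthL (0, [], 0) (EQ f) i).1 = nthL 0 [0, 0, 0, 235, 158, 0, 0, 0, 1] i by interval_cases i <;> rfl]
  revert i; decide +kernel

variable {G : Type*} [Group G] [Finite G] {z p : G} {θ : ℕ → G} {μ : centralizer ({z} : Set G) →* MulAut (XV 12)}
  {x : ℕ → G} {ν : XV 11 →* G} {f : ℕ}

namespace Bt
variable (B : Bt z p θ μ x ν f)
include B

theorem uniq' {A : Subgroup G} (hA : A ≤ centralizer {z}) (h2 : ∀ a ∈ A, a * a = 1) (hc : 2 ^ 11 ≤ Nat.card A)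
    (hT : ∀ a : centralizer ({z} : Set G), a.1 ∈ A → μ a ∈ Ts) : A = ν.range :=
  eq_of_le_of_card_ge (fun a ha => let h := B.toSt.uniq hA h2 hc hT ⟨a, hA ha⟩ ha
    B.memV (g := ⟨a, hA ha⟩) h.1 fun u hu => ut_eq u hu ▸ h.2 u hu) (B.card_V ▸ hc)

variable {g : G} (hg : g * z * g⁻¹ = θ s0)
include hg

theorem pair : Pair (cj g (twoCoreOfCentralizer z)) (twoCoreOfCentralizer z) (θ s0) z := by
  have := B.toSt.le.pair (g := g) (by rw [B.toSt.card_E]; norm_num) (hg ▸ B.toSt.θE (by decide)) (by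
    rw [hg, ← B.hz]; exact fun e => absurd (B.inj _ (by decide) _ (by decide) e) (by decide))
  rw [hg] at this; exact this.symm

theorem KR_mem {c : ℕ} {k : G} (h : KR p μ c k) (hc : c ∈ LA) : k ∈ cj g (twoCoreOfCentralizer z) :=
  let ⟨a, b, d⟩ := h; B.toSt.A' hg hc ⟨k, a⟩ b d.1

theorem U_mem : ∀ j < 128, ν (XV.mk' 11 (app cU7 j)) ∈ cj g (twoCoreOfCentralizer z) := by
  have l := app_lt_of (n := 11) (c := cU7) (by norm_num) (by decide +kernel)
  refine xind (n := 7) (P := fun j => ν (XV.mk' 11 (app cU7 j)) ∈ _) (by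
    rw [app_zero, show XV.mk' 11 0 = 1 from rfl, map_one]; exact one_mem _) (fun i hi => ?_) fun a ha b hb h1 h2 => by
      rw [app_xor, mk'_xor (l a (by omega)) (l b (by omega)), map_mul]; exact mul_mem h1 h2
  have h1 : ∀ i < 5, app cU7 (2 ^ i) < 128 ∧ ut (app cU7 (2 ^ i)) % 4096 ∈ LD := by decide +kernel
  by_cases h : i < 5
  · rw [B.νU (h1 i h).1]; exact (B.toSt.D hg (ut_lt _)).2 (h1 i h).2
  · obtain rfl | rfl : i = 5 ∨ i = 6 := by omega
    · rw [show app cU7 (2 ^ 5) = 128 * 2 by decide +kernel, B.νrho (by norm_num)]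
      exact B.KR_mem hg (KR_rho B.hx 2) (by decide +kernel)
    · rw [show app cU7 (2 ^ 6) = 128 * 8 by decide +kernel, B.νrho (by norm_num)]
      exact B.KR_mem hg (KR_rho B.hx 8) (by decide +kernel)

theorem mem_V_of {a : G} (ha : a ∈ cj g (twoCoreOfCentralizer z))
    (h : ∀ j < 7, Commute a (ν (XV.mk' 11 (col cU7 j)))) : a ∈ ν.range := by
  have l := app_lt_of (n := 11) (c := cU7) (by norm_num) (by decide +kernel)
  have l' : ∀ v : XV 7, app cU7 v.val < 2 ^ 11 := fun v => l _ (v.lt.trans (by norm_num))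
  let ι7 : XV 7 →* XV 11 := MonoidHom.mk' (fun v => ⟨app cU7 v.val, l' v⟩) fun a b => XV.ext (app_xor cU7 a.val b.val)
  have e : ∀ v, ι7 v = XV.mk' 11 (app cU7 v.val) := fun v => XV.ext (XV.mk'_val (l' v)).symm
  have i7 : Function.Injective ι7 := (injective_iff_map_eq_one _).2 fun v hv =>
    XV.ext ((by decide +kernel : ∀ v < 128, app cU7 v = 0 → v = 0) _ v.lt (congrArg XV.val hv))
  have hW : (ν.comp ι7).range ≤ cj g (twoCoreOfCentralizer z) := by
    rintro _ ⟨v, rfl⟩; rw [MonoidHom.comp_apply, e]; exact B.U_mem hg _ v.lt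
  have c1 : Nat.card (ν.comp ι7).range = 128 := by
    rw [← Nat.card_congr (MonoidHom.ofInjective (show Function.Injective (ν.comp ι7) from B.injν.comp i7)).toEquiv, XV.card]; rfl
  have c2 := (B.pair hg).hQ.card_cent hW ⟨⟨1, by norm_num⟩, by
    rw [MonoidHom.comp_apply, e, ← B.νs]; exact congrArg (fun t => ν (XV.mk' 11 t)) (by decide +kernel)⟩
  rw [c1, card_cj, B.toSt.card_E] at c2
  have c3 : (ν.comp ι7).range = cj g (twoCoreOfCentralizer z) ⊓ centralizer ((ν.comp ι7).range : Set G) :=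
    eq_of_le_of_card_ge (le_inf hW (by
      rintro _ ⟨v, rfl⟩ _ ⟨w, rfl⟩; rw [← map_mul, ← map_mul, mul_comm])) (by omega)
  have : a ∈ (ν.comp ι7).range := c3 ▸ ⟨ha, by
    rintro _ ⟨v, rfl⟩
    rw [MonoidHom.comp_apply, e]
    exact (xind (n := 7) (P := fun j => Commute a (ν (XV.mk' 11 (app cU7 j)))) (by
      rw [app_zero, show XV.mk' 11 0 = 1 from rfl, map_one]; exact Commute.one_right _)
      (fun i hi => by rw [app_pow _ (by omega)]; exact h i hi) (fun a ha b hb h1 h2 => by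
        rw [app_xor, mk'_xor (l a (by omega)) (l b (by omega)), map_mul]; exact h1.mul_right h2) _ v.lt).eq.symm⟩
  obtain ⟨v, rfl⟩ := this
  exact ⟨_, rfl⟩

theorem code_eq {a a' : G} {c c' : ℕ} (h : VR ν c a ∧ a ∈ cj g (twoCoreOfCentralizer z))
    (h' : VR ν c' a' ∧ a' ∈ cj g (twoCoreOfCentralizer z)) (e : ∀ j < 7, app c (col cU7 j) = app c' (col cU7 j)) :
    c = c' := by
  have l : ∀ j < 7, col cU7 j < 2048 := by decide +kernel
  obtain ⟨w, hw⟩ := B.mem_V_of hg (mul_mem (inv_mem h'.2) h.2) fun j hj => mul_inv_eq_iff_eq_mul.1 (by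
    have : a'⁻¹ * a * ν (XV.mk' 11 (col cU7 j)) * (a'⁻¹ * a)⁻¹ = a'⁻¹ * (a * ν (XV.mk' 11 (col cU7 j)) * a⁻¹) * a' := by
      group
    rw [this, h.1.act (l j hj), e j hj, ← h'.1.act (l j hj)]; group)
  obtain ⟨b, h1, h2⟩ := h'.1
  refine h.1.canon B.injν ⟨b, h1, fun v => ?_⟩
  rw [← h2, ← mul_inv_cancel_left a' a, ← hw, mul_assoc a', ← map_mul, mul_comm w, map_mul]; group

omit hg in
theorem VR_cc {i : ℕ} (hi : i < 9) :
    VR ν (cc f i) (θ (eQ i) * wordG x (nthL (0, [], 0) (EQ f) i).2.1) := by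
  unfold cc
  rw [evalW_even _ (invN 11) _ _ _ (by interval_cases i <;> rfl), actE_eQ f i hi]
  exact isGrp_VR.mul (B.VR_E (by interval_cases i <;> exact Nat.lt_of_sub_eq_succ rfl)) (isGrp_VR.evalW B.hv _)

theorem exists_alam (l : ℕ) : ∃ a, VR ν (alam f l) a ∧ a ∈ cj g (twoCoreOfCentralizer z) := by
  have h : ∀ i < 5, ∃ a, VR ν (cc f i) a ∧ a ∈ cj g (twoCoreOfCentralizer z) := fun i hi =>
    ⟨_, B.VR_cc (by omega), mul_mem ((B.toSt.D hg (by interval_cases i <;> exact Nat.lt_of_sub_eq_succ rfl)).2 (by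
      interval_cases i <;> decide +kernel))
      (B.KR_mem hg (isGrp_KR.evalW B.hx _) (by
        interval_cases i <;> simp only [EQ, nthL_eq, List.getD_cons_succ, List.getD_cons_zero] <;> decide +kernel))⟩
  have I := isGrp_and (isGrp_VR (ν := ν)) (cj g (twoCoreOfCentralizer z))
  obtain ⟨a0, h0⟩ := h 0 (by decide); obtain ⟨a1, h1⟩ := h 1 (by decide); obtain ⟨a2, h2⟩ := h 2 (by decide)
  obtain ⟨a3, h3⟩ := h 3 (by decide); obtain ⟨a4, h4⟩ := h 4 (by decide)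
  exact ⟨_, I.mul (I.mul (I.mul (I.mul (I.pow h0 _) (I.pow h1 _)) (I.pow h2 _)) (I.pow h3 _)) (I.pow h4 _)⟩

theorem norm_V {y : G} (hy : y ∈ cj g (twoCoreOfCentralizer z)) : y ∈ normalizer (ν.range : Set G) := by
  have P := B.pair hg
  have k : ∀ v, y * ν v * y⁻¹ * (ν v)⁻¹ ∈ cj g (twoCoreOfCentralizer z) ⊓ centralizer {z} := fun v =>
    P.comm_Q hy (Pair.mem_CV.2 ⟨B.νs ▸ (Commute.all _ _).map ν, mem_centralizer_singleton_iff.1 (B.νH v)⟩)
  have := B.uniq' (A := ν.range.map (MulAut.conj y).toMonoidHom) (by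
      rintro _ ⟨_, ⟨v, rfl⟩, rfl⟩; simpa using mul_mem (k v).2 (B.νH v))
    (by rintro _ ⟨_, ⟨v, rfl⟩, rfl⟩; rw [← map_mul, ← map_mul, ← pow_two, XV.sq, map_one, map_one])
    (by rw [card_map_conj, B.card_V]; rfl) (by
      rintro a ⟨_, ⟨v, rfl⟩, e⟩
      have : a = ⟨_, (k v).2⟩ * ⟨_, B.νH v⟩ := Subtype.ext (by rw [← e]; simp)
      rw [this, map_mul]
      refine mul_mem ?_ (Rs_le (B.μν_mem v))
      obtain ⟨c, hc, h⟩ := B.toSt.A hg ⟨_, (k v).2⟩ (k v).1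
      obtain ⟨b, h1, h2⟩ := codesT c (memL_iff.1 (allL_iff.1 (by decide +kernel :
        allL LA (fun c => memL c LT) = true) c hc))
      exact isCanon_IR.func h2 h ▸ h1)
  exact mem_normalizer_fintype fun a ha => this ▸ ⟨a, ha, rfl⟩

theorem exists_y0 : ∃ Y y, (VR ν Y y ∧ y ∈ cj g (twoCoreOfCentralizer z)) ∧
    ∀ j < 7, app Y (col cU7 j) = app cY (col cU7 j) := by
  have P := B.pair hg
  obtain ⟨y, hy, e⟩ := P.exq
  obtain ⟨c, hc⟩ := exists_VR B.injν (B.norm_V hg hy)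
  have l : ∀ j < 7, col cU7 j < 2048 ∧ col cU7 j ^^^ 1 < 2048 ∧ app cU7 (2 ^ j) = col cU7 j := by decide +kernel
  have h1 : app c 1 = 1 := hc.val B.injν (by norm_num) (by norm_num) (by
    rw [B.νs]; exact mul_inv_eq_iff_eq_mul.2 (P.hQ.zc y hy).eq)
  have h2 : app c 64 = 65 := hc.val B.injν (by norm_num) (by norm_num) (by
    rw [show 65 = 64 ^^^ 1 from rfl, mk'_xor (by norm_num) (by norm_num), map_mul, B.νz, B.νs, e])
  have h3 : ∀ j < 7, ∃ b < 2, app c (col cU7 j) = col cU7 j ^^^ b := fun j hj => by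
    have := B.U_mem hg _ (Nat.pow_lt_pow_right (n := 7) one_lt_two hj)
    rw [(l j hj).2.2] at this
    rcases P.hQ.comm y hy _ this with e | e
    · exact ⟨0, two_pos, by rw [Nat.xor_zero]; exact hc.val B.injν (l j hj).1 (l j hj).1 e⟩
    · exact ⟨1, one_lt_two, hc.val B.injν (l j hj).1 (l j hj).2.1 (by
        rw [mk'_xor (l j hj).1 (by norm_num), map_mul, B.νs, e])⟩
  obtain ⟨b2, l2, k2⟩ := h3 2 (by decide); obtain ⟨b3, l3, k3⟩ := h3 3 (by decide)
  obtain ⟨b4, l4, k4⟩ := h3 4 (by decide); obtain ⟨b5, l5, k5⟩ := h3 5 (by decide)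
  obtain ⟨b6, l6, k6⟩ := h3 6 (by decide)
  obtain ⟨a, ha⟩ := B.exists_alam hg (b2 + 2 * b3 + 4 * b4 + 8 * b5 + 16 * b6)
  refine ⟨_, _, (isGrp_and isGrp_VR _).mul ⟨hc, hy⟩ ha, fun j hj => ?_⟩
  have h4 : ∀ f, f = 0 ∨ f = 3 → ∀ b2 < 2, ∀ b3 < 2, ∀ b4 < 2, ∀ b5 < 2, ∀ b6 < 2, ∀ j < 7,
      app (alam f (b2 + 2 * b3 + 4 * b4 + 8 * b5 + 16 * b6)) (col cU7 j) =
        col cU7 j ^^^ nthL 0 [0, 0, b2, b3, b4, b5, b6] j := by
    rintro _ (rfl | rfl) <;> decide +kernel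
  have h5 : ∀ b < 2, app c b = b := fun b hb => by interval_cases b; exacts [app_zero _, h1]
  have h6 : ∀ j < 7, app cY (col cU7 j) = if j = 1 then 65 else col cU7 j := by decide +kernel
  rw [app_mulM _ _ (col_lt _ _), h4 f B.hf _ l2 _ l3 _ l4 _ l5 _ l6 j hj, app_xor, h6 j hj]
  interval_cases j
  · exact (congrArg₂ _ h1 (app_zero _)).trans rfl
  · exact (congrArg₂ _ h2 (app_zero _)).trans rfl
  · exact (congrArg₂ _ k2 (h5 _ l2)).trans (Nat.xor_xor_cancel_right ..)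
  · exact (congrArg₂ _ k3 (h5 _ l3)).trans (Nat.xor_xor_cancel_right ..)
  · exact (congrArg₂ _ k4 (h5 _ l4)).trans (Nat.xor_xor_cancel_right ..)
  · exact (congrArg₂ _ k5 (h5 _ l5)).trans (Nat.xor_xor_cancel_right ..)
  · exact (congrArg₂ _ k6 (h5 _ l6)).trans (Nat.xor_xor_cancel_right ..)

theorem exists_y : f = 3 ∧ ∃ y, VR ν cY y := by
  obtain ⟨Y, y, hy, hU⟩ := B.exists_y0 hg
  have hU' : ∀ j < 2 ^ 7, app Y (app cU7 j) = app cY (app cU7 j) :=
    lin_ext (f := fun j => app Y (app cU7 j)) (g := fun j => app cY (app cU7 j)) (fun _ _ _ _ => by simp only [app_xor])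
      (fun _ _ _ _ => by simp only [app_xor]) fun i hi => by simp only [app_pow _ (show i < 12 by omega), hU i hi]
  have h1 : ∀ f, f = 0 ∨ f = 3 → allLt 9 (fun i => force (cc f i) fun C => force (ac f i) fun A =>
      band (Nat.beq (app C 1) 1) (allLt 7 fun j => anyLt 128 fun j' => force (app cU7 j') fun w =>
        band (Nat.beq (app C w) (col cU7 j)) (Nat.beq (app C (app cY w)) (app A (app cY (col cU7 j)))))) = true := by
    rintro _ (rfl | rfl) <;> decide +kernel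
  have h2 := h1 f B.hf
  simp only [allLt_iff, force_eq, band_eq, Bool.and_eq_true, nbeq, anyLt_iff] at h2
  obtain ⟨a, ha, ha'⟩ := hy.1
  have := Y_of_eqs B.hf ha hU fun i hi => by
    have hc := B.VR_cc hi
    generalize θ _ * wordG x _ = c at hc
    obtain ⟨b, hb⟩ := B.exists_alam hg (nthL (0, [], 0) (EQ f) i).2.2
    have c1 := hc.act (v := 1) (by norm_num)
    rw [(h2 i hi).1, B.νs] at c1
    have c2 := (B.pair hg).hQ.conj_mem (mul_inv_eq_iff_eq_mul.1 c1) hy.2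
    have c3 := isGrp_VR.conj hc hy.1
    generalize conjC _ _ _ _ = Z at c3
    have c4 : mulM Z (cc f i) = mulM (cc f i) Y := (isGrp_VR.mul c3 hc).canon B.injν (by
      simpa using isGrp_VR.mul hc hy.1)
    rw [← c4, B.code_eq hg ⟨c3, c2⟩ ((isGrp_and isGrp_VR _).mul hb hy) fun j hj => ?_]
    · rfl
    obtain ⟨j', hj', e1, e2⟩ := (h2 i hi).2 j hj
    rw [app_mulM _ _ (col_lt _ _), hU j hj, ← e1, ← app_mulM _ _ (app_lt _ _), c4, app_mulM _ _ (app_lt _ _),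
      hU' j' hj', e2, e1]; rfl
  exact ⟨this.1, y, this.2 ▸ hy.1⟩
end Bt

end Cfsg.Agent.F24T
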